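import Groth.Agent.VBCurves.Sub
import Groth.Agent.EulerDeg.FiniteSupport
import Groth.Agent.PicAux.Powers
import Groth.Agent.QCohMod.FTCriterion
import Groth.Agent.CohTwo.Glue

/-!
# Splitting extensions of line bundles by bundles without first cohomology
-/

set_option autoImplicit false

universe u

open CategoryTheory CategoryTheory.Limits AlgebraicGeometry TopologicalSpace

namespace Groth.VBCurves

variable (k : Type u) [Field k] {X : Scheme.{u}} [X.Over (Spec (CommRingCat.of k))]

include k in
/-- A short exact sequence with vanishing `H¹` on the left is surjective on global sections. -/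
theorem surjective_app_top {S : ShortComplex X.Modules} (hS : S.ShortExact)
    (h1 : Subsingleton (Coh.HH X S.X₁ 1)) : Function.Surjective (S.g.app ⊤) := by
  intro s
  have hx : Function.Surjective (Groth.EulerDeg.hMap k S.g 0) := fun y =>
    ((Groth.EulerDeg.exact_right k hS 0) y).1 (@Subsingleton.elim _ h1 _ _)
  obtain ⟨x, hx⟩ := hx ((Groth.EulerDeg.h0Equiv k S.X₃).symm s)
  refine ⟨Groth.EulerDeg.h0Equiv k S.X₂ x, ?_⟩
  rw [← (Groth.EulerDeg.h0Equiv k S.X₃).apply_symm_apply s, ← hx]
  exact Sheaf.H.equiv₀_naturality (hT := (isTerminalTop : IsTerminal (⊤ : Opens X)))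
    (f := (SheafOfModules.toSheaf X.ringCatSheaf).map S.g) x

include k in
/-- An epimorphism onto the structure module with vanishing `H¹` of the kernel splits. -/
theorem isSplitEpi_of_iso_structure {S : ShortComplex X.Modules} (hS : S.ShortExact)
    (e : S.X₃ ≅ Coh.structureModule X) (h1 : Subsingleton (Coh.HH X S.X₁ 1)) : IsSplitEpi S.g := by
  obtain ⟨m, hm⟩ := surjective_app_top k hS h1 (e.inv.app ⊤ (Groth.QCohMod.oneSec ⊤))
  refine IsSplitEpi.mk' ⟨e.hom ≫ Groth.QCohMod.secHom S.X₂ m, ?_⟩
  suffices h : Groth.QCohMod.secHom S.X₂ m ≫ S.g = e.inv by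
    rw [Category.assoc, h, e.hom_inv_id]
  refine Groth.CohTwo.hom_ext_app fun U r => ?_
  change S.g.app U ((Groth.QCohMod.secHom S.X₂ m).app U r) = e.inv.app U r
  rw [Groth.QCohMod.secHom_app, Scheme.Modules.Hom.app_smul, ← Groth.QCohMod.res_app, hm,
    Groth.QCohMod.res_app e.inv, ← Scheme.Modules.Hom.app_smul]
  congr 1
  rw [← Groth.QCohMod.secHom_app]
  exact congrArg (fun f => f.app U r) (show Groth.QCohMod.secHom (Coh.structureModule X)
    (Groth.QCohMod.oneSec ⊤) = 𝟙 _ from Groth.CohTwo.hom_ext_app fun V q => by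
      rw [Groth.QCohMod.secHom_app]
      refine (congrArg (fun t => (show Γ(X, V) from q) • t) ?_).trans
        (Groth.QCohMod.structureModule_eq_smul_one q)
      exact map_one (X.presheaf.map (homOfLE (le_top : V ≤ ⊤)).op).hom)

include k in
/-- An extension of an invertible module `L` by `M` splits when `H¹(M ⊗ L⁻¹) = 0`. -/
theorem isSplitEpi_of_h1 {S : ShortComplex X.Modules} (hS : S.ShortExact)
    {L' : X.Modules} (hL' : ClSub.IsInverseOf L' S.X₃)
    (h1 : Subsingleton (Coh.HH X (CohB1.tensorMod L' S.X₁) 1)) : IsSplitEpi S.g := by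
  let T := DCoh.tensorRightMod L'
  have : T.IsEquivalence :=
    Groth.PicAux.isEquivalence_tensorRightMod (M := S.X₃) hL'
  have : PreservesBinaryBiproducts T := preservesBinaryBiproducts_of_preservesBinaryProducts T
  have : T.Additive := Functor.additive_of_preservesBinaryBiproducts T
  have hT : (S.map T).ShortExact := hS.map_of_exact T
  obtain ⟨b₁, -⟩ := Groth.PicAux.exists_braiding S.X₃ L'
  obtain ⟨b, -⟩ := Groth.PicAux.exists_braiding S.X₁ L'
  obtain ⟨e⟩ := hL'
  have h1' : Subsingleton (Coh.HH X (S.map T).X₁ 1) :=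
    (Groth.EulerDeg.hEquiv k b 1).toEquiv.subsingleton
  have : IsSplitEpi (T.map S.g) := isSplitEpi_of_iso_structure k hT (b₁ ≪≫ e) h1'
  refine IsSplitEpi.mk' ⟨T.preimage (section_ (T.map S.g)), T.map_injective ?_⟩
  rw [T.map_comp, T.map_preimage, T.map_id]
  exact IsSplitEpi.id (T.map S.g)

end Groth.VBCurves
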