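import Mathlib.CategoryTheory.Preadditive.Biproducts
import Mathlib.CategoryTheory.Linear.Basic
import Mathlib.RingTheory.Artinian.Module
import Groth.Agent.Duality.SheafHomExt
import Groth.Agent.CohTwo.HomDepth
import Groth.Agent.EulerDeg.Coherent
import Groth.Agent.QCohMod.Coherent

/-!
# The Krull–Schmidt theorem in a linear category with finite-dimensional endomorphisms
-/

set_option autoImplicit false

universe u v w

open CategoryTheory CategoryTheory.Limits

namespace Groth.VBCurves.KS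

section Abstract

variable {k : Type w} [Field k] {C : Type u} [Category.{v} C] [Abelian C] [Linear k C]

/-- Indecomposable object. -/
def Ind (X : C) : Prop :=
  ¬ IsZero X ∧ ∀ A B : C, Nonempty (X ≅ A ⊞ B) → IsZero A ∨ IsZero B

theorem fitting (X : C) [Module.Finite k (End X)] (hX : Ind X) (f : End X) :
    IsUnit f ∨ IsNilpotent f := by
  let A : Subalgebra k (End X) := Algebra.adjoin k {f}
  let _ : CommRing A := Algebra.adjoinCommRingOfComm k fun a ha b hb => by
    rw [Set.mem_singleton_iff.1 ha, Set.mem_singleton_iff.1 hb]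
  have : FiniteDimensional k A := Submodule.finiteDimensional_of_le (le_top : A.toSubmodule ≤ ⊤)
  have : IsArtinianRing A := IsArtinianRing.of_finite k A
  let a : A := ⟨f, Algebra.self_mem_adjoin_singleton k f⟩
  obtain ⟨n, y, hy⟩ := IsArtinian.exists_pow_succ_smul_dvd a (1 : A)
  rw [smul_eq_mul, smul_eq_mul, mul_one] at hy
  have key : ∀ j, a ^ n = a ^ (n + j) * y ^ j := fun j => by
    induction j with
    | zero => simp
    | succ j ih =>
      calc a ^ n = a ^ (n + j) * y ^ j := ih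
        _ = a ^ j * (a ^ (n + 1) * y) * y ^ j := by rw [hy, ← pow_add, add_comm n j]
        _ = a ^ (n + (j + 1)) * y ^ (j + 1) := by ring
  let e : A := a ^ n * y ^ n
  have he : e * e = e := by
    calc e * e = (a ^ (n + n) * y ^ n) * y ^ n := by ring
      _ = e := by rw [← key n]
  let e' : X ⟶ X := (e : End X)
  have he' : e' ≫ e' = e' := congrArg Subtype.val he
  obtain ⟨Y, i, p, hip, hpi⟩ := IsIdempotentComplete.idempotents_split X e' he'
  obtain ⟨Z, j, q, hjq, hqj⟩ := IsIdempotentComplete.idempotents_split X (𝟙 X - e') (by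
    simp [he'])
  have h1 : i ≫ q = 0 := by
    have : IsSplitEpi p := IsSplitEpi.mk' ⟨i, hip⟩
    have : IsSplitMono j := IsSplitMono.mk' ⟨q, hjq⟩
    have h : p ≫ (i ≫ q) ≫ j = 0 := by
      rw [Category.assoc, hqj, ← Category.assoc, hpi]; simp [he']
    exact zero_of_comp_mono j (zero_of_epi_comp p h)
  have h2 : j ≫ p = 0 := by
    have : IsSplitEpi q := IsSplitEpi.mk' ⟨j, hjq⟩
    have : IsSplitMono i := IsSplitMono.mk' ⟨p, hip⟩
    have h : q ≫ (j ≫ p) ≫ i = 0 := by
      rw [Category.assoc, hpi, ← Category.assoc, hqj]; simp [he']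
    exact zero_of_comp_mono i (zero_of_epi_comp q h)
  let φ : X ≅ Y ⊞ Z :=
    { hom := biprod.lift p q
      inv := biprod.desc i j
      hom_inv_id := by rw [biprod.lift_desc, hpi, hqj]; simp
      inv_hom_id := by
        refine biprod.hom_ext' _ _ ?_ ?_ <;> refine biprod.hom_ext _ _ ?_ ?_ <;>
          simp [hip, hjq, h1, h2] }
  rcases hX.2 Y Z ⟨φ⟩ with hY | hZ
  · right
    refine ⟨n, ?_⟩
    have he0 : (e : End X) = 0 := by
      change e' = 0
      rw [← hpi, hY.eq_of_tgt p 0, zero_comp]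
    have h := congrArg Subtype.val (key n)
    have h' : a ^ (n + n) * y ^ n = a ^ n * e := by ring
    rw [congrArg Subtype.val h'] at h
    have h'' : f ^ n = f ^ n * (e : End X) := h
    rw [h'', he0, mul_zero]
  · left
    have he1 : e = 1 := Subtype.ext (by
      change e' = 𝟙 X
      have : 𝟙 X - e' = 0 := by rw [← hqj, hZ.eq_of_tgt q 0, zero_comp]
      exact (sub_eq_zero.1 this).symm)
    rcases n with _ | n
    · have h := congrArg Subtype.val (key 1)
      have hu : IsUnit a := IsUnit.of_mul_eq_one y (by simpa using (key 1).symm)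
      exact hu.map A.val
    · have hu : IsUnit a := IsUnit.of_mul_eq_one (a ^ n * y ^ (n + 1)) (by
        rw [← mul_assoc, ← pow_succ']
        exact he1)
      exact hu.map A.val

theorem isIso_of_sum (X : C) [Module.Finite k (End X)] (hX : Ind X) {ι : Type*} (s : Finset ι)
    (g : ι → (X ⟶ X)) (h : IsIso (∑ i ∈ s, g i)) : ∃ i ∈ s, IsIso (g i) := by
  classical
  induction s using Finset.induction_on with
  | empty =>
    rw [Finset.sum_empty] at h
    exact absurd ((IsZero.iff_id_eq_zero X).2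
      ((IsIso.hom_inv_id (0 : X ⟶ X)).symm.trans zero_comp)) hX.1
  | insert a s has ih =>
    rw [Finset.sum_insert has] at h
    let u : End X := g a
    let v : End X := (∑ i ∈ s, g i : X ⟶ X)
    obtain ⟨w, hw⟩ : IsUnit (u + v) := (CategoryTheory.isUnit_iff_isIso _).2 h
    rcases fitting (k := k) X hX (↑w⁻¹ * u) with h1 | h1
    · exact ⟨a, Finset.mem_insert_self a s,
        (CategoryTheory.isUnit_iff_isIso _).1 ((Units.isUnit_units_mul _ _).1 h1)⟩
    · have e : ↑w⁻¹ * v = 1 - ↑w⁻¹ * u := by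
        rw [eq_sub_iff_add_eq, ← mul_add, add_comm, ← hw, Units.inv_mul]
      have h2 : IsUnit (↑w⁻¹ * v) := e ▸ h1.isUnit_one_sub
      obtain ⟨i, hi, hiso⟩ := ih ((CategoryTheory.isUnit_iff_isIso _).1
        ((Units.isUnit_units_mul _ _).1 h2))
      exact ⟨i, Finset.mem_insert_of_mem hi, hiso⟩

/-- A split monomorphism with nonzero source into an indecomposable is an isomorphism. -/
theorem isIso_of_retract {X Y : C} (hX : ¬ IsZero X) (hY : Ind Y) (a : X ⟶ Y) (b : Y ⟶ X)
    (h : a ≫ b = 𝟙 X) : IsIso a := by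
  have hs : (ShortComplex.mk a (cokernel.π a) (cokernel.condition a)).Exact :=
    ShortComplex.exact_cokernel a
  have : IsSplitMono a := IsSplitMono.mk' ⟨b, h⟩
  let σ := ShortComplex.Splitting.ofExactOfRetraction _ hs b h (inferInstanceAs (Epi (cokernel.π a)))
  rcases hY.2 _ _ ⟨σ.isoBinaryBiproduct⟩ with h1 | h1
  · exact absurd h1 hX
  · have : Epi a := Abelian.epi_of_cokernel_π_eq_zero a (h1.eq_of_tgt _ _)
    exact isIso_of_mono_of_epi a

theorem finite_end_left {X A B : C} [Module.Finite k (End X)] (e : X ≅ A ⊞ B) :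
    Module.Finite k (End A) ∧ Module.Finite k (End B) := by
  let φ : End X →ₗ[k] End A :=
    (Linear.leftComp k A (biprod.inl ≫ e.inv)).comp (Linear.rightComp k X (e.hom ≫ biprod.fst))
  let ψ : End X →ₗ[k] End B :=
    (Linear.leftComp k B (biprod.inr ≫ e.inv)).comp (Linear.rightComp k X (e.hom ≫ biprod.snd))
  refine ⟨Module.Finite.of_surjective φ fun a =>
    ⟨e.hom ≫ biprod.fst ≫ (a : A ⟶ A) ≫ biprod.inl ≫ e.inv, ?_⟩,
    Module.Finite.of_surjective ψ fun b =>
    ⟨e.hom ≫ biprod.snd ≫ (b : B ⟶ B) ≫ biprod.inr ≫ e.inv, ?_⟩⟩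
  · change (biprod.inl ≫ e.inv) ≫ (e.hom ≫ biprod.fst ≫ (a : A ⟶ A) ≫ biprod.inl ≫ e.inv) ≫
      e.hom ≫ biprod.fst = a
    simp
  · change (biprod.inr ≫ e.inv) ≫ (e.hom ≫ biprod.snd ≫ (b : B ⟶ B) ≫ biprod.inr ≫ e.inv) ≫
      e.hom ≫ biprod.snd = b
    simp

theorem finrank_end_lt {X A B : C} [Module.Finite k (End X)] (e : X ≅ A ⊞ B)
    (hB : ¬ IsZero B) : Module.finrank k (End A) < Module.finrank k (End X) := by
  let ι : End A →ₗ[k] End X :=
    (Linear.leftComp k X (e.hom ≫ biprod.fst)).comp (Linear.rightComp k A (biprod.inl ≫ e.inv))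
  have hι : ∀ a : End A, (ι a : X ⟶ X) =
      (e.hom ≫ biprod.fst) ≫ (a : A ⟶ A) ≫ biprod.inl ≫ e.inv := fun a => rfl
  have hinj : Function.Injective ι := fun a b h => by
    have h2 := congrArg (fun t : X ⟶ X => biprod.inl ≫ e.inv ≫ t ≫ e.hom ≫ biprod.fst)
      (show (ι a : X ⟶ X) = ι b from h)
    simpa [hι] using h2
  rw [← LinearMap.finrank_range_of_inj hinj]
  refine Submodule.finrank_lt fun htop => hB ?_
  obtain ⟨a, ha⟩ := (LinearMap.range_eq_top.1 htop) (1 : End X)
  rw [IsZero.iff_id_eq_zero]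
  have h2 := congrArg (fun t : X ⟶ X => biprod.inr ≫ e.inv ≫ t ≫ e.hom ≫ biprod.snd)
    (show (ι a : X ⟶ X) = 𝟙 X from ha)
  simpa [hι] using h2.symm

/-- Splitting off a member of a finite coproduct. -/
noncomputable def splitAt [HasFiniteCoproducts C] {m : ℕ} (j : Fin (m + 1)) (M : Fin (m + 1) → C) :
    M j ⊞ (∐ fun i : Fin m => M (j.succAbove i)) ≅ ∐ M where
  hom := biprod.desc (Sigma.ι M j) (Sigma.desc fun i => Sigma.ι M (j.succAbove i))
  inv := Sigma.desc fun i =>
    Fin.succAboveCases (α := fun i => M i ⟶ M j ⊞ (∐ fun i : Fin m => M (j.succAbove i))) j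
      biprod.inl (fun l => Sigma.ι (fun i : Fin m => M (j.succAbove i)) l ≫ biprod.inr) i
  hom_inv_id := by
    refine biprod.hom_ext' _ _ ?_ (Sigma.hom_ext _ _ fun l => ?_) <;> simp
  inv_hom_id := by
    refine Sigma.hom_ext _ _ fun i => ?_
    induction i using Fin.succAboveCases j <;> simp

theorem isZero_coprod_zero [HasFiniteCoproducts C] (M : Fin 0 → C) : IsZero (∐ M) :=
  (IsZero.iff_id_eq_zero _).2 (Sigma.hom_ext _ _ fun i => i.elim0)

theorem exists_decomp [HasFiniteCoproducts C] : ∀ (d : ℕ) (X : C) [Module.Finite k (End X)],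
    Module.finrank k (End X) ≤ d →
    ∃ (n : ℕ) (F : Fin n → C), (∀ i, Ind (F i)) ∧ Nonempty (X ≅ ∐ F) := by
  intro d
  induction d using Nat.strong_induction_on with
  | _ d ih =>
    intro X _ hd
    by_cases hz : IsZero X
    · exact ⟨0, Fin.elim0, fun i => i.elim0, ⟨hz.iso (isZero_coprod_zero _)⟩⟩
    by_cases hi : Ind X
    · have hz0 : IsZero (∐ fun i : Fin 0 => (fun _ : Fin 1 => X) ((0 : Fin 1).succAbove i)) :=
        isZero_coprod_zero _
      let e₀ : X ≅ X ⊞ (∐ fun i : Fin 0 => (fun _ : Fin 1 => X) ((0 : Fin 1).succAbove i)) :=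
        ⟨biprod.inl, biprod.fst, biprod.inl_fst,
          biprod.hom_ext' _ _ (by simp) (hz0.eq_of_src _ _)⟩
      exact ⟨1, fun _ => X, fun _ => hi, ⟨e₀ ≪≫ splitAt 0 (fun _ : Fin 1 => X)⟩⟩
    simp only [Ind, hz, not_false_eq_true, true_and, not_forall, not_or] at hi
    obtain ⟨A, B, ⟨e⟩, hA, hB⟩ := hi
    obtain ⟨hfA, hfB⟩ := finite_end_left (k := k) e
    have h1 := finrank_end_lt (k := k) e hB
    have h2 := finrank_end_lt (k := k) (e ≪≫ biprod.braiding A B) hA
    obtain ⟨a, F, hF, ⟨φ⟩⟩ := ih _ (h1.trans_le hd) A le_rfl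
    obtain ⟨b, G, hG, ⟨ψ⟩⟩ := ih _ (h2.trans_le hd) B le_rfl
    refine ⟨a + b, Fin.append F G, fun i => ?_, ⟨e ≪≫ biprod.mapIso φ ψ ≪≫
      { hom := biprod.desc
          (Sigma.desc fun i => eqToHom (Fin.append_left F G i).symm ≫ Sigma.ι _ (Fin.castAdd b i))
          (Sigma.desc fun i => eqToHom (Fin.append_right F G i).symm ≫ Sigma.ι _ (Fin.natAdd a i))
        inv := Sigma.desc fun i => Fin.addCases
          (motive := fun i => Fin.append F G i ⟶ (∐ F) ⊞ (∐ G))
          (fun l => eqToHom (Fin.append_left F G l) ≫ Sigma.ι F l ≫ biprod.inl)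
          (fun l => eqToHom (Fin.append_right F G l) ≫ Sigma.ι G l ≫ biprod.inr) i
        hom_inv_id := by
          refine biprod.hom_ext' _ _ (Sigma.hom_ext _ _ fun l => ?_) (Sigma.hom_ext _ _ fun l => ?_)
            <;> simp
        inv_hom_id := by
          refine Sigma.hom_ext _ _ fun i => ?_
          induction i using Fin.addCases <;> simp }⟩⟩
    induction i using Fin.addCases with
    | left l => rw [Fin.append_left]; exact hF l
    | right l => rw [Fin.append_right]; exact hG l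

theorem unique_decomp [HasFiniteCoproducts C] : ∀ (n m : ℕ) (F : Fin n → C) (G : Fin m → C),
    (∀ i, Module.Finite k (End (F i))) → (∀ i, Ind (F i)) → (∀ j, Ind (G j)) →
    Nonempty ((∐ F) ≅ ∐ G) → ∃ e : Fin n ≃ Fin m, ∀ i, Nonempty (F i ≅ G (e i)) := by
  intro n
  induction n with
  | zero =>
    intro m F G _ _ hG ⟨φ⟩
    rcases m with _ | m
    · exact ⟨Equiv.refl _, fun i => i.elim0⟩
    · refine absurd ((IsZero.iff_id_eq_zero (G 0)).2 ?_) (hG 0).1
      have h0 : Sigma.ι G 0 = 0 := ((isZero_coprod_zero F).of_iso φ.symm).eq_of_tgt _ _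
      let π : (∐ G) ⟶ G 0 := Sigma.desc fun j => if h : j = 0 then eqToHom (congrArg G h) else 0
      have : Sigma.ι G 0 ≫ π = 𝟙 _ := by simp [π]
      rw [← this, h0, zero_comp]
  | succ n ih =>
    intro m F G hfin hF hG ⟨φ⟩
    rcases m with _ | m
    · refine absurd ((IsZero.iff_id_eq_zero (F 0)).2 ?_) (hF 0).1
      have h0 : Sigma.ι F 0 = 0 := ((isZero_coprod_zero G).of_iso φ).eq_of_tgt _ _
      let π : (∐ F) ⟶ F 0 := Sigma.desc fun j => if h : j = 0 then eqToHom (congrArg F h) else 0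
      have : Sigma.ι F 0 ≫ π = 𝟙 _ := by simp [π]
      rw [← this, h0, zero_comp]
    classical
    let π : (∐ F) ⟶ F 0 := Sigma.desc fun j => if h : j = 0 then eqToHom (congrArg F h) else 0
    have hπ : Sigma.ι F 0 ≫ π = 𝟙 _ := by simp [π]
    let ρ : ∀ j, (∐ G) ⟶ G j := fun j =>
      Sigma.desc fun l => if h : l = j then eqToHom (congrArg G h) else 0
    let a : ∀ j, F 0 ⟶ G j := fun j => Sigma.ι F 0 ≫ φ.hom ≫ ρ j
    let b : ∀ j, G j ⟶ F 0 := fun j => Sigma.ι G j ≫ φ.inv ≫ π
    have hsum : ∑ j, a j ≫ b j = 𝟙 (F 0) := by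
      have hid : ∑ j, ρ j ≫ Sigma.ι G j = 𝟙 (∐ G) := by
        refine Sigma.hom_ext _ _ fun l => ?_
        rw [Preadditive.comp_sum, Category.comp_id, Finset.sum_eq_single l]
        · simp [ρ]
        · intro i _ hi; simp [ρ, Ne.symm hi]
        · exact fun h => absurd (Finset.mem_univ l) h
      simp only [a, b, Category.assoc]
      rw [← Preadditive.comp_sum, ← Preadditive.comp_sum]
      simp only [← Category.assoc (ρ _)]
      rw [← Preadditive.sum_comp, hid, Category.id_comp, φ.hom_inv_id_assoc, hπ]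
    have := hfin 0
    obtain ⟨j, -, hj⟩ := isIso_of_sum (k := k) (F 0) (hF 0) Finset.univ _
      (hsum.symm ▸ IsIso.id (F 0) : IsIso (∑ j, a j ≫ b j))
    have haj : IsIso (a j) := isIso_of_retract (hF 0).1 (hG j) (a j) (b j ≫ inv (a j ≫ b j))
      (by rw [← Category.assoc, IsIso.hom_inv_id])
    let Φ := splitAt 0 F ≪≫ φ ≪≫ (splitAt j G).symm
    have hcomp : biprod.inl ≫ Φ.hom ≫ biprod.fst = a j := by
      have e1 : (splitAt j G).inv ≫ biprod.fst = ρ j := Sigma.hom_ext _ _ fun l => by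
        induction l using Fin.succAboveCases j <;> simp [splitAt, ρ, Fin.succAbove_ne]
      simp only [Φ, a, Iso.trans_hom, Iso.symm_hom, Category.assoc, e1]
      rw [← Category.assoc biprod.inl]
      congr 1
      exact biprod.inl_desc _ _
    have : IsIso (biprod.inl ≫ Φ.hom ≫ biprod.fst) := hcomp.symm ▸ haj
    obtain ⟨e, he⟩ := ih m _ _ (fun i => hfin _) (fun i => hF _) (fun i => hG _) ⟨Biprod.isoElim Φ⟩
    refine ⟨(finSuccEquiv n).trans (e.optionCongr.trans (finSuccEquiv' j).symm), fun i => ?_⟩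
    induction i using Fin.cases with
    | zero => simpa using ⟨asIso (a j)⟩
    | succ i => simpa using he i

end Abstract

section Coherent

open AlgebraicGeometry

variable (k : Type u) [Field k] {X : Scheme.{u}} [X.Over (Spec (CommRingCat.of k))]
  [IsProper (X ↘ Spec (CommRingCat.of k))]

theorem finite_hom {M N : X.Modules} (hM : Coh.IsCoh M) (hN : Coh.IsCoh N) :
    Module.Finite k (M ⟶ N) := by
  have : IsLocallyNoetherian X :=
    LocallyOfFiniteType.isLocallyNoetherian (X ↘ Spec (CommRingCat.of k))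
  have := Groth.Duality.SheafHom.hasSheafHom M
  have := Groth.EulerDeg.finite_HH k X (Groth.CohTwo.HomDepth.isCoh_sheafHom hM hN) 0
  exact Module.Finite.equiv (Groth.Duality.SheafHom.homH0 M k N).symm

end Coherent

end Groth.VBCurves.KS
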