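import Groth.Agent.VBCurves.Slope
import Groth.Agent.ModelsGraphs.DualExtend
import Groth.Agent.Curves1.CurveMor.Smooth

/-!
# Endomorphisms of vector bundles on curves: Fitting decomposition and scalars
-/

set_option autoImplicit false

universe u

open CategoryTheory CategoryTheory.Limits AlgebraicGeometry
open Groth.KTheory.LocFree (stalkₗ)
open Groth.ModelsGraphs.DualExtend (smulHom)

namespace Groth.VBCurves

variable {X : Scheme.{u}}

/-- The stalk map of a composition. -/
theorem stalk_comp {A B C : X.Modules} (f : A ⟶ B) (g : B ⟶ C) (x : X) (v : A.presheaf.stalk x) :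
    stalkₗ (f ≫ g) x v = stalkₗ g x (stalkₗ f x v) :=
  congr($((Groth.QCohMod.stalk x).map_comp f g) v)

theorem stalk_id (A : X.Modules) (x : X) (v : A.presheaf.stalk x) : stalkₗ (𝟙 A) x v = v :=
  congr($((Groth.QCohMod.stalk x).map_id A) v)

/-- The stalk of an endomorphism, as a monoid hom. -/
noncomputable def stalkEnd (E : X.Modules) (x : X) :
    End E →* Module.End (X.presheaf.stalk x) (E.presheaf.stalk x) where
  toFun f := stalkₗ f x
  map_one' := LinearMap.ext fun v => stalk_id E x v
  map_mul' f g := LinearMap.ext fun v => stalk_comp g f x v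

variable {k : Type u} [Field k] [X.Over (Spec (CommRingCat.of k))] [IsIntegral X]
  [IsProper (X ↘ Spec (CommRingCat.of k))]

/-- Indecomposable. -/
def Indec (E : X.Modules) : Prop :=
  ¬ IsZero E ∧ ∀ (E₁ E₂ : X.Modules), Nonempty (E ≅ E₁ ⊞ E₂) → IsZero E₁ ∨ IsZero E₂

/-- An endomorphism whose generic stalk has stable kernel splits the bundle as kernel plus image. -/
theorem exists_split_of_ker (hc : IsVBCurve k X) {E : X.Modules} (hE : FlatMod.IsFinLocFree E)
    (g : E ⟶ E)
    (hker : ∀ v, stalkₗ g (genericPoint X) (stalkₗ g (genericPoint X) v) = 0 →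
      stalkₗ g (genericPoint X) v = 0) :
    ∃ (K I : X.Modules) (_ : E ≅ K ⊞ I), (IsZero K → IsIso g) ∧ (IsZero I → g = 0) := by
  obtain ⟨K, I, i, p, j, w, hS, hi, hp, hj, hfac, hm, hK, hI, -, -, -⟩ := exists_image hc hE hE g
  let η := genericPoint X
  have hp' : Function.Surjective (stalkₗ p η) := (Groth.QCohMod.epi_iff_stalk p).1 hp η
  have hj' : Function.Injective (stalkₗ j η) := (Groth.QCohMod.mono_iff_stalk j).1 hj η
  have hg : ∀ v, stalkₗ g η v = stalkₗ j η (stalkₗ p η v) := fun v => by rw [← stalk_comp, hfac]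
  have hinj : Function.Injective (stalkₗ (j ≫ p) η) := by
    rw [injective_iff_map_eq_zero]
    intro a ha
    obtain ⟨b, rfl⟩ := hp' a
    rw [stalk_comp, ← hg] at ha
    have h2 := hker b (by rw [hg (stalkₗ g η b), ha, map_zero])
    rw [hg] at h2
    exact hj' (h2.trans (map_zero _).symm)
  obtain ⟨K', I', i', p', j', w', -, hi', -, hj'', hfac', hm', hK', -, -, -, -⟩ :=
    exists_image hc hI hI (j ≫ p)
  have hK0 : rk K' = 0 := by
    have hi'' : Function.Injective (stalkₗ i' η) := (Groth.QCohMod.mono_iff_stalk i').1 hi' η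
    have : Subsingleton (K'.presheaf.stalk η) := subsingleton_of_forall_eq 0 fun v => by
      apply hi''
      rw [map_zero]
      refine hinj ?_
      rw [map_zero, ← hfac', stalk_comp, ← stalk_comp i' p', w']
      exact (congrArg _ (congr($((Groth.QCohMod.stalk η).map_zero K' I') v))).trans (map_zero _)
    exact Module.finrank_zero_of_subsingleton
  have hmp := hm' hK0
  have : Mono (j ≫ p) := by rw [← hfac']; infer_instance
  have : IsIso (j ≫ p) := isIso_of_mono hc hI hI _ rfl rfl
  have hsec : (inv (j ≫ p) ≫ j) ≫ p = 𝟙 I := by rw [Category.assoc, IsIso.inv_hom_id]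
  let σ := ShortComplex.Splitting.ofExactOfSection (ShortComplex.mk i p w) hS.exact
    (inv (j ≫ p) ≫ j) hsec hi
  refine ⟨K, I, σ.isoBinaryBiproduct, fun hz => ?_, fun hz => ?_⟩
  · have : Mono p := hS.exact.mono_g (hz.eq_of_src _ _)
    have : IsIso p := isIso_of_mono_of_epi p
    have : IsIso j := IsIso.of_isIso_comp_right j p
    rw [← hfac]
    infer_instance
  · rw [← hfac, hz.eq_of_tgt p 0, zero_comp]

/-- Fitting: an endomorphism of an indecomposable bundle is an isomorphism or nilpotent. -/
theorem isIso_or_isNilpotent (hc : IsVBCurve k X) {E : X.Modules} (hE : FlatMod.IsFinLocFree E)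
    (hind : Indec E) (f : End E) : IsIso (f : E ⟶ E) ∨ IsNilpotent f := by
  let η := genericPoint X
  let n := rk E + 1
  let _ : Field (X.presheaf.stalk η) := inferInstanceAs (Field X.functionField)
  have := Groth.LocFree.finite_stalk hE η
  have hker : ∀ v, stalkₗ (f ^ n : End E) η (stalkₗ (f ^ n : End E) η v) = 0 →
      stalkₗ (f ^ n : End E) η v = 0 := by
    intro v hv
    have e : stalkₗ (f ^ n : End E) η = (stalkEnd E η f) ^ n := map_pow (stalkEnd E η) f n
    rw [e] at hv ⊢
    rw [← Module.End.mul_apply, ← pow_add] at hv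
    have h1 := Module.End.ker_pow_eq_ker_pow_finrank_of_le (f := stalkEnd E η f)
      (show Module.finrank (X.presheaf.stalk η) (E.presheaf.stalk η) ≤ n + n by
        simp only [n, rk, η]; omega)
    have h2 := Module.End.ker_pow_eq_ker_pow_finrank_of_le (f := stalkEnd E η f)
      (show Module.finrank (X.presheaf.stalk η) (E.presheaf.stalk η) ≤ n by
        simp only [n, rk, η]; omega)
    rw [← LinearMap.mem_ker, h2, ← h1, LinearMap.mem_ker]
    exact hv
  obtain ⟨K, I, e, hKz, hIz⟩ := exists_split_of_ker hc hE (f ^ n : End E) hker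
  rcases hind.2 K I ⟨e⟩ with h | h
  · left
    have h' : IsUnit (f ^ n) := (CategoryTheory.isUnit_iff_isIso _).2 (hKz h)
    exact (CategoryTheory.isUnit_iff_isIso _).1 ((isUnit_pow_iff (Nat.succ_ne_zero _)).1 h')
  · exact Or.inr ⟨n, hIz h⟩

/-- The endomorphism ring of an indecomposable bundle is local. -/
theorem isIso_of_add_isIso (hc : IsVBCurve k X) {E : X.Modules} (hE : FlatMod.IsFinLocFree E)
    (hind : Indec E) (f₁ f₂ : E ⟶ E) (h : IsIso (f₁ + f₂)) : IsIso f₁ ∨ IsIso f₂ := by
  let a : End E := f₁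
  let b : End E := f₂
  obtain ⟨u, hu⟩ : IsUnit (a + b) := (CategoryTheory.isUnit_iff_isIso _).2 h
  rcases isIso_or_isNilpotent hc hE hind (↑u⁻¹ * a) with h1 | h1
  · left
    exact (CategoryTheory.isUnit_iff_isIso _).1
      ((Units.isUnit_units_mul _ _).1 ((CategoryTheory.isUnit_iff_isIso _).2 h1))
  · right
    have e : ↑u⁻¹ * b = 1 - ↑u⁻¹ * a := by
      rw [eq_sub_iff_add_eq, ← mul_add, add_comm, ← hu, Units.inv_mul]
    have h2 : IsUnit (↑u⁻¹ * b) := e ▸ h1.isUnit_one_sub
    exact (CategoryTheory.isUnit_iff_isIso _).1 ((Units.isUnit_units_mul _ _).1 h2)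

omit [IsIntegral X] [IsProper (X ↘ Spec (CommRingCat.of k))] in
/-- A nonzero bundle whose endomorphism ring is local is indecomposable. -/
theorem indec_of_local {E : X.Modules} (h0 : ¬ IsZero E)
    (h : ∀ f₁ f₂ : E ⟶ E, IsIso (f₁ + f₂) → IsIso f₁ ∨ IsIso f₂) : Indec E := by
  refine ⟨h0, fun E₁ E₂ ⟨e⟩ => ?_⟩
  let a : E ⟶ E := e.hom ≫ biprod.fst ≫ biprod.inl ≫ e.inv
  let b : E ⟶ E := e.hom ≫ biprod.snd ≫ biprod.inr ≫ e.inv
  have hsum : IsIso (a + b) := by
    have : a + b = 𝟙 E := by
      simp only [a, b, ← Category.assoc, ← Preadditive.add_comp]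
      simp [← Preadditive.comp_add, biprod.total]
    rw [this]; infer_instance
  rcases h a b hsum with ha | hb
  · right
    rw [IsZero.iff_id_eq_zero]
    have h1 : (biprod.inr ≫ e.inv) ≫ a = 0 := by simp [a]
    have h2 : biprod.inr ≫ e.inv = 0 := (cancel_mono a).1 (h1.trans zero_comp.symm)
    have := h2 =≫ (e.hom ≫ biprod.snd)
    simpa using this
  · left
    rw [IsZero.iff_id_eq_zero]
    have h1 : (biprod.inl ≫ e.inv) ≫ b = 0 := by simp [b]
    have h2 : biprod.inl ≫ e.inv = 0 := (cancel_mono b).1 (h1.trans zero_comp.symm)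
    have := h2 =≫ (e.hom ≫ biprod.fst)
    simpa using this

/-- A stable bundle is indecomposable. -/
theorem St.indec (hc : IsVBCurve k X) {E : X.Modules} (hE : FlatMod.IsFinLocFree E)
    (h0 : ¬ IsZero E) (hst : St k E) : Indec E :=
  indec_of_local h0 fun f₁ f₂ h => by
    by_cases h1 : f₁ = 0
    · exact Or.inr (by rwa [h1, zero_add] at h)
    · exact Or.inl (isIso_of_stable hc hE hst f₁ h1)

section Scalar

variable (k)

/-- Multiplication by a scalar. -/
noncomputable def scal (E : X.Modules) (c : k) : E ⟶ E :=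
  smulHom E (Coh.toGlobal (X ↘ Spec (CommRingCat.of k)) c)

omit [IsIntegral X] [IsProper (X ↘ Spec (CommRingCat.of k))] in
theorem toSheaf_scal (E : X.Modules) (c : k) :
    (SheafOfModules.toSheaf X.ringCatSheaf).map (scal k E c) =
      Coh.smulAb E (Coh.toGlobal (X ↘ Spec (CommRingCat.of k)) c) := rfl

/-- The constants on an open. -/
noncomputable def scW (W : X.Opens) : k →+* Γ(X, W) :=
  (X.presheaf.map (homOfLE (le_top : W ≤ ⊤)).op).hom.comp
    (Coh.toGlobal (X ↘ Spec (CommRingCat.of k)))

omit [IsIntegral X] [IsProper (X ↘ Spec (CommRingCat.of k))] in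
theorem scal_app (E : X.Modules) (c : k) (W : X.Opens) (s : Γ(E, W)) :
    (scal k E c).app W s = scW k W c • s := rfl

omit [IsIntegral X] [IsProper (X ↘ Spec (CommRingCat.of k))] in
theorem scal_sub (E : X.Modules) (a b : k) : scal k E a - scal k E b = scal k E (a - b) :=
  Groth.CohTwo.hom_ext_app fun W s => by
    change (scal k E a).app W s - (scal k E b).app W s = _
    rw [scal_app, scal_app, scal_app, map_sub]
    exact (sub_smul (scW k W a) (scW k W b) s).symm

omit [IsIntegral X] [IsProper (X ↘ Spec (CommRingCat.of k))] in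
theorem isIso_scal (E : X.Modules) {c : k} (hc0 : c ≠ 0) : IsIso (scal k E c) := by
  have key : ∀ a b : k, a * b = 1 → scal k E a ≫ scal k E b = 𝟙 E := fun a b hab =>
    Groth.CohTwo.hom_ext_app fun W s => by
      change (scal k E b).app W ((scal k E a).app W s) = s
      rw [scal_app, scal_app, smul_smul, ← map_mul, mul_comm b a, hab, map_one]
      exact one_smul (Γ(X, W)) s
  exact ⟨⟨scal k E c⁻¹, key _ _ (mul_inv_cancel₀ hc0), key _ _ (inv_mul_cancel₀ hc0)⟩⟩

omit [IsIntegral X] [IsProper (X ↘ Spec (CommRingCat.of k))] in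
theorem stalk_scal (E : X.Modules) (c : k) (x : X) (v : E.presheaf.stalk x) :
    stalkₗ (scal k E c) x v = Curv2.stalkMap k X x c • v := by
  obtain ⟨U, hxU, m, rfl⟩ := Groth.QCohMod.exists_germ E x v
  refine (Groth.QCohMod.stalk_map_germ (scal k E c) x hxU m).trans ?_
  rw [scal_app, Groth.QCohMod.germ_smul]
  congr 1
  exact TopCat.Presheaf.germ_res_apply X.presheaf (homOfLE (le_top : U ≤ ⊤)) x hxU _

/-- Over an algebraically closed field every endomorphism has an eigenvalue. -/
theorem exists_not_isIso_sub_scal [IsAlgClosed k] {E : X.Modules} {r : ℕ}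
    (hE : FlatMod.IsFinLocFreeOfRank r E) (hr : 0 < r) (φ : E ⟶ E) :
    ∃ c : k, ¬ IsIso (φ - scal k E c) := by
  classical
  have := LocallyOfFiniteType.jacobsonSpace (X ↘ Spec (CommRingCat.of k))
  obtain ⟨x, -, hx⟩ := nonempty_inter_closedPoints (Z := (Set.univ : Set X)) Set.univ_nonempty
    isClosed_univ.isLocallyClosed
  let A := X.presheaf.stalk x
  let _ : Algebra k (X.residueField x) := Curv2.resAlgebra k X x
  have := Groth.Curves1.CurveMor.finite_residueField_of_isClosed (k := k) hx
  have hsurj : Function.Surjective (algebraMap k (X.residueField x)) :=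
    (IsAlgClosed.algebraMap_bijective_of_isIntegral (k := k) (K := X.residueField x)).2
  have hE' := Groth.LocFree.isFinLocFree_of_rank hE
  have := Groth.KTheory.LocFree.free_stalk hE' x
  have := Groth.LocFree.finite_stalk hE' x
  let b := Module.finBasisOfFinrankEq A (E.presheaf.stalk x) (Groth.LocFree.finrank_stalk hE x)
  let M := LinearMap.toMatrix b b (stalkₗ φ x)
  let ρ : A →+* X.residueField x := (X.residue x).hom
  obtain ⟨l, hl⟩ : ∃ l, (M.map ρ).charpoly.IsRoot l := by
    have : IsAlgClosed (X.residueField x) := IsAlgClosed.of_ringEquiv k _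
      (RingEquiv.ofBijective _ ⟨(algebraMap k _).injective, hsurj⟩)
    refine IsAlgClosed.exists_root _ ?_
    rw [Polynomial.degree_eq_natDegree (Matrix.charpoly_monic _).ne_zero,
      Matrix.charpoly_natDegree_eq_dim, Fintype.card_fin]
    exact_mod_cast hr.ne'
  obtain ⟨c, rfl⟩ := hsurj l
  refine ⟨c, fun hiso => ?_⟩
  have hs : IsIso ((Groth.QCohMod.stalk x).map (φ - scal k E c)) := Functor.map_isIso _ _
  have hbij : Function.Bijective (stalkₗ (φ - scal k E c) x) :=
    ConcreteCategory.bijective_of_isIso ((Groth.QCohMod.stalk x).map (φ - scal k E c))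
  have e : stalkₗ (φ - scal k E c) x = stalkₗ φ x - Curv2.stalkMap k X x c • LinearMap.id :=
    LinearMap.ext fun v => by
      rw [LinearMap.sub_apply, LinearMap.smul_apply, LinearMap.id_apply, ← stalk_scal k E c x v]
      exact congr($((Groth.QCohMod.stalk x).map_sub (f := φ) (g := scal k E c)) v)
  have hu := (Module.End.isUnit_iff _).2 hbij
  rw [e] at hu
  have hd : IsUnit (M - Matrix.scalar (Fin r) (Curv2.stalkMap k X x c)).det := by
    rw [← Matrix.isUnit_iff_isUnit_det]
    have h' := hu.map (LinearMap.toMatrixAlgEquiv b)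
    rw [map_sub, map_smul] at h'
    convert h' using 2
    · rfl
    · rw [show (LinearMap.id : E.presheaf.stalk x →ₗ[A] E.presheaf.stalk x) = 1 from rfl, map_one,
        Matrix.scalar_apply, Matrix.smul_one_eq_diagonal]
  have h2 := hd.map ρ
  rw [Polynomial.IsRoot.def, Matrix.eval_charpoly] at hl
  have h3 : (Matrix.scalar (Fin r) (algebraMap k (X.residueField x) c) - M.map ρ).det =
      (-1) ^ r * ρ (M - Matrix.scalar (Fin r) (Curv2.stalkMap k X x c)).det := by
    rw [RingHom.map_det, ← neg_sub, Matrix.det_neg, Fintype.card_fin]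
    congr 2
    rw [RingHom.mapMatrix_apply, Matrix.map_sub ρ (map_sub ρ), Matrix.scalar_apply,
      Matrix.scalar_apply, Matrix.diagonal_map (map_zero ρ)]
    rfl
  rw [h3] at hl
  exact (((isUnit_one.neg.pow r).mul h2).ne_zero) hl

end Scalar

/-- Endomorphisms of a stable bundle over an algebraically closed field are scalars. -/
theorem exists_eq_scal [IsAlgClosed k] (hc : IsVBCurve k X) {E : X.Modules} {r : ℕ}
    (hE : FlatMod.IsFinLocFreeOfRank r E) (hr : 0 < r) (hst : St k E) (φ : E ⟶ E) :
    ∃ c : k, φ = scal k E c := by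
  obtain ⟨c, hcn⟩ := exists_not_isIso_sub_scal k hE hr φ
  refine ⟨c, sub_eq_zero.1 ?_⟩
  by_contra h
  exact hcn (isIso_of_stable hc (Groth.LocFree.isFinLocFree_of_rank hE) hst _ h)

/-- An endomorphism of an indecomposable bundle has at most one eigenvalue. -/
theorem eigenvalue_unique (hc : IsVBCurve k X) {E : X.Modules} (hE : FlatMod.IsFinLocFree E)
    (hind : Indec E) (φ : E ⟶ E) {a b : k} (ha : ¬ IsIso (φ - scal k E a))
    (hb : ¬ IsIso (φ - scal k E b)) : a = b := by
  by_contra hne
  have hs : IsIso (scal k E (b - a)) := isIso_scal k E (sub_ne_zero.2 (Ne.symm hne))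
  have h : IsIso ((φ - scal k E a) + -(φ - scal k E b)) := by
    rw [show (φ - scal k E a) + -(φ - scal k E b) = scal k E (b - a) by rw [← scal_sub]; abel]
    exact hs
  rcases isIso_of_add_isIso hc hE hind _ _ h with h' | h'
  · exact ha h'
  · obtain ⟨g, h1, h2⟩ := h'
    exact hb ⟨-g, by rwa [Preadditive.comp_neg, ← Preadditive.neg_comp],
      by rwa [Preadditive.neg_comp, ← Preadditive.comp_neg]⟩

end Groth.VBCurves
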