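import Groth.Agent.VBCurves.Higgs
import Groth.Agent.VBCurves.End
import Groth.Agent.CurveBridge.Linear
import Groth.Agent.CurveBridge.FromDivisor
import Groth.Agent.CurveBridge.SubLine
import Groth.Agent.Ega2Proj.SpansFinite
import Groth.Agent.Ega2Proj.TwistExtend
import Groth.Agent.VarietyBC.CurveProj
import Groth.Agent.S1536
import Groth.Agent.GrpschAbsch.FibreFlat

/-!
# Serre duality for vector bundles on curves

For an invertible module `ω` with canonical numerics and a nonzero functional `res` on `H¹(ω)`,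
the pairing `f ↦ res ∘ H¹(f)` identifies `Hom(E, ω)` with the dual of `H¹(E)` for every vector
bundle `E`. The case of rank one is Riemann–Roch; in general one covers `E` by a sum of line
bundles, and uses that the pairing is injective on every bundle.
-/

set_option autoImplicit false
set_option linter.unusedSectionVars false
set_option linter.style.haveILetI false

universe u

open CategoryTheory CategoryTheory.Limits AlgebraicGeometry TopologicalSpace
open scoped Groth.CurveBridge

namespace Groth.VBCurves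

variable {k : Type u} [Field k] {X : Scheme.{u}} [X.Over (Spec (CommRingCat.of k))]

theorem exists_dual_apply_ne_zero {V : Type*} [AddCommGroup V] [Module k V] {v : V} (hv : v ≠ 0) :
    ∃ f : V →ₗ[k] k, f v ≠ 0 := by
  haveI : Module.Free k V := Module.Free.of_divisionRing k V
  exact Module.Projective.exists_dual_ne_zero k hv

theorem hMap_add {M N : X.Modules} (φ ψ : M ⟶ N) (n : ℕ) :
    Groth.EulerDeg.hMap k (φ + ψ) n = Groth.EulerDeg.hMap k φ n + Groth.EulerDeg.hMap k ψ n := by
  have : Groth.EulerDeg.abMap (φ + ψ) = Groth.EulerDeg.abMap φ + Groth.EulerDeg.abMap ψ := rfl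
  refine LinearMap.ext fun x => ?_
  rw [LinearMap.add_apply, Groth.EulerDeg.hMap_apply, Groth.EulerDeg.hMap_apply,
    Groth.EulerDeg.hMap_apply, this]
  simp only [Sheaf.H.map_apply, Abelian.Ext.mk₀_add, Abelian.Ext.comp_add]

theorem hMap_zero (M N : X.Modules) (n : ℕ) :
    Groth.EulerDeg.hMap k (0 : M ⟶ N) n = 0 :=
  LinearMap.ext fun x => by
    rw [LinearMap.zero_apply, Groth.EulerDeg.hMap_apply, Groth.EulerDeg.abMap_zero]
    simp only [Sheaf.H.map_apply, Abelian.Ext.mk₀_zero, Abelian.Ext.comp_zero]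

theorem hMap_sum {ι : Type*} (s : Finset ι) {M N : X.Modules} (φ : ι → (M ⟶ N)) (n : ℕ) :
    Groth.EulerDeg.hMap k (∑ i ∈ s, φ i) n = ∑ i ∈ s, Groth.EulerDeg.hMap k (φ i) n :=
  map_sum (AddMonoidHom.mk' (fun φ => Groth.EulerDeg.hMap k φ n) fun a b => hMap_add a b n) φ s

theorem hMap_scal (E : X.Modules) (c : k) (n : ℕ) :
    Groth.EulerDeg.hMap k (scal k E c) n = c • LinearMap.id :=
  LinearMap.ext fun _ => rfl

/-- Finitely many coordinates: the identity of a finite coproduct is a sum. -/
theorem sum_proj_ι {ι : Type} [Fintype ι] [DecidableEq ι] (M : ι → X.Modules) :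
    ∑ i, Sigma.desc (fun j => if h : j = i then eqToHom (congrArg M h) else 0) ≫ Sigma.ι M i =
      𝟙 (∐ M) := by
  refine Sigma.hom_ext _ _ fun j => ?_
  rw [Preadditive.comp_sum, Category.comp_id]
  simp only [Sigma.ι_desc_assoc]
  rw [Finset.sum_eq_single j (fun i _ hi => by rw [dif_neg (Ne.symm hi), zero_comp])
    (fun h => absurd (Finset.mem_univ j) h), dif_pos rfl, eqToHom_refl, Category.id_comp]

section Curve

variable [IsIntegral X] [IsProper (X ↘ Spec (CommRingCat.of k))]

/-- The function field of a geometrically connected curve has constant field `k`. -/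
theorem isFunctionField_of_h0 (h : Groth.CurveBridge.IsRegCurve X)
    (h0 : Module.finrank k (Coh.HH X (Coh.structureModule X) 0) = 1) :
    FunFld.IsFunctionField k X.functionField := by
  have hF := Groth.CurveBridge.isFF k X h.dim
  refine ⟨hF, fun y hy => ?_⟩
  obtain ⟨⟨e⟩, -⟩ := Groth.CurveBridge.exists_div_structure k h
  rw [e.finrank_eq] at h0
  have hmem : ∀ z : X.functionField, IsAlgebraic k z →
      z ∈ FunFld.L (0 : FunFld.Divisor k X.functionField) := fun z hz P => by
    rcases eq_or_ne z 0 with rfl | hne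
    · rw [map_zero]; exact zero_le
    · rw [Groth.FunFld1.val_eq_one_of_isAlgebraic P hz hne]; exact WithZero.exp_zero.ge
  have := hF.finiteDimensional_L (0 : FunFld.Divisor k X.functionField)
  obtain ⟨v, hv⟩ := finrank_le_one_iff.1 h0.le
  obtain ⟨a, ha⟩ := hv ⟨1, hmem 1 isAlgebraic_one⟩
  obtain ⟨b, hb⟩ := hv ⟨y, hmem y hy⟩
  have ha' : a • (v : X.functionField) = 1 := congrArg Subtype.val ha
  have hb' : b • (v : X.functionField) = y := congrArg Subtype.val hb
  rw [Algebra.smul_def] at ha' hb'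
  refine ⟨b / a, ?_⟩
  have hne : (algebraMap k X.functionField) a ≠ 0 := left_ne_zero_of_mul_eq_one ha'
  rw [map_div₀, div_eq_iff hne, ← hb']
  linear_combination (-(algebraMap k X.functionField) b) * ha'

theorem isFunctionField_of_connected [Smooth (X ↘ Spec (CommRingCat.of k))]
    [GeometricallyConnected (X ↘ Spec (CommRingCat.of k))] (hdim : topologicalKrullDim X = 1) :
    FunFld.IsFunctionField k X.functionField :=
  haveI := Groth.GrpschAbsch.FibreFlat.geometricallyReduced_of_smooth (X ↘ Spec (CommRingCat.of k))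
  isFunctionField_of_h0 (Groth.CurveBridge.isRegCurve_of_smooth k X hdim)
    (Groth.Agent.S1536.result k X)

/-- Every bundle on a curve is a quotient of a bundle built from finitely many copies of one
invertible module. -/
theorem exists_epi_of_line (hc : IsVBCurve k X) {E : X.Modules} (hE : FlatMod.IsFinLocFree E) :
    ∃ (N : X.Modules) (m : ℕ) (p : (tw N).obj (FlatMod.freeMod X m) ⟶ E),
      PicF.IsInvertible N ∧ Epi p := by
  have : IsNoetherian X := Groth.EulerDeg.isNoetherian_of_proper k X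
  have : X.IsSeparated :=
    ⟨(terminal.comp_from (X ↘ Spec (CommRingCat.of k))) ▸ inferInstance⟩
  obtain ⟨L, hL⟩ := Groth.VarietyBC.CurveProj.exists_ample X hc.dim.le
  have hcoh := Groth.KTheory.LocFree.isCoh hE
  have := hcoh.1
  obtain ⟨n, hn⟩ := Groth.Ega2Proj.exists_spans_twist hL E hcoh.2
  have hP := Groth.PicAux.isInvertible_tensorPow hL.1 n
  have hG : Coh.IsCoh ((tw (CohB1.tensorPow L n)).obj E) :=
    Groth.KTheory.LocFree.isCoh (isFinLocFree_tw hP hE)
  have := hG.1
  obtain ⟨m, q, hq⟩ := Groth.Ega2Proj.exists_epi_freeMod_of_spans _ hG.2 (hn n le_rfl)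
  obtain ⟨N, hN, hinv⟩ := Groth.PicAux.exists_isInverseOf hP
  have : (tw N).IsEquivalence := Groth.PicAux.isEquivalence_tensorRightMod
    (Groth.PicAux.isInverseOf_symm hinv)
  obtain ⟨a, -⟩ := Groth.PicAux.exists_associator E (CohB1.tensorPow L n) N
  obtain ⟨i⟩ := hinv
  let e : (tw N).obj ((tw (CohB1.tensorPow L n)).obj E) ≅ E :=
    a ≪≫ PicGrp.tensorModIso (Iso.refl E) i ≪≫ SecTwist.unitorR E
  have : Epi ((tw N).map q) := (tw N).map_epi q
  exact ⟨N, m, (tw N).map q ≫ e.hom, hN, epi_comp _ _⟩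

/-- A module with canonical numerics. -/
structure IsDualizing (k : Type u) [Field k] {X : Scheme.{u}} [X.Over (Spec (CommRingCat.of k))]
    [IsIntegral X] (ω : X.Modules) : Prop where
  inv : PicF.IsInvertible ω
  deg : Curv2.deg k X ω 1 = 2 * (Curv2.genus k X : ℤ) - 2
  hom : ∀ (L : X.Modules), PicF.IsInvertible L → ∀ (res : Coh.HH X ω 1 →ₗ[k] k), res ≠ 0 →
    ∀ ξ : Coh.HH X L 1 →ₗ[k] k, ∃ f : L ⟶ ω, res ∘ₗ Groth.EulerDeg.hMap k f 1 = ξ
  h1_eq : Module.finrank k (Coh.HH X ω 1) = 1

theorem IsDualizing.nontrivial {ω : X.Modules} (hω : IsDualizing k ω) :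
    Nontrivial (Coh.HH X ω 1) :=
  Module.nontrivial_of_finrank_eq_succ hω.h1_eq

theorem IsDualizing.isFinLocFree {ω : X.Modules} (hω : IsDualizing k ω) :
    FlatMod.IsFinLocFree ω :=
  Groth.LocFree.isFinLocFree_of_rank (Groth.LocFree.isInvertible_iff_ofRank_one.1 hω.inv)

/-- A nonzero map to an invertible module is surjective on `H¹`. -/
theorem surjective_hMap_one (hc : IsVBCurve k X) {E L : X.Modules}
    (hE : FlatMod.IsFinLocFree E) (hL : PicF.IsInvertible L) (f : E ⟶ L) (hf : f ≠ 0) :
    Function.Surjective (Groth.EulerDeg.hMap k f 1) := by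
  have hL1 := Groth.LocFree.isInvertible_iff_ofRank_one.1 hL
  obtain ⟨K, I, i, p, j, w, hS, hi, hp, hj, hpj, -, -, hI, -, -, hpos⟩ :=
    exists_image hc hE (Groth.LocFree.isFinLocFree_of_rank hL1) f
  have hI1 : PicF.IsInvertible I := by
    have hr : rk I = 1 := le_antisymm
      ((rk_le_of_mono j (Groth.LocFree.isFinLocFree_of_rank hL1)).trans (rk_eq hL1).le) (hpos hf)
    exact Groth.LocFree.isInvertible_iff_ofRank_one.2 (hr ▸ isFinLocFreeOfRank_rk hI)
  have : IsNoetherian X := Groth.EulerDeg.isNoetherian_of_proper k X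
  have : NoetherianSpace X.toTopCat := (inferInstance : NoetherianSpace X)
  have : QuasiSober X.toTopCat := (inferInstance : QuasiSober X)
  rw [← hpj, Groth.EulerDeg.hMap_comp]
  refine Function.Surjective.comp (g := Groth.EulerDeg.hMap k j 1) ?_ ?_
  · have hj' : (ShortComplex.mk j (cokernel.π j) (cokernel.condition j)).ShortExact :=
      { exact := ShortComplex.exact_cokernel j }
    have := Groth.EulerDeg.subsingleton_H_succ_of_closed_support (X := X.toTopCat)
      (Coh.toAb (cokernel j)) (Groth.CurveBridge.coker_closed_support j hc.dim hI1 hL) 0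
    exact fun y => ((Groth.EulerDeg.exact_mid k hj' 1) y).mp
      (@Subsingleton.elim (Coh.HH X (cokernel j) 1) this _ _)
  · have := Groth.EulerDeg.subsingleton_HH_of_dim_le_one X hc.dim.le K 2 le_rfl
    exact fun y => ((Groth.EulerDeg.exact_right k hS 1) y).mp
      (@Subsingleton.elim (Coh.HH X K 2) this _ _)

variable {ω : X.Modules}

/-- The duality pairing is injective. -/
theorem comp_ne_zero (hc : IsVBCurve k X) (hω : PicF.IsInvertible ω)
    {E : X.Modules} (hE : FlatMod.IsFinLocFree E) {res : Coh.HH X ω 1 →ₗ[k] k} (hres : res ≠ 0)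
    {f : E ⟶ ω} (hf : f ≠ 0) : res ∘ₗ Groth.EulerDeg.hMap k f 1 ≠ 0 := fun h0 =>
  hres (LinearMap.ext fun y => by
    obtain ⟨x, rfl⟩ := surjective_hMap_one hc hE hω f hf y
    exact LinearMap.congr_fun h0 x)

/-- The duality pairing is surjective. -/
theorem IsDualizing.exists_hom (hc : IsVBCurve k X) (hω : IsDualizing k ω)
    {E : X.Modules} (hE : FlatMod.IsFinLocFree E) {res : Coh.HH X ω 1 →ₗ[k] k} (hres : res ≠ 0)
    (ξ : Coh.HH X E 1 →ₗ[k] k) : ∃ f : E ⟶ ω, res ∘ₗ Groth.EulerDeg.hMap k f 1 = ξ := by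
  classical
  obtain ⟨N, m, p, hN, hp⟩ := exists_epi_of_line hc hE
  have : (tw N).IsEquivalence := by
    obtain ⟨N', -, hN'⟩ := Groth.PicAux.exists_isInverseOf hN
    exact Groth.PicAux.isEquivalence_tensorRightMod hN'
  have : PreservesBinaryBiproducts (tw N) :=
    preservesBinaryBiproducts_of_preservesBinaryProducts (tw N)
  have : (tw N).Additive := Functor.additive_of_preservesBinaryBiproducts (tw N)
  let M : Fin m → X.Modules := fun _ => Coh.structureModule X
  let P := (tw N).obj (FlatMod.freeMod X m)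
  let π : Fin m → (∐ M ⟶ Coh.structureModule X) := fun i =>
    Sigma.desc fun j => if h : j = i then eqToHom (congrArg M h) else 0
  have hline : PicF.IsInvertible ((tw N).obj (Coh.structureModule X)) :=
    Groth.PicAux.isInvertible_tensorMod (Groth.EulerDeg.isInvertible_structureModule X) hN
  choose g hg using fun i : Fin m => hω.hom _ hline res hres
    (ξ ∘ₗ Groth.EulerDeg.hMap k ((tw N).map (Sigma.ι M i) ≫ p) 1)
  let G : P ⟶ ω := ∑ i, (tw N).map (π i) ≫ g i
  have hG : res ∘ₗ Groth.EulerDeg.hMap k G 1 = ξ ∘ₗ Groth.EulerDeg.hMap k p 1 := by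
    have hid : ∑ i, (tw N).map (π i) ≫ (tw N).map (Sigma.ι M i) ≫ p = p := by
      simp only [← Category.assoc, ← Functor.map_comp, ← Preadditive.sum_comp, ← Functor.map_sum]
      rw [show (∑ i, π i ≫ Sigma.ι M i) = 𝟙 _ from sum_proj_ι M, CategoryTheory.Functor.map_id]
      exact Category.id_comp p
    conv_rhs => rw [← hid]
    rw [hMap_sum, hMap_sum]
    refine LinearMap.ext fun x => ?_
    simp only [LinearMap.comp_apply, LinearMap.coe_sum, Finset.sum_apply, map_sum]
    refine Finset.sum_congr rfl fun i _ => ?_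
    rw [Groth.EulerDeg.hMap_comp, Groth.EulerDeg.hMap_comp]
    exact LinearMap.congr_fun (hg i) _
  have : IsLocallyNoetherian X :=
    LocallyOfFiniteType.isLocallyNoetherian (X ↘ Spec (CommRingCat.of k))
  have hP : FlatMod.IsFinLocFree P := isFinLocFree_tw hN
    (Groth.LocFree.isFinLocFree_of_rank (Groth.LocFree.isFinLocFreeOfRank_freeMod X m))
  have hK : FlatMod.IsFinLocFree (kernel p) := isFinLocFree_of_mono hc.pid (kernel.ι p)
    (haveI := (Groth.KTheory.LocFree.isCoh hE).1
     Groth.QCohMod.isCoh_kernel p (Groth.KTheory.LocFree.isCoh hP)) hP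
  have hkill : kernel.ι p ≫ G = 0 := by
    by_contra hne
    refine comp_ne_zero hc hω.inv hK hres hne ?_
    rw [Groth.EulerDeg.hMap_comp, ← LinearMap.comp_assoc, hG, LinearMap.comp_assoc,
      ← Groth.EulerDeg.hMap_comp, kernel.condition, hMap_zero, LinearMap.comp_zero]
  obtain ⟨f, hf⟩ : ∃ f : E ⟶ ω, p ≫ f = G :=
    ⟨Abelian.epiDesc p G hkill, Abelian.comp_epiDesc p G hkill⟩
  refine ⟨f, LinearMap.ext fun y => ?_⟩
  have : IsNoetherian X := Groth.EulerDeg.isNoetherian_of_proper k X
  have hsurj : Function.Surjective (Groth.EulerDeg.hMap k p 1) := fun y => by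
    have hS : (ShortComplex.mk (kernel.ι p) p (kernel.condition p)).ShortExact :=
      { exact := ShortComplex.exact_kernel p }
    have := Groth.EulerDeg.subsingleton_HH_of_dim_le_one X hc.dim.le (kernel p) 2 le_rfl
    exact ((Groth.EulerDeg.exact_right k hS 1) y).mp (Subsingleton.elim _ _)
  obtain ⟨x, rfl⟩ := hsurj y
  have h := LinearMap.congr_fun hG x
  rw [← hf, Groth.EulerDeg.hMap_comp] at h
  exact h

/-- Nonvanishing `H¹` gives a nonzero map to the dualizing module. -/
theorem IsDualizing.exists_ne_zero (hc : IsVBCurve k X) (hω : IsDualizing k ω)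
    {E : X.Modules} (hE : FlatMod.IsFinLocFree E) (h1 : ¬ Subsingleton (Coh.HH X E 1)) :
    ∃ f : E ⟶ ω, f ≠ 0 := by
  have : Nontrivial (Coh.HH X E 1) := not_subsingleton_iff_nontrivial.1 h1
  have := hω.nontrivial
  obtain ⟨x, hx⟩ := exists_ne (0 : Coh.HH X E 1)
  obtain ⟨ξ, hξ⟩ := exists_dual_apply_ne_zero (k := k) hx
  obtain ⟨y, hy⟩ := exists_ne (0 : Coh.HH X ω 1)
  obtain ⟨res, hres⟩ := exists_dual_apply_ne_zero (k := k) hy
  obtain ⟨f, hf⟩ := hω.exists_hom hc hE (res := res) (fun h0 => hres (LinearMap.congr_fun h0 y)) ξ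
  refine ⟨f, fun h0 => hξ ?_⟩
  rw [← hf, h0, hMap_zero, LinearMap.comp_zero, LinearMap.zero_apply]

/-- A dualizing module exists. -/
theorem exists_isDualizing (h : Groth.CurveBridge.IsRegCurve X)
    (hK : FunFld.IsFunctionField k X.functionField) (hc : IsVBCurve k X) :
    ∃ ω : X.Modules, IsDualizing k ω := by
  obtain ⟨C, hC⟩ := Groth.FunFld1.exists_isCanonical hK
  obtain ⟨hCl, hCd⟩ := (Groth.FunFld1.isCanonical_iff hK C).mp hC
  obtain ⟨ω, ψ, U₀, hU₀, e₀, hω, hψ₀, hψm, hψ⟩ :=
    Groth.CurveBridge.exists_invertible_embedding (k := k) h C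
  obtain ⟨e0⟩ := Groth.CurveBridge.nonempty_h0_equiv ψ h hU₀ hψ₀ hψ
  obtain ⟨e1⟩ := Groth.CurveBridge.nonempty_h1_equiv ψ h hU₀ hψ₀ hψ
  obtain ⟨-, hq⟩ := Groth.FunFld1.adele_quotient hK C
  rw [e1.finrank_eq] at hq
  unfold Groth.FunFld1.delta at hq
  have h1 : Module.finrank k (Coh.HH X ω 1) = 1 := by omega
  have hd : Curv2.deg k X ω 1 = 2 * (Curv2.genus k X : ℤ) - 2 := by
    unfold Curv2.deg
    rw [Groth.CurveBridge.euler_structure h hK, Groth.EulerDeg.euler_eq_sub fun n hn =>
      Groth.CurveBridge.subsingleton_HH k h ω hn, e0.finrank_eq, show Module.finrank k (FunFld.L C) = _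
      from hCl, Groth.CurveBridge.genus_eq h hK, h1]
    push_cast
    ring
  have hωnt : Nontrivial (Coh.HH X ω 1) := Module.nontrivial_of_finrank_eq_succ h1
  refine ⟨ω, hω, hd, fun L hL res hres ξ => ?_, h1⟩
  obtain ⟨φ, D, hφ, hh0, hdD, hh1⟩ := Groth.CurveBridge.exists_divEmb h hK hL
  have hφm := hφ.1
  have key : ∀ z : FunFld.L (C - D), ∃ α : L ⟶ ω, ∀ (U : X.Opens) (hU : genericPoint X ∈ U)
      (s : Γ(L, U)), Groth.CurveBridge.kv hU (ψ.app U (α.app U s)) =
        (z : X.functionField) * Groth.CurveBridge.kv hU (φ.app U s) := fun z => by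
    obtain ⟨θ, hθ⟩ := Groth.CurveBridge.exists_scale φ (z : X.functionField)
    obtain ⟨α, hα⟩ := Groth.CurveBridge.exists_hom_of_inStalk θ ψ fun y w hw => by
      obtain ⟨W, hW, s, rfl⟩ := hw
      by_cases hy : y = genericPoint X
      · subst hy; exact Groth.CurveBridge.inStalk_generic ψ hω _
      · let yy : Groth.CurveBridge.Pt X :=
          ⟨y, (Groth.CurveBridge.isClosed_singleton_iff X h.dim y).mpr hy⟩
        refine (hψ yy _).mpr ?_
        rw [hθ, map_mul]
        have h2 := (hφ.2 yy _).mp ⟨W, hW, s, rfl⟩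
        refine (mul_le_mul' (z.2 (Groth.CurveBridge.placeAt (k := k) h yy)) h2).trans_eq ?_
        rw [← WithZero.exp_add, Finsupp.sub_apply, sub_add_cancel]
    exact ⟨α, fun U hU s => by rw [← hθ, ← hα]; rfl⟩
  choose α hα using key
  have huniq : ∀ a b : L ⟶ ω, (∀ (U : X.Opens) (hU : genericPoint X ∈ U) (s : Γ(L, U)),
      Groth.CurveBridge.kv hU (ψ.app U (a.app U s)) =
        Groth.CurveBridge.kv hU (ψ.app U (b.app U s))) → a = b := fun a b hab => by
    rw [← cancel_mono ψ]
    exact Groth.CohTwo.hom_ext_app fun U s =>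
      Groth.CurveBridge.constK_ext fun hU => hab U hU s
  have hadd : ∀ z w, α (z + w) = α z + α w := fun z w => huniq _ _ fun U hU s => by
    refine (hα _ U hU s).trans ?_
    change _ = Groth.CurveBridge.kv hU (ψ.app U ((α z).app U s + (α w).app U s))
    rw [map_add, map_add, hα, hα, Submodule.coe_add, add_mul]
  have hsmul : ∀ (c : k) z, α (c • z) = α z ≫ scal k ω c := fun c z => huniq _ _ fun U hU s => by
    refine (hα _ U hU s).trans ?_
    change _ = Groth.CurveBridge.kv hU (ψ.app U ((scal k ω c).app U ((α z).app U s)))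
    rw [scal_app, Scheme.Modules.Hom.app_smul, Groth.CurveBridge.kv_smul, hα, Submodule.coe_smul,
      Algebra.smul_def, mul_assoc]
    congr 1
    exact (Groth.CurveBridge.germ_toGlobal (k := k) (X := X) c).symm.trans
      (TopCat.Presheaf.germ_res_apply X.presheaf (homOfLE (le_top : U ≤ ⊤)) _ hU _).symm
  let T : FunFld.L (C - D) →ₗ[k] Module.Dual k (Coh.HH X L 1) :=
    { toFun := fun z => res ∘ₗ Groth.EulerDeg.hMap k (α z) 1
      map_add' := fun z w => by rw [hadd, hMap_add, LinearMap.comp_add]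
      map_smul' := fun c z => by
        rw [hsmul, Groth.EulerDeg.hMap_comp, hMap_scal, LinearMap.smul_comp, LinearMap.id_comp,
          LinearMap.comp_smul, RingHom.id_apply] }
  have : Module.Finite k (Coh.HH X L 1) := Groth.CurveBridge.finite_h h hK hL 1
  have : FiniteDimensional k (FunFld.L (C - D)) :=
    Groth.FunFld1.IsFF.finiteDimensional_L hK.1 _
  have hinj : Function.Injective T := (injective_iff_map_eq_zero T).2 fun z hz => by
    by_contra hne
    refine comp_ne_zero hc hω (Groth.LocFree.isFinLocFree_of_rank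
      (Groth.LocFree.isInvertible_iff_ofRank_one.1 hL)) hres (fun hzero => ?_) hz
    obtain ⟨U, e, hU, he⟩ := (Groth.PicAux.isInvertible_iff_exists_gen L).1 hL (genericPoint X)
    have h2 := hα z U hU e
    rw [hzero] at h2
    change Groth.CurveBridge.kv hU (ψ.app U 0) = _ at h2
    rw [map_zero, map_zero] at h2
    exact mul_ne_zero (fun h3 => hne (Subtype.ext h3))
      (Groth.CurveBridge.kv_gen_ne_zero φ hU he) h2.symm
  have hdim2 : Module.finrank k (FunFld.L (C - D)) =
      Module.finrank k (Module.Dual k (Coh.HH X L 1)) := by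
    have hrr := Groth.FunFld1.riemann_roch hK hC D
    rw [Groth.CurveBridge.genus_eq h hK] at hh1
    rw [Subspace.dual_finrank_eq]
    change FunFld.ell (C - D) = _
    omega
  obtain ⟨z, hz⟩ := (LinearMap.injective_iff_surjective_of_finrank_eq_finrank hdim2).1 hinj ξ
  exact ⟨α z, hz⟩

end Curve

end Groth.VBCurves
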