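import Groth.Agent.VBCurves.MaxSlope

/-!
# Quotient bundles, line subbundles
-/

set_option autoImplicit false

universe u

open CategoryTheory CategoryTheory.Limits AlgebraicGeometry

namespace Groth.VBCurves

variable {k : Type u} [Field k] {X : Scheme.{u}} [X.Over (Spec (CommRingCat.of k))] [IsIntegral X]
  [IsProper (X ↘ Spec (CommRingCat.of k))]

/-- Slope bounds pass to quotients by subbundles attaining them. -/
theorem Bnd.quot {A B : X.Modules} (i : A ⟶ B) [Mono i] (hA : FlatMod.IsFinLocFree A)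
    {d : ℤ} {r : ℕ} (hd : dg k A * (r : ℤ) = d * (rk A : ℤ)) (h : Bnd k B d r) :
    Bnd k (cokernel i) d r := by
  intro Q j hj hQ hpos
  obtain ⟨G, a, b, c, w, hS, hc'⟩ := exists_preimage i j
  have hG : FlatMod.IsFinLocFree G := Groth.KTheory.LocFree.isFinLocFree_of_shortExact hS hA hQ
  have hr := rk_add hS hA hQ
  have hdg := dg_add k hS hA hQ
  dsimp only at hr hdg
  have h1 := h G c hc' hG (by omega)
  rw [hdg, hr, add_mul] at h1
  push_cast at h1
  rw [mul_add, hd] at h1
  linarith

omit [IsProper (X ↘ Spec (CommRingCat.of k))] in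
theorem Bnd.of_iso {A B : X.Modules} {d : ℤ} {r : ℕ} (h : Bnd k B d r) (e : A ≅ B) : Bnd k A d r :=
  h.sub e.hom

/-- Numerics of a saturated subbundle and its quotient. -/
theorem cokernel_numerics {A B : X.Modules} (i : A ⟶ B) [Mono i] (hA : FlatMod.IsFinLocFree A)
    (hC : FlatMod.IsFinLocFree (cokernel i)) :
    rk B = rk A + rk (cokernel i) ∧ dg k B = dg k A + dg k (cokernel i) := by
  have hS : (ShortComplex.mk i (cokernel.π i) (cokernel.condition i)).ShortExact :=
    { exact := ShortComplex.exact_cokernel i }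
  have h1 := rk_add hS hA hC
  have h2 := dg_add k hS hA hC
  dsimp only at h1 h2
  exact ⟨h1, h2⟩

/-- The kernel of a quotient bundle is a subbundle. -/
theorem kernel_numerics (hc : IsVBCurve k X) {E F : X.Modules} (hE : FlatMod.IsFinLocFree E)
    (hF : FlatMod.IsFinLocFree F) (p : E ⟶ F) [Epi p] :
    ∃ (K : X.Modules) (i : K ⟶ E), Mono i ∧ i ≫ p = 0 ∧ FlatMod.IsFinLocFree K ∧
      rk E = rk K + rk F ∧ dg k E = dg k K + dg k F ∧ (rk K = 0 → Mono p) := by
  obtain ⟨K, I, i, q, j, w, -, hi, hq, hj, hfac, hm, hK, hI, hr, hd, -⟩ := exists_image hc hE hF p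
  have : Epi (q ≫ j) := by rw [hfac]; infer_instance
  have : Epi j := epi_of_epi q j
  have : IsIso j := isIso_of_mono_of_epi j
  rw [rk_eq_of_iso hI (asIso j)] at hr
  rw [dg_eq_of_iso k hI (asIso j)] at hd
  refine ⟨K, i, hi, by rw [← hfac, reassoc_of% w, zero_comp], hK, hr, hd, fun h0 => ?_⟩
  have := hm h0
  rw [← hfac]
  infer_instance

/-- A line bundle mapping to a quotient line bundle: either it factors through the kernel, or its
degree is at most that of the quotient. -/
theorem lift_or_dg_le (hc : IsVBCurve k X) {L E M N : X.Modules} (f : L ⟶ E) (g : E ⟶ M)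
    (w : f ≫ g = 0) (hS : (ShortComplex.mk f g w).ShortExact)
    (hM : FlatMod.IsFinLocFreeOfRank 1 M) (hN : FlatMod.IsFinLocFreeOfRank 1 N) (j : N ⟶ E) [Mono j] :
    (∃ φ : N ⟶ L, φ ≫ f = j) ∨ dg k N ≤ dg k M := by
  have hN' := Groth.LocFree.isFinLocFree_of_rank hN
  have hM' := Groth.LocFree.isFinLocFree_of_rank hM
  by_cases h : j ≫ g = 0
  · have := hS.mono_f
    exact Or.inl ⟨hS.exact.lift j h, hS.exact.lift_f j h⟩
  · right
    obtain ⟨K, I, i, p, c, w', -, -, -, hc', hfac, hm, hK, hI, hr, -, hpos⟩ :=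
      exists_image hc hN' hM' (j ≫ g)
    have hI' := hpos h
    rw [rk_eq hN] at hr
    have := hm (by omega)
    have : Mono (j ≫ g) := by rw [← hfac]; infer_instance
    exact (dg_le_of_mono k hc.dim.le hN' hM' (j ≫ g) (by rw [rk_eq hN, rk_eq hM])).1

/-- A saturated line subbundle inside a line subbundle equals it. -/
theorem isIso_of_saturated (hc : IsVBCurve k X) {L E N : X.Modules} (f : L ⟶ E) [Mono f]
    (j : N ⟶ E) [Mono j] (hL : FlatMod.IsFinLocFreeOfRank 1 L) (hN : FlatMod.IsFinLocFreeOfRank 1 N)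
    (hC : FlatMod.IsFinLocFree (cokernel j)) (φ : N ⟶ L) (hφ : φ ≫ f = j) : IsIso φ := by
  have hL' := Groth.LocFree.isFinLocFree_of_rank hL
  have hN' := Groth.LocFree.isFinLocFree_of_rank hN
  obtain ⟨K, I, i, p, c, w', -, -, -, hc', hfac, hm, hK, hI, hr, -, -⟩ :=
    exists_image hc hL' hC (f ≫ cokernel.π j)
  have hφm : Mono φ := by
    have : Mono (φ ≫ f) := by rw [hφ]; infer_instance
    exact mono_of_mono φ f
  have hex : (ShortComplex.mk j (cokernel.π j) (cokernel.condition j)).Exact :=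
    ShortComplex.exact_cokernel j
  have hI0 : rk I = 0 := by
    by_contra hne
    rw [rk_eq hL] at hr
    have := hm (by omega)
    have : Mono (f ≫ cokernel.π j) := by rw [← hfac]; infer_instance
    have hz : φ ≫ (f ≫ cokernel.π j) = 0 := by rw [reassoc_of% hφ, cokernel.condition]
    have h0 : φ = 0 := zero_of_comp_mono _ hz
    exact not_isZero_of_rank hN one_pos (by
      rw [IsZero.iff_id_eq_zero, ← cancel_mono φ, h0, comp_zero, comp_zero])
  have hz : f ≫ cokernel.π j = 0 := by
    rw [← hfac, (isZero_of_rk_eq_zero hI hI0).eq_of_tgt p 0, zero_comp]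
  refine ⟨hex.lift f hz, ?_, ?_⟩
  · have h1 : (φ ≫ hex.lift f hz) ≫ j = (𝟙 N) ≫ j := by
      rw [Category.assoc, Category.id_comp]
      exact ((congrArg (φ ≫ ·) (hex.lift_f f hz))).trans hφ
    exact (cancel_mono j).1 h1
  · have h1 : (hex.lift f hz ≫ φ) ≫ f = 𝟙 L ≫ f := by
      rw [Category.assoc, hφ, Category.id_comp]
      exact hex.lift_f f hz
    exact (cancel_mono f).1 h1

end Groth.VBCurves
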