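import Groth.Agent.S18831
import Groth.Agent.S11823
import Groth.Agent.VBCurves.Quot
import Groth.Agent.EulerDeg.Coherent
import Groth.Agent.EulerDeg.DimOne
import Groth.Agent.VarietyBC.CurveDeg
import Groth.Prelude.Def_ShStab

/-!
# The Le Potier bound on sections of twists of subbundles of semistable bundles on curves
-/

set_option autoImplicit false

universe u

open CategoryTheory CategoryTheory.Limits AlgebraicGeometry

namespace Groth.VBCurves.H0Bound

open scoped Groth.CurveBridge

variable {k : Type u} [Field k] [IsAlgClosed k] [CharZero k] {X : Scheme.{u}}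
  [X.Over (Spec (CommRingCat.of k))] [IsIntegral X] [IsProper (X ↘ Spec (CommRingCat.of k))]
  [Smooth (X ↘ Spec (CommRingCat.of k))]

/-- A positive line bundle of degree one with a section. -/
theorem exists_line (hdim : topologicalKrullDim X = 1) :
    ∃ (L M : X.Modules) (φ : Coh.structureModule X ⟶ L), PicF.IsInvertible L ∧ PicF.IsInvertible M ∧
      ClSub.IsInverseOf L M ∧ φ ≠ 0 ∧ Curv2.deg k X L 1 = 1 := by
  have h := Groth.CurveBridge.isRegCurve_of_smooth k X hdim
  have hK := Groth.CurveBridge.isFunctionField (k := k) (X := X) hdim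
  have hF := Groth.CurveBridge.isFF k X hdim
  obtain ⟨P⟩ := hF.nonempty_place
  let D : FunFld.Divisor k X.functionField := Finsupp.single P 1
  obtain ⟨L, hL, h0, hdeg, -⟩ := Groth.CurveBridge.exists_invertible_numerics (k := k) h hK D
  rw [Groth.FunFld1.deg_single, Groth.FunFld1.deg_eq_one_of_isAlgClosed hF P] at hdeg
  have hdeg1 : Curv2.deg k X L 1 = 1 := by simpa using hdeg
  have hD : (0 : FunFld.Divisor k X.functionField) ≤ D := Finsupp.single_nonneg.2 zero_le_one
  haveI := hF.finiteDimensional_L D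
  have hpos : 0 < Module.finrank k (Coh.HH X L 0) := by
    have h1 : FunFld.ell (0 : FunFld.Divisor k X.functionField) ≤ FunFld.ell D :=
      Submodule.finrank_mono (Groth.FunFld1.L_mono hD)
    rw [Groth.FunFld1.ell_zero_eq hK] at h1
    omega
  have : Nontrivial (Coh.HH X L 0) := Module.nontrivial_of_finrank_pos (R := k) hpos
  obtain ⟨v, hv⟩ := exists_ne (0 : Coh.HH X L 0)
  let φ : Coh.structureModule X ⟶ L := Groth.PicAux.homOfSection (Groth.EulerDeg.h0Equiv k L v)
  have hφ : φ ≠ 0 := by
    intro hz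
    apply hv
    rw [← (Groth.EulerDeg.h0Equiv k L).map_eq_zero_iff, ← Groth.PicAux.homOfSection_one
      (Groth.EulerDeg.h0Equiv k L v)]
    show φ.app ⊤ (Groth.PicAux.oneSec X ⊤) = 0
    rw [hz]
    rfl
  obtain ⟨M, hM, hLM⟩ := Groth.PicAux.exists_isInverseOf hL
  exact ⟨L, M, φ, hL, hM, hLM, hφ, hdeg1⟩

/-- The bound on sections under a slope bound. -/
theorem h0_le_of_bnd (hdim : topologicalKrullDim X = 1) {E : X.Modules} {d : ℤ} {r : ℕ}
    (hE : FlatMod.IsFinLocFreeOfRank r E) (h : Bnd k E d r) (j : ℕ) (hd : d < (j : ℤ) * r) :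
    Module.finrank k (Coh.HH X E 0) ≤ j * r := by
  obtain ⟨L, M, φ, hL, hM, hLM, hφ, hdeg⟩ := exists_line (k := k) hdim
  exact Groth.Agent.S18831.h0_le (IsVBCurve.of_smooth k hdim) hL hM hLM φ hφ hdeg j hE h (by linarith)

theorem euler_eq (hdim : topologicalKrullDim X = 1) {E : X.Modules} (r : ℕ) :
    (Module.finrank k (Coh.HH X E 0) : ℤ) - (Module.finrank k (Coh.HH X E 1) : ℤ) =
      Curv2.deg k X E r + r * Curv2.euler k X (Coh.structureModule X) := by
  rw [← Groth.EulerDeg.euler_eq_deg_add k E r, Groth.EulerDeg.euler_eq_h0_sub_h1 k X hdim.le]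

theorem euler_structure_ge (hdim : topologicalKrullDim X = 1) :
    -(Curv2.genus k X : ℤ) ≤ Curv2.euler k X (Coh.structureModule X) := by
  rw [Groth.EulerDeg.euler_structure k X hdim.le]
  omega

theorem finite_HH {E : X.Modules} (hE : FlatMod.IsFinLocFree E) (n : ℕ) :
    Module.Finite k (Coh.HH X E n) :=
  Groth.EulerDeg.finite_HH k X (Groth.KTheory.LocFree.isCoh hE) n

/-- Line bundles of large degree have no `H^1`. -/
theorem h1_line (hdim : topologicalKrullDim X = 1) {L : X.Modules} (hL : PicF.IsInvertible L)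
    (hd : 2 * (Curv2.genus k X : ℤ) + 1 ≤ Curv2.deg k X L 1) : Subsingleton (Coh.HH X L 1) := by
  refine Groth.Agent.S11823.result k X hdim L hL ?_
  have h := euler_eq (k := k) hdim (E := L) 1
  have := euler_structure_ge (k := k) hdim
  push_cast at h
  omega

/-- Powers of the degree one bundle. -/
theorem exists_deg (hdim : topologicalKrullDim X = 1) (n : ℕ) :
    ∃ L : X.Modules, PicF.IsInvertible L ∧ Curv2.deg k X L 1 = n := by
  obtain ⟨L, M, φ, hL, hM, hLM, hφ, hdeg⟩ := exists_line (k := k) hdim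
  refine ⟨CohB1.tensorPow L n, Groth.PicAux.isInvertible_tensorPow hL n, ?_⟩
  rw [Groth.VarietyBC.CurveDeg.deg_tensorPow k hdim.le hL n, hdeg, mul_one]

omit [IsAlgClosed k] [CharZero k] [IsIntegral X] [IsProper (X ↘ Spec (CommRingCat.of k))]
  [Smooth (X ↘ Spec (CommRingCat.of k))] in
/-- Transposition through a twist. -/
theorem exists_transpose {T U : X.Modules} (h : ClSub.IsInverseOf T U) (A E : X.Modules)
    (s : A ⟶ CohB1.tensorMod E U) (hs : s ≠ 0) :
    ∃ σ : CohB1.tensorMod A T ⟶ E, σ ≠ 0 := by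
  let e := Groth.PicAux.twistEquiv h
  refine ⟨(e.toAdjunction.homEquiv A E).symm s, fun hz => hs ?_⟩
  rw [← (e.toAdjunction.homEquiv A E).apply_symm_apply s]
  exact (congrArg (e.toAdjunction.homEquiv A E) hz).trans (by
    rw [Adjunction.homEquiv_unit]
    exact (congrArg (e.toAdjunction.unit.app A ≫ ·) (e.inverse.map_zero _ _)).trans comp_zero)

/-- A bundle of large degree contains a saturated line subbundle of large degree. -/
theorem exists_line_sub (hdim : topologicalKrullDim X = 1) {E : X.Modules} (hE : FlatMod.IsFinLocFree E)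
    (hr : 0 < rk E) (hd : (3 * (Curv2.genus k X : ℤ) + 2) * (rk E : ℤ) ≤ dg k E) :
    ∃ (N Q : X.Modules) (i : N ⟶ E) (q : E ⟶ Q) (w : i ≫ q = 0),
      (ShortComplex.mk i q w).ShortExact ∧ FlatMod.IsFinLocFreeOfRank 1 N ∧ FlatMod.IsFinLocFree Q ∧
      2 * (Curv2.genus k X : ℤ) + 1 ≤ Curv2.deg k X N 1 := by
  have hc := IsVBCurve.of_smooth k hdim
  obtain ⟨T, hT, hTd⟩ := exists_deg (k := k) hdim (2 * Curv2.genus k X + 1)
  obtain ⟨U, hU, hTU⟩ := Groth.PicAux.exists_isInverseOf hT
  have hT1 := Groth.LocFree.isInvertible_iff_ofRank_one.mp hT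
  have hU1 := Groth.LocFree.isInvertible_iff_ofRank_one.mp hU
  have hEU := Groth.LocFree.isFinLocFreeOfRank_tensorMod (isFinLocFreeOfRank_rk hE) hU1
  rw [mul_one] at hEU
  have hdU : Curv2.deg k X U 1 = -(2 * (Curv2.genus k X : ℤ) + 1) := by
    obtain ⟨e⟩ := hTU
    have h1 := Groth.EulerDeg.deg_tensor_invertible k hdim.le hT hU
    rw [Groth.EulerDeg.deg_congr k e 1, Groth.EulerDeg.deg_structure, hTd] at h1
    push_cast at h1
    linarith
  have hne : ∃ v : Coh.HH X (CohB1.tensorMod E U) 0, v ≠ 0 := by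
    have h1 := Groth.EulerDeg.deg_tensor k hdim.le (isFinLocFreeOfRank_rk hE) hU1
    rw [mul_one, hdU, dg_eq k (isFinLocFreeOfRank_rk hE), Nat.cast_one, one_mul] at h1
    have h2 := euler_eq (k := k) hdim (E := CohB1.tensorMod E U) (rk E)
    rw [h1] at h2
    have h3 := euler_structure_ge (k := k) hdim
    have h4 : (1 : ℤ) ≤ rk E := by exact_mod_cast hr
    have h5 : 0 < Module.finrank k (Coh.HH X (CohB1.tensorMod E U) 0) := by
      have h6 : (0 : ℤ) < Module.finrank k (Coh.HH X (CohB1.tensorMod E U) 0) := by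
        have h7 := mul_le_mul_of_nonneg_left h3 (Int.natCast_nonneg (rk E))
        have h8 : (0 : ℤ) ≤ Module.finrank k (Coh.HH X (CohB1.tensorMod E U) 1) := Int.natCast_nonneg _
        linarith
      exact_mod_cast h6
    have : Nontrivial (Coh.HH X (CohB1.tensorMod E U) 0) := Module.nontrivial_of_finrank_pos (R := k) h5
    exact exists_ne 0
  obtain ⟨v, hv⟩ := hne
  let s : Coh.structureModule X ⟶ CohB1.tensorMod E U :=
    Groth.PicAux.homOfSection (Groth.EulerDeg.h0Equiv k _ v)
  have hs : s ≠ 0 := by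
    intro hz
    apply hv
    rw [← (Groth.EulerDeg.h0Equiv k _).map_eq_zero_iff, ← Groth.PicAux.homOfSection_one
      (Groth.EulerDeg.h0Equiv k (CohB1.tensorMod E U) v)]
    show s.app ⊤ (Groth.PicAux.oneSec X ⊤) = 0
    rw [hz]
    rfl
  let O' := CohB1.tensorMod (Coh.structureModule X) T
  obtain ⟨σ, hσ⟩ : ∃ σ : O' ⟶ E, σ ≠ 0 := exists_transpose hTU _ E s hs
  have hO' : FlatMod.IsFinLocFreeOfRank 1 O' := by
    have := Groth.LocFree.isFinLocFreeOfRank_tensorMod (Groth.LocFree.isInvertible_iff_ofRank_one.mp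
      (Groth.EulerDeg.isInvertible_structureModule X)) hT1
    rwa [mul_one] at this
  have hO'f := Groth.LocFree.isFinLocFree_of_rank hO'
  obtain ⟨K, I, i, p, j, w, hS, hi, hp, hj, hfac, hm, hK, hI, hrk, -, hpos⟩ := exists_image hc hO'f hE σ
  have hI0 := hpos hσ
  rw [rk_eq hO'] at hrk
  have hpm : Mono p := hm (by omega)
  have hσm : Mono σ := hfac ▸ mono_comp p j
  obtain ⟨N, Q, s', i', q, w', hS', -, hs', hN, hQ, hrN⟩ := exists_saturation hc hE hO'f σ
  refine ⟨N, Q, i', q, w', hS', ?_, hQ, ?_⟩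
  · have := isFinLocFreeOfRank_rk hN
    rwa [hrN, rk_eq hO'] at this
  · have h1 := (dg_le_of_mono k hdim.le hO'f hN s' hrN.symm).1
    rw [← dg_eq k hO', dg, hrN, rk_eq hO'] at h1
    have h2 := Groth.EulerDeg.deg_tensor_invertible k hdim.le
      (Groth.EulerDeg.isInvertible_structureModule X) hT
    rw [Groth.EulerDeg.deg_structure, hTd] at h2
    push_cast at h2
    linarith

/-- `H^1` vanishes if all quotient bundles have large slope. -/
theorem h1_of_quot (hdim : topologicalKrullDim X = 1) : ∀ (n : ℕ) (E : X.Modules),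
    FlatMod.IsFinLocFree E → rk E = n →
    (∀ (Q : X.Modules) (q : E ⟶ Q), Epi q → FlatMod.IsFinLocFree Q →
      (3 * (Curv2.genus k X : ℤ) + 2) * (rk Q : ℤ) ≤ dg k Q) → Subsingleton (Coh.HH X E 1) := by
  intro n
  induction n with
  | zero =>
    intro E hE hr _
    have hz := isZero_of_rk_eq_zero hE hr
    have hz' : IsZero (Coh.toAb E) := Functor.map_isZero _ hz
    refine subsingleton_of_forall_eq 0 fun x => ?_
    have h1 := CategoryTheory.Abelian.Ext.comp_mk₀_id x
    rw [show 𝟙 (Coh.toAb E) = 0 from hz'.eq_of_src _ _, CategoryTheory.Abelian.Ext.mk₀_zero,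
      CategoryTheory.Abelian.Ext.comp_zero] at h1
    exact h1.symm
  | succ n ih =>
    intro E hE hr hq
    obtain ⟨N, Q, i, q, w, hS, hN, hQ, hd⟩ := exists_line_sub (k := k) hdim hE (by omega)
      (hq E (𝟙 E) inferInstance hE)
    have hN1 := h1_line (k := k) hdim (Groth.LocFree.isInvertible_iff_ofRank_one.mpr hN) hd
    have hrQ : rk Q = n := by
      have h1 := rk_add hS (Groth.LocFree.isFinLocFree_of_rank hN) hQ
      dsimp only at h1
      rw [hr, rk_eq hN] at h1
      omega
    have hq' : Epi q := hS.epi_g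
    have hQ1 := ih Q hQ hrQ fun R r hr' hR => hq R (q ≫ r) (epi_comp q r) hR
    exact Groth.EulerDeg.subsingleton_of_exact (k := k)
      (Groth.EulerDeg.exact_mid k hS 1)

/-- The bound for a bundle whose subbundles have slope at most `d/r`. -/
theorem h0_le_target (hdim : topologicalKrullDim X = 1) (d : ℤ) (r : ℕ) (hr : 0 < r)
    (hT : (3 * (Curv2.genus k X : ℤ) + 3) * r ≤ d + r * Curv2.euler k X (Coh.structureModule X)) :
    ∀ (n : ℕ) (E : X.Modules), FlatMod.IsFinLocFree E → rk E = n → Bnd k E d r →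
      (r : ℤ) * Module.finrank k (Coh.HH X E 0) ≤
        (n : ℤ) * (d + r * Curv2.euler k X (Coh.structureModule X)) := by
  intro n
  induction n using Nat.strong_induction_on with
  | _ n ih =>
    intro E hE hn hb
    have hc := IsVBCurve.of_smooth k hdim
    set c : ℤ := 3 * (Curv2.genus k X : ℤ) + 2 with hcdef
    set c0 := Curv2.euler k X (Coh.structureModule X) with hc0
    by_cases hall : ∀ (Q : X.Modules) (q : E ⟶ Q), Epi q → FlatMod.IsFinLocFree Q →
        c * (rk Q : ℤ) ≤ dg k Q
    · have h1 := h1_of_quot (k := k) hdim n E hE hn hall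
      have h2 := euler_eq (k := k) hdim (E := E) n
      have h1' : Module.finrank k (Coh.HH X E 1) = 0 := Module.finrank_zero_of_subsingleton
      rw [dg_eq k (hn ▸ isFinLocFreeOfRank_rk hE), h1', Nat.cast_zero, sub_zero] at h2
      have h3 : dg k E * (r : ℤ) ≤ d * (n : ℤ) := by
        rcases Nat.eq_zero_or_pos n with h0 | h0
        · rw [dg_of_rk_zero k hE (hn.trans h0), h0]; simp
        · have := hb E (𝟙 E) inferInstance hE (by omega)
          rwa [hn] at this
      rw [h2, mul_add, mul_add]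
      linarith
    · classical
      simp only [not_forall, not_le] at hall
      obtain ⟨Q₁, q₁, hq₁, hQ₁, hlt₁⟩ := hall
      let P : ℕ → Prop := fun m => ∃ (Q : X.Modules) (q : E ⟶ Q), Epi q ∧ FlatMod.IsFinLocFree Q ∧
        dg k Q < c * (rk Q : ℤ) ∧ rk Q = m
      have hP : ∃ m, P m := ⟨_, Q₁, q₁, hq₁, hQ₁, hlt₁, rfl⟩
      obtain ⟨Q, q, hq, hQ, hlt, hm⟩ := Nat.find_spec hP
      have hQpos : 0 < rk Q := by
        refine Nat.pos_of_ne_zero fun h0 => ?_
        rw [dg_of_rk_zero k hQ h0, h0] at hlt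
        simp at hlt
      have hQb : Bnd k Q (c * (rk Q : ℤ)) (rk Q) := by
        intro G j hj hG hGpos
        obtain ⟨G', R, s, j', p, w, hS, -, hs, hG', hR, hrk⟩ := exists_saturation hc hQ hG j
        have h1 := (dg_le_of_mono k hdim.le hG hG' s hrk.symm).1
        have h2 := rk_add hS hG' hR
        have h3 := dg_add k hS hG' hR
        dsimp only at h2 h3
        have h4 : dg k G' ≤ c * (rk G' : ℤ) := by
          rcases Nat.eq_zero_or_pos (rk R) with h0 | h0
          · rw [dg_of_rk_zero k hR h0] at h3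
            rw [h0] at h2
            rw [h2] at hlt
            simp only [add_zero] at hlt
            linarith
          · have hR' : c * (rk R : ℤ) ≤ dg k R := by
              by_contra hcon
              have hpe : Epi p := hS.epi_g
              refine Nat.find_min hP (m := rk R) (by omega) ⟨R, q ≫ p, epi_comp q p, hR, by omega, rfl⟩
            rw [h2] at hlt
            push_cast at hlt
            linarith
        have h5 : dg k G ≤ c * (rk G : ℤ) := by rw [← hrk]; linarith
        calc dg k G * (rk Q : ℤ) ≤ c * (rk G : ℤ) * (rk Q : ℤ) :=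
              mul_le_mul_of_nonneg_right h5 (Int.natCast_nonneg _)
          _ = c * (rk Q : ℤ) * (rk G : ℤ) := by ring
      have hj : ((3 * Curv2.genus k X + 3 : ℕ) : ℤ) = c + 1 := by push_cast; omega
      have hQ0 := h0_le_of_bnd (k := k) hdim (isFinLocFreeOfRank_rk hQ) hQb (3 * Curv2.genus k X + 3) (by
        rw [hj, hcdef]
        have : (0 : ℤ) < rk Q := by exact_mod_cast hQpos
        linarith)
      obtain ⟨K, I, i, p, j, w, hS, hi, hp, hjm, hfac, -, hK, hI, hrk, -, -⟩ := exists_image hc hE hQ q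
      have : Epi (p ≫ j) := by rw [hfac]; infer_instance
      have : Epi j := epi_of_epi p j
      have : IsIso j := isIso_of_mono_of_epi j
      rw [rk_eq_of_iso hI (asIso j)] at hrk
      have hK0 := ih (rk K) (by omega) K hK rfl (hb.sub i)
      haveI := finite_HH (k := k) hE 0
      haveI := finite_HH (k := k) hI 0
      haveI := finite_HH (k := k) hK 0
      let f := Groth.EulerDeg.hMap k i 0
      let g := Groth.EulerDeg.hMap k p 0
      have hex : Function.Exact f g := Groth.EulerDeg.exact_mid k hS 0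
      have h1 := LinearMap.finrank_range_add_finrank_ker g
      have h2 : Module.finrank k (LinearMap.range g) ≤ Module.finrank k (Coh.HH X Q 0) := by
        rw [← (Groth.EulerDeg.hEquiv k (asIso j) 0).finrank_eq]
        exact Submodule.finrank_le _
      have h3 : Module.finrank k (LinearMap.ker g) ≤ Module.finrank k (Coh.HH X K 0) := by
        rw [LinearMap.exact_iff.1 hex]
        exact LinearMap.finrank_range_le f
      have h4 : (Module.finrank k (Coh.HH X E 0) : ℤ) ≤
          Module.finrank k (Coh.HH X K 0) + (c + 1) * (rk Q : ℤ) := by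
        rw [← hj]
        exact_mod_cast le_trans h1.ge (by omega)
      have h5 : (rk Q : ℤ) * ((c + 1) * r) ≤ (rk Q : ℤ) * (d + r * c0) :=
        mul_le_mul_of_nonneg_left (by rw [hcdef]; linarith) (Int.natCast_nonneg _)
      have h6 := mul_le_mul_of_nonneg_left h4 (Int.natCast_nonneg r)
      rw [← hn, hrk]
      push_cast
      linarith

/-- A mono into a bundle, twisted. -/
theorem bnd_tensor (hdim : topologicalKrullDim X = 1) {T : X.Modules} (hT : PicF.IsInvertible T)
    {E : X.Modules} {d : ℤ} {r : ℕ} (h : Bnd k E d r) :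
    Bnd k (CohB1.tensorMod E T) (d + r * Curv2.deg k X T 1) r := by
  obtain ⟨U, hU, hTU⟩ := Groth.PicAux.exists_isInverseOf hT
  have hUT := Groth.PicAux.isInverseOf_symm hTU
  intro G i hi hG hpos
  let e := Groth.PicAux.twistEquiv hUT
  haveI := hi
  haveI : e.functor.IsEquivalence := e.isEquivalence_functor
  haveI : Mono (e.functor.map i) := e.functor.map_mono i
  let i' : CohB1.tensorMod G U ⟶ E := e.functor.map i ≫ (e.counitIso.app E).hom
  have hU1 := Groth.LocFree.isInvertible_iff_ofRank_one.mp hU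
  have hGU := Groth.LocFree.isFinLocFreeOfRank_tensorMod (isFinLocFreeOfRank_rk hG) hU1
  have h1 := h (CohB1.tensorMod G U) i'
    (@mono_comp _ _ _ _ _ (e.functor.map i) ‹_› (e.counitIso.app E).hom inferInstance)
    (Groth.LocFree.isFinLocFree_of_rank hGU) (by rw [rk_eq hGU]; omega)
  have h2 := Groth.EulerDeg.deg_tensor k hdim.le (isFinLocFreeOfRank_rk hG) hU1
  rw [dg_eq k hGU, dg_eq k (isFinLocFreeOfRank_rk hG)] at h2
  have h3 := Groth.EulerDeg.deg_tensor_invertible k hdim.le hT hU
  obtain ⟨eTU⟩ := hTU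
  rw [Groth.EulerDeg.deg_congr k eTU 1, Groth.EulerDeg.deg_structure] at h3
  rw [h2, rk_eq hGU] at h1
  push_cast at h1
  have h4 : Curv2.deg k X U 1 = -Curv2.deg k X T 1 := by linarith
  rw [h4] at h1
  linarith

/-- `H^1` vanishing passes to quotients, after twisting. -/
theorem h1_of_epi_free (hdim : topologicalKrullDim X = 1) {T : X.Modules} (hT : PicF.IsInvertible T)
    (hd : 2 * (Curv2.genus k X : ℤ) + 1 ≤ Curv2.deg k X T 1) {F : X.Modules} {N : ℕ}
    (q : FlatMod.freeMod X N ⟶ F) [Epi q] : Subsingleton (Coh.HH X (CohB1.tensorMod F T) 1) := by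
  classical
  haveI := Groth.PicAux.isEquivalence_tensorRightMod_of_isInvertible hT
  let Fu := DCoh.tensorRightMod T
  have hO : Subsingleton (Coh.HH X (Fu.obj (Coh.structureModule X)) 1) := by
    refine h1_line (k := k) hdim (Groth.PicAux.isInvertible_tensorMod
      (Groth.EulerDeg.isInvertible_structureModule X) hT) ?_
    show _ ≤ Curv2.deg k X (CohB1.tensorMod (Coh.structureModule X) T) 1
    rw [Groth.EulerDeg.deg_tensor_invertible k hdim.le
      (Groth.EulerDeg.isInvertible_structureModule X) hT, Groth.EulerDeg.deg_structure, zero_add]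
    exact hd
  haveI : HasFiniteBiproducts X.Modules := HasFiniteBiproducts.of_hasFiniteCoproducts
  let B : X.Modules := ⨁ fun _ : Fin N => Coh.structureModule X
  have hB : Subsingleton (Coh.HH X (Fu.obj B) 1) := by
    refine subsingleton_of_forall_eq 0 fun x => ?_
    have hid : Fu.map (𝟙 B) = ∑ j : Fin N, Fu.map (biproduct.π _ j) ≫ Fu.map (biproduct.ι _ j) := by
      rw [← biproduct.total, Functor.map_sum]
      simp only [Functor.map_comp]
    have hadd : ∀ (φ ψ : Fu.obj B ⟶ Fu.obj B), Groth.EulerDeg.hMap k (φ + ψ) 1 x =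
        Groth.EulerDeg.hMap k φ 1 x + Groth.EulerDeg.hMap k ψ 1 x := fun φ ψ => by
      show Sheaf.H.map (Groth.EulerDeg.abMap (φ + ψ)) 1 x = _
      rw [show Groth.EulerDeg.abMap (φ + ψ) = Groth.EulerDeg.abMap φ + Groth.EulerDeg.abMap ψ from
        (Groth.CohBase.toAbF X).map_add]
      simp only [Groth.EulerDeg.hMap_apply]
      exact (congrArg (Abelian.Ext.comp x · (add_zero 1)) (Abelian.Ext.mk₀_add _ _)).trans
        (Abelian.Ext.comp_add x _ _ _)
    let Ψ : (Fu.obj B ⟶ Fu.obj B) →+ Coh.HH X (Fu.obj B) 1 :=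
      AddMonoidHom.mk' (fun φ => Groth.EulerDeg.hMap k φ 1 x) hadd
    have h1 : x = Ψ (Fu.map (𝟙 B)) := by
      show x = Groth.EulerDeg.hMap k (Fu.map (𝟙 B)) 1 x
      rw [CategoryTheory.Functor.map_id, Groth.EulerDeg.hMap_id, LinearMap.id_apply]
    rw [h1, hid, map_sum]
    refine Finset.sum_eq_zero fun j _ => ?_
    show Groth.EulerDeg.hMap k (Fu.map (biproduct.π _ j) ≫ Fu.map (biproduct.ι _ j)) 1 x = 0
    haveI := hO
    have hz : Groth.EulerDeg.hMap k (Fu.map (biproduct.π (fun _ : Fin N => Coh.structureModule X) j)) 1 x =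
        (0 : Coh.HH X (Fu.obj (Coh.structureModule X)) 1) := Subsingleton.elim _ _
    rw [Groth.EulerDeg.hMap_comp, LinearMap.comp_apply, hz, map_zero]
  let p : Fu.obj B ⟶ CohB1.tensorMod F T := Fu.map ((biproduct.isoCoproduct _).hom ≫ q)
  haveI : Epi p := Fu.map_epi _
  let S := ShortComplex.mk (kernel.ι p) p (kernel.condition p)
  have hS : S.ShortExact := { exact := ShortComplex.exact_kernel p }
  haveI := Groth.EulerDeg.noetherianSpace_of_proper k X
  haveI : Subsingleton (Coh.HH X S.X₁ (1 + 1)) :=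
    Groth.EulerDeg.subsingleton_HH_of_dim_le_one X hdim.le _ 2 le_rfl
  haveI : Subsingleton (Coh.HH X S.X₂ 1) := hB
  exact Groth.EulerDeg.subsingleton_of_exact (k := k) (Groth.EulerDeg.exact_right k hS 1)

end Groth.VBCurves.H0Bound
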