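import Groth.Agent.VBCurves.GenusOneLine

/-!
# Indecomposable bundles on a curve of genus one
-/

set_option autoImplicit false
set_option linter.unusedSectionVars false
set_option linter.style.haveILetI false

universe u

open CategoryTheory CategoryTheory.Limits AlgebraicGeometry TopologicalSpace
open CategoryTheory.Abelian (Ext)
open scoped Groth.CurveBridge

namespace Groth.VBCurves.GenusOne

variable {k : Type u} [Field k] {X : Scheme.{u}} [X.Over (Spec (CommRingCat.of k))]
  [IsIntegral X] [IsProper (X ↘ Spec (CommRingCat.of k))]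

/-- A decomposable bundle is not simple. -/
theorem indec_of_scalar {E : X.Modules} (h0 : ¬ IsZero E)
    (hs : ∀ φ : E ⟶ E, ∃ c : k, φ = scal k E c) : Indec E := by
  refine ⟨h0, fun E₁ E₂ ⟨e⟩ => ?_⟩
  obtain ⟨c, hc'⟩ := hs (e.hom ≫ biprod.fst ≫ biprod.inl ≫ e.inv)
  rcases eq_or_ne c 0 with rfl | hc0
  · left
    refine (IsZero.iff_id_eq_zero _).2 ?_
    have h1 : scal k E (0 : k) = 0 :=
      Groth.CohTwo.hom_ext_app fun W s => by
        rw [scal_app, map_zero]
        exact zero_smul (Γ(X, W)) s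
    rw [h1] at hc'
    have h2 := congrArg (fun t => biprod.inl ≫ e.inv ≫ t ≫ e.hom ≫ biprod.fst) hc'
    simpa using h2
  · right
    refine (IsZero.iff_id_eq_zero _).2 ?_
    have := isIso_scal k E hc0
    have h2 : (biprod.inr ≫ e.inv) ≫ (e.hom ≫ biprod.fst ≫ biprod.inl ≫ e.inv) = 0 := by simp
    rw [hc'] at h2
    have h4 : biprod.inr ≫ e.inv = 0 := by
      rw [← cancel_mono (scal k E c), h2, zero_comp]
    have h3 := congrArg (fun t => t ≫ e.hom ≫ biprod.snd) h4
    simpa using h3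

variable [IsAlgClosed k]

/-- A semistable bundle of rank two and even degree has a line subbundle of half the degree. -/
theorem exists_half_line (h : Groth.CurveBridge.IsRegCurve X)
    (hK : FunFld.IsFunctionField k X.functionField) (hc : IsVBCurve k X) {ω : X.Modules}
    (hω : IsDualizing k ω) (hg : Curv2.genus k X = 1) {E : X.Modules}
    (hE : FlatMod.IsFinLocFree E) (hr : rk E = 2) (hss : SS k E) {e : ℤ} (hd : dg k E = e + e) :
    ∃ (G Q : X.Modules) (i : G ⟶ E) (q : E ⟶ Q) (w : i ≫ q = 0),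
      (ShortComplex.mk i q w).ShortExact ∧ FlatMod.IsFinLocFreeOfRank 1 G ∧
      FlatMod.IsFinLocFreeOfRank 1 Q ∧ dg k G = e ∧ dg k Q = e := by
  obtain ⟨N, hN1, hdN⟩ := exists_line (k := k) h hK (-e)
  have hN := Groth.LocFree.isInvertible_iff_ofRank_one.2 hN1
  obtain ⟨hrH, hdH⟩ := tw_numerics (k := k) hc hN hE
  rw [hd, hr, hdN] at hdH
  obtain ⟨P, hP, hdP, f, hf⟩ := exists_line_hom h hK hc hω hg (isFinLocFree_tw hN hE)
    (by rw [hrH, hr]; norm_num) (by rw [hdH]; push_cast; ring)
  obtain ⟨N', hN', hinv⟩ := Groth.PicAux.exists_isInverseOf hN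
  have := Groth.PicAux.isEquivalence_tensorRightMod_of_isInvertible hN'
  have : PreservesBinaryBiproducts (tw N') :=
    preservesBinaryBiproducts_of_preservesBinaryProducts (tw N')
  have := Functor.additive_of_preservesBinaryBiproducts (tw N')
  obtain ⟨en⟩ := id hinv
  let back : (tw N').obj ((tw N).obj E) ≅ E :=
    (Groth.PicAux.exists_associator E N N').choose ≪≫ PicGrp.tensorModIso (Iso.refl E) en ≪≫
      SecTwist.unitorR E
  let g : (tw N').obj P ⟶ E := (tw N').map f ≫ back.hom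
  have hg0 : g ≠ 0 := fun h0 => hf <| (tw N').map_injective <| by
    rw [Functor.map_zero, ← cancel_mono back.hom]
    exact h0.trans zero_comp.symm
  let L := (tw N').obj P
  have hL : FlatMod.IsFinLocFreeOfRank 1 L := Groth.LocFree.isFinLocFreeOfRank_tensorMod hP
    (Groth.LocFree.isInvertible_iff_ofRank_one.1 hN')
  have hdL : dg k L = e := by
    rw [← dg_eq k hL]
    refine (Groth.EulerDeg.deg_tensor_invertible k hc.dim.le
      (Groth.LocFree.isInvertible_iff_ofRank_one.2 hP) hN').trans ?_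
    rw [hdP, HomEuler.deg_inverse hc hN hN' hinv, hdN]
    ring
  have hL' := Groth.LocFree.isFinLocFree_of_rank hL
  obtain ⟨K, I, i₀, p, j, w₀, -, -, hp, hj, hfac, hpm, hK', hI, hrk, -, hI0⟩ :=
    exists_image hc hL' hE g
  have := hI0 hg0
  rw [rk_eq hL] at hrk
  have := hpm (by omega)
  have : Mono g := by rw [← hfac]; infer_instance
  obtain ⟨G, Q, σ, i, q, w, hS, hσ, hσm, hG, hQ, hrG⟩ := exists_saturation hc hE hL' g
  rw [rk_eq hL] at hrG
  have hr2 := rk_add hS hG hQ
  have hd2 := dg_add k hS hG hQ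
  dsimp only at hr2 hd2
  have hle := (dg_le_of_mono k hc.dim.le hL' hG σ (by rw [rk_eq hL, hrG])).1
  have hge := hss G i hS.mono_f hG (by omega)
  rw [hr, hd, hrG] at hge
  push_cast at hge
  refine ⟨G, Q, i, q, w, hS, hrG ▸ isFinLocFreeOfRank_rk hG,
    (show rk Q = 1 by omega) ▸ isFinLocFreeOfRank_rk hQ, by omega, by omega⟩

/-- An indecomposable rank two bundle of even degree is a self-extension of a line. -/
theorem exists_self_extension (h : Groth.CurveBridge.IsRegCurve X)
    (hK : FunFld.IsFunctionField k X.functionField) (hc : IsVBCurve k X) {ω : X.Modules}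
    (hω : IsDualizing k ω) (hg : Curv2.genus k X = 1) {E : X.Modules}
    (hE : FlatMod.IsFinLocFree E) (hr : rk E = 2) (hind : Indec E) {e : ℤ}
    (hd : dg k E = e + e) :
    ∃ (G Q : X.Modules) (i : G ⟶ E) (q : E ⟶ Q) (w : i ≫ q = 0) (_ : G ≅ Q),
      (ShortComplex.mk i q w).ShortExact ∧ FlatMod.IsFinLocFreeOfRank 1 G := by
  obtain ⟨G, Q, i, q, w, hS, hG, hQ, hdG, hdQ⟩ :=
    exists_half_line h hK hc hω hg hE hr (ss_of_indec hc hω hg hE hind) hd
  have hG' := Groth.LocFree.isFinLocFree_of_rank hG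
  have hQ' := Groth.LocFree.isFinLocFree_of_rank hQ
  by_cases h0 : ∀ φ : G ⟶ Q, φ = 0
  · exfalso
    have hsplit : IsSplitEpi q := isSplitEpi_of_hom_eq_zero hc hω hg hS hG' hQ' h0
    let σ := ShortComplex.Splitting.ofExactOfSection (ShortComplex.mk i q w) hS.exact (section_ q)
      (IsSplitEpi.id q) hS.mono_f
    rcases hind.2 _ _ ⟨σ.isoBinaryBiproduct⟩ with hz | hz
    · exact not_isZero_of_rank hG one_pos hz
    · exact not_isZero_of_rank hQ one_pos hz
  · push Not at h0
    obtain ⟨φ, hφ⟩ := h0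
    have : Mono φ := mono_of_stable hc hG' hQ' (st_line hG) (St.ss hc hQ' (st_line hQ))
      (by rw [rk_eq hG, rk_eq hQ, hdG, hdQ]) (by rw [rk_eq hQ]; norm_num) φ hφ
    have := isIso_of_mono hc hG' hQ' φ (by rw [rk_eq hG, rk_eq hQ]) (by rw [hdG, hdQ])
    exact ⟨G, Q, i, q, w, asIso φ, hS, hG⟩

/-- An indecomposable bundle is stable exactly when rank and degree are coprime. -/
theorem stable_iff_gcd (h : Groth.CurveBridge.IsRegCurve X)
    (hK : FunFld.IsFunctionField k X.functionField) (hc : IsVBCurve k X) {ω : X.Modules}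
    (hω : IsDualizing k ω) (hg : Curv2.genus k X = 1) {F : X.Modules}
    (hF : FlatMod.IsFinLocFree F) (hind : Indec F) :
    St k F ↔ Int.gcd (dg k F) (rk F : ℤ) = 1 := by
  have : IsNoetherian X := Groth.EulerDeg.isNoetherian_of_proper k X
  have hpos : 0 < rk F := Nat.pos_of_ne_zero fun h0 => hind.1 (isZero_of_rk_eq_zero hF h0)
  constructor
  · intro hst
    by_contra hne
    let m : ℕ := Int.gcd (dg k F) (rk F : ℤ)
    have hm0 : 0 < m := Int.gcd_pos_of_ne_zero_right _ (by omega)
    obtain ⟨r', hr'⟩ : m ∣ rk F := by exact_mod_cast Int.gcd_dvd_right (dg k F) (rk F : ℤ)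
    obtain ⟨d', hd'⟩ : (m : ℤ) ∣ dg k F := Int.gcd_dvd_left (dg k F) (rk F : ℤ)
    have hr'' : (rk F : ℤ) = (m : ℤ) * r' := by exact_mod_cast hr'
    have hr'0 : 0 < r' := Nat.pos_of_ne_zero fun h0 => by simp [h0] at hr'; omega
    have hlt : r' < rk F := by
      have h2 : 2 * r' ≤ m * r' := Nat.mul_le_mul_right _ (by omega)
      omega
    have hco : IsCoprime (r' : ℤ) d' := by
      refine ⟨Int.gcdB (dg k F) (rk F : ℤ), Int.gcdA (dg k F) (rk F : ℤ),
        mul_left_cancel₀ (show (m : ℤ) ≠ 0 by omega) ?_⟩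
      have hb : (m : ℤ) = dg k F * Int.gcdA (dg k F) (rk F : ℤ) +
          (rk F : ℤ) * Int.gcdB (dg k F) (rk F : ℤ) := Int.gcd_eq_gcd_ab _ _
      linear_combination -hb - (Int.gcdA (dg k F) (rk F : ℤ)) * hd' -
        (Int.gcdB (dg k F) (rk F : ℤ)) * hr''
    have : HasExt.{u} X.Modules := hasExt_of_enoughInjectives _
    obtain ⟨F', hF', hrF', hdF', sF'⟩ := exists_stable h hK hc hω hg r' d' hr'0 hco
    have := Groth.Duality.SheafHom.hasSheafHom F'
    let H := (DCoh.sheafHom F').obj F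
    let eH : H ≅ RefHull.homSh F' F := Groth.CohTwo.SheafHomIso.iso F' F
    have hH1 : FlatMod.IsFinLocFreeOfRank (rk F' * rk F) H :=
      Groth.LocFree.isFinLocFreeOfRank_of_iso eH.symm
        (Groth.LocFree.isFinLocFreeOfRank_homSh (isFinLocFreeOfRank_rk hF')
          (isFinLocFreeOfRank_rk hF))
    have hdH : dg k H = 0 := by
      obtain ⟨e1⟩ := Groth.Duality.SheafHom.nonempty_ext_linearEquiv k F' hF' 1 F
      have he := HomEuler.hom_sub_ext hc hω hF' (rk F) F hF rfl
      rw [(Groth.Duality.SheafHom.homH0 F' k F).finrank_eq, e1.finrank_eq, hrF', hdF', hd', hr'',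
        hg] at he
      have heul : Curv2.euler k X H = 0 := by
        rw [Groth.EulerDeg.euler_eq_sub (k := k) fun n hn =>
          Groth.EulerDeg.subsingleton_HH_of_dim_le_one X hc.dim.le _ n hn]
        push_cast at he
        linarith
      rw [dg, Curv2.deg, heul, HomEuler.euler_structure_of hc hω, hg]
      simp
    have hH0 : 0 < rk H := by rw [rk_eq hH1, hrF']; positivity
    obtain ⟨P, hP1, hdP, f, hf⟩ :=
      exists_line_hom h hK hc hω hg (Groth.LocFree.isFinLocFree_of_rank hH1) hH0 hdH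
    have hP := Groth.LocFree.isInvertible_iff_ofRank_one.2 hP1
    let adj := DCoh.sheafHomAdj F'
    let g : (tw P).obj F' ⟶ F := (adj.homEquiv P F).symm f
    have hg0 : g ≠ 0 := fun h0 => hf <| by
      have h1 : adj.homEquiv P F g = f := Equiv.apply_symm_apply _ _
      rw [← h1, h0]
      have : (DCoh.sheafHom F').Additive := adj.right_adjoint_additive
      have h3 : adj.homEquiv P F (0 : (DCoh.tensorBi.obj F').obj P ⟶ F) = 0 := by
        rw [Adjunction.homEquiv_unit, Functor.map_zero, comp_zero]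
      exact h3
    obtain ⟨hrT, hdT⟩ := tw_numerics (k := k) hc hP hF'
    rw [hdP, mul_zero, add_zero, hdF'] at hdT
    have hTss : SS k ((tw P).obj F') := by
      have h1 := Bnd.twist hc hP (sF'.ss hc hF')
      rw [hdP, mul_zero, add_zero, hrF', hdF'] at h1
      rw [SS, hrT, hdT, hrF']
      exact h1
    obtain ⟨K, I, i, p, j, w, -, -, -, hj, -, -, -, hI, hr, hI0, -, hIs⟩ :=
      slope_image hc (isFinLocFree_tw hP hF') hF hTss (hst.ss hc hF)
        (by rw [hdT, hrT, hrF', hd', hr'']; ring) hpos g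
    have h1 := hst I j hj hI (hI0 hg0) (by rw [hrT, hrF'] at hr; omega)
    omega
  · intro hgcd G i hi hG hG0 hlt
    refine lt_of_le_of_ne (ss_of_indec hc hω hg hF hind G i hi hG hG0) fun he => ?_
    have hdvd : (rk F : ℤ) ∣ dg k F * (rk G : ℤ) := ⟨dg k G, by rw [← he, mul_comm]⟩
    have h2 : (rk F : ℤ) ∣ (rk G : ℤ) :=
      Int.dvd_of_dvd_mul_left_of_gcd_one (a := (rk F : ℤ)) (by rwa [mul_comm] at hdvd ⊢)
        (by rw [Int.gcd_comm]; exact hgcd)
    have := Int.le_of_dvd (by omega) h2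
    omega

end Groth.VBCurves.GenusOne
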