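import Groth.Agent.VBCurves.Slope

/-!
# Maximal slope subbundles
-/

set_option autoImplicit false

universe u

open CategoryTheory CategoryTheory.Limits AlgebraicGeometry

namespace Groth.VBCurves

variable {k : Type u} [Field k] {X : Scheme.{u}} [X.Over (Spec (CommRingCat.of k))] [IsIntegral X]
  [IsProper (X ↘ Spec (CommRingCat.of k))]

/-- Degrees of subbundles are bounded in each rank. -/
theorem dg_le_bound (hc : IsVBCurve k X) {E G : X.Modules} (hE : FlatMod.IsFinLocFree E)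
    (i : G ⟶ E) [Mono i] :
    dg k G ≤ (Module.finrank k (Coh.HH X E 0) : ℤ) +
      (rk E : ℤ) * |Curv2.euler k X (Coh.structureModule X)| := by
  refine (dg_le_h0_sub k hc.dim.le i (Groth.KTheory.LocFree.isCoh hE)).trans ?_
  rw [sub_eq_add_neg]
  refine add_le_add le_rfl ?_
  rw [← mul_neg]
  exact (mul_le_mul_of_nonneg_left (neg_le_abs _) (Int.natCast_nonneg _)).trans
    (mul_le_mul_of_nonneg_right (by exact_mod_cast rk_le_of_mono i hE) (abs_nonneg _))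

/-- Among the subbundles with a property holding for the whole bundle, one of maximal slope, of
largest rank among those. -/
theorem exists_max_of (hc : IsVBCurve k X) {E : X.Modules} (hE : FlatMod.IsFinLocFree E)
    (hr : 0 < rk E) (R : ∀ G : X.Modules, (G ⟶ E) → Prop) (hR : R E (𝟙 E)) :
    ∃ (E₁ : X.Modules) (i₁ : E₁ ⟶ E), Mono i₁ ∧ FlatMod.IsFinLocFree E₁ ∧ 0 < rk E₁ ∧ R E₁ i₁ ∧
      (∀ (G : X.Modules) (j : G ⟶ E), Mono j → FlatMod.IsFinLocFree G → 0 < rk G → R G j →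
        dg k G * (rk E₁ : ℤ) ≤ dg k E₁ * (rk G : ℤ)) ∧
      ∀ (G : X.Modules) (j : G ⟶ E), Mono j → FlatMod.IsFinLocFree G → 0 < rk G → R G j →
        dg k G * (rk E₁ : ℤ) = dg k E₁ * (rk G : ℤ) → rk G ≤ rk E₁ := by
  classical
  let P : ℕ → ℤ → Prop := fun n d => ∃ (G : X.Modules) (j : G ⟶ E),
    Mono j ∧ FlatMod.IsFinLocFree G ∧ R G j ∧ rk G = n ∧ dg k G = d
  let s := (Finset.Icc 1 (rk E)).filter fun n => ∃ d, P n d
  have hmax : ∀ n ∈ s, ∃ d, P n d ∧ ∀ d', P n d' → d' ≤ d := fun n hn =>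
    Int.exists_greatest_of_bdd ⟨_, fun _ ⟨G, j, hj, _, _, _, hd⟩ => hd ▸ dg_le_bound hc hE j⟩
      (Finset.mem_filter.1 hn).2
  choose! D hD hDle using hmax
  have hs : s.Nonempty := ⟨rk E, Finset.mem_filter.2
    ⟨Finset.mem_Icc.2 ⟨hr, le_rfl⟩, dg k E, E, 𝟙 E, inferInstance, hE, hR, rfl, rfl⟩⟩
  obtain ⟨n, hn, hnmax⟩ := s.exists_max_image (fun n => toLex ((D n : ℚ) / (n : ℚ), n)) hs
  obtain ⟨E₁, i₁, hi₁, hE₁, hR₁, hrk, hdg⟩ := hD n hn
  have hn0 : 0 < n := (Finset.mem_Icc.1 (Finset.mem_filter.1 hn).1).1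
  have key : ∀ (G : X.Modules) (j : G ⟶ E), Mono j → FlatMod.IsFinLocFree G → 0 < rk G → R G j →
      dg k G * (n : ℤ) ≤ D n * (rk G : ℤ) ∧ (dg k G * (n : ℤ) = D n * (rk G : ℤ) → rk G ≤ n) := by
    intro G j hj hG hpos hRG
    have hm : rk G ∈ s := Finset.mem_filter.2
      ⟨Finset.mem_Icc.2 ⟨hpos, rk_le_of_mono j hE⟩, dg k G, G, j, hj, hG, hRG, rfl, rfl⟩
    have hle : dg k G ≤ D (rk G) := hDle _ hm _ ⟨G, j, hj, hG, hRG, rfl, rfl⟩
    have hn' : (0 : ℚ) < n := by exact_mod_cast hn0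
    have hG' : (0 : ℚ) < rk G := by exact_mod_cast hpos
    have h := Prod.Lex.le_iff.1 (hnmax _ hm)
    simp only [ofLex_toLex] at h
    have h1 : (D (rk G) : ℚ) / (rk G : ℚ) ≤ (D n : ℚ) / (n : ℚ) := by
      rcases h with h | h
      exacts [h.le, h.1.le]
    rw [div_le_div_iff₀ hG' hn'] at h1
    have h1' : D (rk G) * (n : ℤ) ≤ D n * (rk G : ℤ) := by exact_mod_cast h1
    refine ⟨(mul_le_mul_of_nonneg_right hle (Int.natCast_nonneg _)).trans h1', fun heq => ?_⟩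
    rcases h with h | h
    · exfalso
      rw [div_lt_div_iff₀ hG' hn'] at h
      have h' : D (rk G) * (n : ℤ) < D n * (rk G : ℤ) := by exact_mod_cast h
      have := mul_le_mul_of_nonneg_right hle (Int.natCast_nonneg n)
      omega
    · exact h.2
  refine ⟨E₁, i₁, hi₁, hE₁, hrk ▸ hn0, hR₁, fun G j hj hG hpos hRG => ?_,
    fun G j hj hG hpos hRG heq => ?_⟩
  · rw [hrk, hdg]
    exact (key G j hj hG hpos hRG).1
  · rw [hrk] at heq ⊢
    rw [hdg] at heq
    exact (key G j hj hG hpos hRG).2 heq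

/-- A subbundle of maximal slope, of largest rank among those. -/
theorem exists_max (hc : IsVBCurve k X) {E : X.Modules} (hE : FlatMod.IsFinLocFree E)
    (hr : 0 < rk E) :
    ∃ (E₁ : X.Modules) (i₁ : E₁ ⟶ E), Mono i₁ ∧ FlatMod.IsFinLocFree E₁ ∧ 0 < rk E₁ ∧
      Bnd k E (dg k E₁) (rk E₁) ∧
      ∀ (G : X.Modules) (j : G ⟶ E), Mono j → FlatMod.IsFinLocFree G → 0 < rk G →
        dg k G * (rk E₁ : ℤ) = dg k E₁ * (rk G : ℤ) → rk G ≤ rk E₁ := by
  obtain ⟨E₁, i₁, h₁, h₂, h₃, -, h₄, h₅⟩ := exists_max_of hc hE hr (fun _ _ => True) trivial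
  exact ⟨E₁, i₁, h₁, h₂, h₃, fun G j a b c => h₄ G j a b c trivial,
    fun G j a b c => h₅ G j a b c trivial⟩

omit [IsProper (X ↘ Spec (CommRingCat.of k))] in
/-- A maximal slope subbundle is semistable. -/
theorem ss_of_max {E E₁ : X.Modules} (i₁ : E₁ ⟶ E) [Mono i₁]
    (h : Bnd k E (dg k E₁) (rk E₁)) : SS k E₁ := h.sub i₁

/-- A maximal slope subbundle is saturated. -/
theorem isFinLocFree_cokernel_of_max (hc : IsVBCurve k X) {E E₁ : X.Modules}
    (hE : FlatMod.IsFinLocFree E) (hE₁ : FlatMod.IsFinLocFree E₁) (i₁ : E₁ ⟶ E) [Mono i₁]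
    (hpos : 0 < rk E₁) (h : Bnd k E (dg k E₁) (rk E₁)) :
    FlatMod.IsFinLocFree (cokernel i₁) := by
  obtain ⟨G', Q, s, i', q, w, hS, hs, hsm, hG', hQ, hrk⟩ := exists_saturation hc hE hE₁ i₁
  have hi' : Mono i' := hS.mono_f
  have hd := dg_le_of_mono k hc.dim.le hE₁ hG' s hrk.symm
  have h' := h G' i' hi' hG' (by omega)
  rw [hrk] at h'
  have hd' : dg k G' ≤ dg k E₁ := le_of_mul_le_mul_right h' (by exact_mod_cast hpos)
  have : IsIso s := hd.2.1 (le_antisymm hd.1 hd')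
  have hq : Epi q := hS.epi_g
  let e₁ : cokernel i' ≅ Q := IsColimit.coconePointUniqueUpToIso (cokernelIsCokernel i') hS.gIsCokernel
  let e₂ : cokernel i₁ ≅ cokernel i' := cokernelIsoOfEq hs.symm ≪≫ cokernelEpiComp s i'
  exact Groth.KTheory.LocFree.isFinLocFree_of_iso (e₂ ≪≫ e₁).symm hQ

theorem exact_preimage {C : Type*} [Category C] [Abelian C] {A B R G Q : C} {i : A ⟶ B} {π : B ⟶ R}
    {w : i ≫ π = 0} [Mono i] (hex : (ShortComplex.mk i π w).Exact) {c : G ⟶ B} {b : G ⟶ Q}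
    {j : Q ⟶ R} (hp : IsPullback c b π j) (a : A ⟶ G) (hac : a ≫ c = i) (hab : a ≫ b = 0) :
    (ShortComplex.mk a b hab).Exact := by
  have : Mono (a ≫ c) := by rw [hac]; infer_instance
  have : Mono a := mono_of_mono a c
  rw [ShortComplex.exact_iff_exact_up_to_refinements]
  intro W g hg
  have hz : (g ≫ c) ≫ π = 0 := by rw [Category.assoc, hp.w, reassoc_of% hg, zero_comp]
  refine ⟨W, 𝟙 W, inferInstance, hex.lift (g ≫ c) hz, hp.hom_ext ?_ ?_⟩
  · rw [Category.id_comp]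
    exact ((Category.assoc _ _ _).trans ((congrArg (hex.lift (g ≫ c) hz ≫ ·) hac).trans
      (hex.lift_f (g ≫ c) hz))).symm
  · rw [Category.id_comp]
    exact hg.trans (((Category.assoc _ _ _).trans
      ((congrArg (hex.lift (g ≫ c) hz ≫ ·) hab).trans comp_zero))).symm

/-- The preimage of a subobject of a cokernel is an extension. -/
theorem exists_preimage {C : Type*} [Category C] [Abelian C] {A B Q : C} (i : A ⟶ B) [Mono i]
    (j : Q ⟶ cokernel i) [Mono j] :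
    ∃ (G : C) (a : A ⟶ G) (b : G ⟶ Q) (c : G ⟶ B) (w : a ≫ b = 0),
      (ShortComplex.mk a b w).ShortExact ∧ Mono c := by
  have hp := IsPullback.of_hasPullback (cokernel.π i) j
  have hc : Mono (pullback.fst (cokernel.π i) j) := inferInstance
  have hb : Epi (pullback.snd (cokernel.π i) j) := inferInstance
  have hw : i ≫ cokernel.π i = (0 : A ⟶ Q) ≫ j := by rw [cokernel.condition, zero_comp]
  obtain ⟨a, hac, hab⟩ : ∃ a, a ≫ pullback.fst (cokernel.π i) j = i ∧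
      a ≫ pullback.snd (cokernel.π i) j = 0 :=
    ⟨pullback.lift i 0 hw, pullback.lift_fst _ _ _, pullback.lift_snd _ _ _⟩
  have : Mono (a ≫ pullback.fst (cokernel.π i) j) := by rw [hac]; infer_instance
  exact ⟨_, a, _, _, hab,
    { exact := exact_preimage (ShortComplex.exact_cokernel i) hp a hac hab
      mono_f := mono_of_mono a (pullback.fst (cokernel.π i) j)
      epi_g := hb }, hc⟩

/-- The quotient by the largest maximal slope subbundle has only subbundles of smaller slope. -/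
theorem quot_slope_lt (hc : IsVBCurve k X) {E E₁ : X.Modules}
    (hE₁ : FlatMod.IsFinLocFree E₁) (i₁ : E₁ ⟶ E) [Mono i₁] (h : Bnd k E (dg k E₁) (rk E₁))
    (hbig : ∀ (G : X.Modules) (j : G ⟶ E), Mono j → FlatMod.IsFinLocFree G → 0 < rk G →
      dg k G * (rk E₁ : ℤ) = dg k E₁ * (rk G : ℤ) → rk G ≤ rk E₁)
    (Q : X.Modules) (j : Q ⟶ cokernel i₁) [Mono j] (hQ : FlatMod.IsFinLocFree Q) (hpos : 0 < rk Q) :
    dg k Q * (rk E₁ : ℤ) < dg k E₁ * (rk Q : ℤ) := by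
  obtain ⟨G, a, b, c, w, hS, hfst⟩ := exists_preimage i₁ j
  have hG : FlatMod.IsFinLocFree G := Groth.KTheory.LocFree.isFinLocFree_of_shortExact hS hE₁ hQ
  have hr := rk_add hS hE₁ hQ
  have hd := dg_add k hS hE₁ hQ
  dsimp only at hr hd
  have h1 := h G c hfst hG (by omega)
  have h2 : dg k G * (rk E₁ : ℤ) ≠ dg k E₁ * (rk G : ℤ) := fun he => by
    have := hbig G c hfst hG (by omega) he
    omega
  have h3 := lt_of_le_of_ne h1 h2
  rw [hd, hr, add_mul] at h3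
  push_cast at h3
  rw [mul_add] at h3
  linarith

/-- Two destabilising saturated subbundles: the first lies in the second. -/
theorem exists_lift_of_max (hc : IsVBCurve k X) {E E₁ E₂ : X.Modules} (hE : FlatMod.IsFinLocFree E)
    (hE₁ : FlatMod.IsFinLocFree E₁) (hE₂ : FlatMod.IsFinLocFree E₂)
    (i₁ : E₁ ⟶ E) (i₂ : E₂ ⟶ E) [Mono i₁] [Mono i₂]
    (h₁p : 0 < rk E₁) (h₂p : 0 < rk E₂)
    (h₁ : Bnd k E (dg k E₁) (rk E₁)) (h₂ : Bnd k E (dg k E₂) (rk E₂))
    (hQ : ∀ (Q : X.Modules) (j : Q ⟶ cokernel i₂), Mono j → FlatMod.IsFinLocFree Q → 0 < rk Q →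
      dg k Q * (rk E₂ : ℤ) < dg k E₂ * (rk Q : ℤ)) :
    ∃ a : E₁ ⟶ E₂, a ≫ i₂ = i₁ := by
  have hC := isFinLocFree_cokernel_of_max hc hE hE₂ i₂ h₂p h₂
  have e1 := h₂ E₁ i₁ inferInstance hE₁ h₁p
  have e2 := h₁ E₂ i₂ inferInstance hE₂ h₂p
  have hz : i₁ ≫ cokernel.π i₂ = 0 := by
    refine hom_eq_zero hc hE₁ hC (ss_of_max i₁ h₁) (fun Q j hj hQf hQp => ?_) _
    have h3 := hQ Q j hj hQf hQp
    have hp : (0 : ℤ) < rk E₂ := by exact_mod_cast h₂p
    refine lt_of_mul_lt_mul_left (a := (rk E₂ : ℤ)) ?_ hp.le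
    nlinarith [mul_lt_mul_of_pos_left h3 (show (0 : ℤ) < rk E₁ by exact_mod_cast h₁p),
      mul_le_mul_of_nonneg_left e2 (Int.natCast_nonneg (rk Q))]
  have hex : (ShortComplex.mk i₂ (cokernel.π i₂) (cokernel.condition i₂)).Exact :=
    ShortComplex.exact_cokernel i₂
  exact ⟨hex.lift i₁ hz, hex.lift_f i₁ hz⟩

end Groth.VBCurves
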