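import Groth.Agent.VBCurves.Sat
import Groth.Prelude.Def_ModFun2

/-!
# Slope (semi)stability on curves
-/

set_option autoImplicit false

universe u

open CategoryTheory CategoryTheory.Limits AlgebraicGeometry

namespace Groth.VBCurves

variable {k : Type u} [Field k] {X : Scheme.{u}} [X.Over (Spec (CommRingCat.of k))] [IsIntegral X]

variable (k) in
/-- All nonzero subbundles have slope at most `d / r`. -/
def Bnd (E : X.Modules) (d : ℤ) (r : ℕ) : Prop :=
  ∀ (G : X.Modules) (i : G ⟶ E), Mono i → FlatMod.IsFinLocFree G → 0 < rk G →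
    dg k G * (r : ℤ) ≤ d * (rk G : ℤ)

variable (k) in
/-- Semistability. -/
def SS (E : X.Modules) : Prop := Bnd k E (dg k E) (rk E)

variable (k) in
/-- Stability. -/
def St (E : X.Modules) : Prop :=
  ∀ (G : X.Modules) (i : G ⟶ E), Mono i → FlatMod.IsFinLocFree G → 0 < rk G → rk G < rk E →
    dg k G * (rk E : ℤ) < dg k E * (rk G : ℤ)

theorem ss_of {E : X.Modules} {r : ℕ} (hE : FlatMod.IsFinLocFreeOfRank r E)
    (h : ∀ (G : X.Modules) (r' : ℕ) (i : G ⟶ E), Mono i → 0 < r' →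
      FlatMod.IsFinLocFreeOfRank r' G → Curv2.deg k X G r' * (r : ℤ) ≤ Curv2.deg k X E r * (r' : ℤ)) :
    SS k E := by
  intro G i hi hG hpos
  rw [rk_eq hE, ← dg_eq k hE]
  exact h G (rk G) i hi hpos (isFinLocFreeOfRank_rk hG)

theorem st_of {E : X.Modules} {r : ℕ} (hE : FlatMod.IsFinLocFreeOfRank r E)
    (h : ∀ (G : X.Modules) (r' : ℕ) (i : G ⟶ E), Mono i → 0 < r' → r' < r →
      FlatMod.IsFinLocFreeOfRank r' G → Curv2.deg k X G r' * (r : ℤ) < Curv2.deg k X E r * (r' : ℤ)) :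
    St k E := by
  intro G i hi hG hpos hlt
  rw [rk_eq hE] at hlt
  rw [rk_eq hE, ← dg_eq k hE]
  exact h G (rk G) i hi hpos hlt (isFinLocFreeOfRank_rk hG)

theorem SS.apply {E : X.Modules} {r : ℕ} (hE : FlatMod.IsFinLocFreeOfRank r E) (h : SS k E)
    (G : X.Modules) (r' : ℕ) (i : G ⟶ E) (hi : Mono i) (hr' : 0 < r')
    (hG : FlatMod.IsFinLocFreeOfRank r' G) :
    Curv2.deg k X G r' * (r : ℤ) ≤ Curv2.deg k X E r * (r' : ℤ) := by
  have := h G i hi (Groth.LocFree.isFinLocFree_of_rank hG) (by rwa [rk_eq hG])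
  rwa [rk_eq hG, rk_eq hE, ← dg_eq k hG, ← dg_eq k hE] at this

variable [IsProper (X ↘ Spec (CommRingCat.of k))] (hc : IsVBCurve k X)
include hc

/-- A stable bundle is semistable. -/
theorem St.ss {E : X.Modules} (hE : FlatMod.IsFinLocFree E) (h : St k E) : SS k E := by
  intro G i hi hG hpos
  rcases (rk_le_of_mono i hE).lt_or_eq with hlt | heq
  · exact (h G i hi hG hpos hlt).le
  · have := (dg_le_of_mono k hc.dim.le hG hE i heq).1
    rw [heq]
    exact mul_le_mul_of_nonneg_right this (Int.natCast_nonneg _)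

omit hc [IsProper (X ↘ Spec (CommRingCat.of k))] in
/-- Stability stated with proper submodules. -/
theorem st_of_not_isIso {E : X.Modules} {r : ℕ} (hE : FlatMod.IsFinLocFreeOfRank r E)
    (h : ∀ (G : X.Modules) (r' : ℕ) (i : G ⟶ E), Mono i → 0 < r' →
      FlatMod.IsFinLocFreeOfRank r' G → ¬ IsIso i →
      Curv2.deg k X G r' * (r : ℤ) < Curv2.deg k X E r * (r' : ℤ)) :
    St k E := by
  refine st_of hE fun G r' i hi hr' hlt hG => h G r' i hi hr' hG fun hiso => ?_
  have := rk_eq_of_iso (Groth.LocFree.isFinLocFree_of_rank hG) (asIso i)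
  rw [rk_eq hG, rk_eq hE] at this
  omega

/-- `μ(E) > ` all slopes of subsheaves of `F` and `E` semistable: no nonzero maps. -/
theorem hom_eq_zero {E F : X.Modules} (hE : FlatMod.IsFinLocFree E) (hF : FlatMod.IsFinLocFree F)
    (hss : SS k E)
    (hmax : ∀ (G : X.Modules) (i : G ⟶ F), Mono i → FlatMod.IsFinLocFree G → 0 < rk G →
      dg k G * (rk E : ℤ) < dg k E * (rk G : ℤ))
    (f : E ⟶ F) : f = 0 := by
  by_contra hf
  obtain ⟨K, I, i, p, j, w, -, hi, -, hj, -, -, hK, hI, hr, hd, hpos⟩ := exists_image hc hE hF f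
  have h1 := hmax I j hj hI (hpos hf)
  have h2 : dg k K * (rk E : ℤ) ≤ dg k E * (rk K : ℤ) := by
    rcases Nat.eq_zero_or_pos (rk K) with h0 | h0
    · simp [dg_of_rk_zero k hK h0, h0]
    · exact hss K i hi hK h0
  have hr' : (rk E : ℤ) = rk K + rk I := by exact_mod_cast hr
  have h3 : (dg k K + dg k I) * (rk E : ℤ) < dg k E * ((rk K : ℤ) + rk I) := by
    rw [add_mul, mul_add]
    linarith
  rw [← hd, ← hr'] at h3
  exact lt_irrefl _ h3

/-- A nonzero map between semistable bundles of equal slope: kernel and image have that slope. -/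
theorem slope_image {E F : X.Modules} (hE : FlatMod.IsFinLocFree E) (hF : FlatMod.IsFinLocFree F)
    (hEss : SS k E) (hFss : SS k F) (hμ : dg k E * (rk F : ℤ) = dg k F * (rk E : ℤ))
    (hrF : 0 < rk F) (f : E ⟶ F) :
    ∃ (K I : X.Modules) (i : K ⟶ E) (p : E ⟶ I) (j : I ⟶ F) (w : i ≫ p = 0),
      (ShortComplex.mk i p w).ShortExact ∧ Mono i ∧ Epi p ∧ Mono j ∧ p ≫ j = f ∧
      (rk K = 0 → Mono p) ∧
      FlatMod.IsFinLocFree K ∧ FlatMod.IsFinLocFree I ∧
      rk E = rk K + rk I ∧ (f ≠ 0 → 0 < rk I) ∧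
      dg k K * (rk E : ℤ) = dg k E * (rk K : ℤ) ∧ dg k I * (rk F : ℤ) = dg k F * (rk I : ℤ) := by
  obtain ⟨K, I, i, p, j, w, hS, hi, hp, hj, hf, hm, hK, hI, hr, hd, hpos⟩ := exists_image hc hE hF f
  have hr' : (rk E : ℤ) = rk K + rk I := by exact_mod_cast hr
  have h2 : dg k K * (rk E : ℤ) ≤ dg k E * (rk K : ℤ) := by
    rcases Nat.eq_zero_or_pos (rk K) with h0 | h0
    · simp [dg_of_rk_zero k hK h0, h0]
    · exact hEss K i hi hK h0
  have h1 : dg k I * (rk F : ℤ) ≤ dg k F * (rk I : ℤ) := by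
    rcases Nat.eq_zero_or_pos (rk I) with h0 | h0
    · simp [dg_of_rk_zero k hI h0, h0]
    · exact hFss I j hj hI h0
  have key : (rk F : ℤ) * (dg k K * (rk E : ℤ) - dg k E * (rk K : ℤ)) +
      (rk E : ℤ) * (dg k I * (rk F : ℤ) - dg k F * (rk I : ℤ)) = 0 := by
    linear_combination (-((rk F : ℤ) * rk E)) * hd + (dg k E * (rk F : ℤ)) * hr' + (rk I : ℤ) * hμ
  have h3 : (rk F : ℤ) * (dg k K * (rk E : ℤ) - dg k E * (rk K : ℤ)) ≤ 0 :=
    mul_nonpos_of_nonneg_of_nonpos (Int.natCast_nonneg _) (by linarith)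
  have h4 : (rk E : ℤ) * (dg k I * (rk F : ℤ) - dg k F * (rk I : ℤ)) ≤ 0 :=
    mul_nonpos_of_nonneg_of_nonpos (Int.natCast_nonneg _) (by linarith)
  refine ⟨K, I, i, p, j, w, hS, hi, hp, hj, hf, hm, hK, hI, hr, hpos, ?_, ?_⟩
  · rcases mul_eq_zero.1 (show (rk F : ℤ) * (dg k K * (rk E : ℤ) - dg k E * (rk K : ℤ)) = 0 by linarith) with h | h
    · exact absurd (Int.natCast_eq_zero.1 h) hrF.ne'
    · linarith
  · rcases mul_eq_zero.1 (show (rk E : ℤ) * (dg k I * (rk F : ℤ) - dg k F * (rk I : ℤ)) = 0 by linarith) with h | h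
    · have h0 : rk E = 0 := Int.natCast_eq_zero.1 h
      have hI0 : rk I = 0 := by omega
      simp [dg_of_rk_zero k hI hI0, hI0]
    · linarith

/-- A nonzero map out of a stable bundle into a semistable one of the same slope is mono. -/
theorem mono_of_stable {E F : X.Modules} (hE : FlatMod.IsFinLocFree E) (hF : FlatMod.IsFinLocFree F)
    (hEst : St k E) (hFss : SS k F) (hμ : dg k E * (rk F : ℤ) = dg k F * (rk E : ℤ))
    (hrF : 0 < rk F) (f : E ⟶ F) (hf : f ≠ 0) : Mono f := by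
  obtain ⟨K, I, i, p, j, w, -, hi, -, hj, hfac, hm, hK, -, hr, hpos, hKd, -⟩ :=
    slope_image hc hE hF (hEst.ss hc hE) hFss hμ hrF f
  have hK0 : rk K = 0 := by
    by_contra h
    have := hpos hf
    exact absurd (hEst K i hi hK (Nat.pos_of_ne_zero h) (by omega)) (by omega)
  have := hm hK0
  rw [← hfac]
  infer_instance

/-- A nonzero map into a stable bundle from a semistable one of the same slope is epi. -/
theorem epi_of_stable {E F : X.Modules} (hE : FlatMod.IsFinLocFree E) (hF : FlatMod.IsFinLocFree F)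
    (hEss : SS k E) (hFst : St k F) (hμ : dg k E * (rk F : ℤ) = dg k F * (rk E : ℤ))
    (hrF : 0 < rk F) (f : E ⟶ F) (hf : f ≠ 0) : Epi f := by
  obtain ⟨K, I, i, p, j, w, -, -, hp, hj, hfac, -, -, hI, -, hpos, -, hId⟩ :=
    slope_image hc hE hF hEss (hFst.ss hc hF) hμ hrF f
  have hIr : rk I = rk F := by
    by_contra h
    have hle := rk_le_of_mono j hF
    exact absurd (hFst I j hj hI (hpos hf) (by omega)) (by omega)
  have hiso : IsIso j := by
    refine (dg_le_of_mono k hc.dim.le hI hF j hIr).2.1 ?_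
    rw [hIr] at hId
    exact mul_right_cancel₀ (by exact_mod_cast hrF.ne' : (rk F : ℤ) ≠ 0) hId
  rw [← hfac]
  infer_instance

/-- A monomorphism between semistable bundles of the same rank and degree is an isomorphism. -/
theorem isIso_of_mono {E F : X.Modules} (hE : FlatMod.IsFinLocFree E) (hF : FlatMod.IsFinLocFree F)
    (f : E ⟶ F) [Mono f] (hr : rk E = rk F) (hd : dg k E = dg k F) : IsIso f :=
  (dg_le_of_mono k hc.dim.le hE hF f hr).2.1 hd

/-- An epimorphism between bundles of the same rank is an isomorphism. -/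
theorem isIso_of_epi {E F : X.Modules} (hE : FlatMod.IsFinLocFree E) (hF : FlatMod.IsFinLocFree F)
    (f : E ⟶ F) [Epi f] (hr : rk E = rk F) : IsIso f := by
  obtain ⟨K, I, i, p, j, w, -, -, -, hj, hfac, hm, hK, hI, hrk, -, -⟩ := exists_image hc hE hF f
  have hje : Epi j := by
    have : Epi (p ≫ j) := by rw [hfac]; infer_instance
    exact epi_of_epi p j
  have hiso : IsIso j := isIso_of_mono_of_epi j
  have := rk_eq_of_iso hI (asIso j)
  have := hm (by omega)
  have : Mono f := by rw [← hfac]; infer_instance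
  exact isIso_of_mono_of_epi f

/-- Nonzero endomorphisms of a stable bundle are isomorphisms. -/
theorem isIso_of_stable {E : X.Modules} (hE : FlatMod.IsFinLocFree E) (hst : St k E)
    (f : E ⟶ E) (hf : f ≠ 0) : IsIso f := by
  rcases Nat.eq_zero_or_pos (rk E) with h0 | h0
  · exact absurd ((isZero_of_rk_eq_zero hE h0).eq_of_src f 0) hf
  have := mono_of_stable hc hE hE hst (hst.ss hc hE) rfl h0 f hf
  exact isIso_of_mono hc hE hE f rfl rfl

/-- The slopes of the subbundles of an extension. -/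
theorem exists_split {A B C : X.Modules} (f : A ⟶ B) (g : B ⟶ C) (w : f ≫ g = 0)
    (hS : (ShortComplex.mk f g w).ShortExact) (hA : FlatMod.IsFinLocFree A)
    (hC : FlatMod.IsFinLocFree C) {G : X.Modules} (hG : FlatMod.IsFinLocFree G) (j : G ⟶ B)
    [Mono j] :
    ∃ (K I : X.Modules) (a : K ⟶ A) (c : I ⟶ C), Mono a ∧ Mono c ∧ FlatMod.IsFinLocFree K ∧
      FlatMod.IsFinLocFree I ∧ rk G = rk K + rk I ∧ dg k G = dg k K + dg k I := by
  obtain ⟨K, I, i, p, c, w', -, hi, -, hc', hfac, -, hK, hI, hr, hd, -⟩ :=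
    exists_image hc hG hC (j ≫ g)
  have hz : (i ≫ j) ≫ g = 0 := by rw [Category.assoc, ← hfac, reassoc_of% w', zero_comp]
  have := hS.mono_f
  let a : K ⟶ A := hS.exact.lift (i ≫ j) hz
  have ha : a ≫ f = i ≫ j := hS.exact.lift_f (i ≫ j) hz
  have : Mono (a ≫ f) := by rw [ha]; infer_instance
  exact ⟨K, I, a, c, mono_of_mono a f, hc', hK, hI, hr, hd⟩

/-- A slope bound on both ends of an extension bounds the middle. -/
theorem Bnd.ext {A B C : X.Modules} (f : A ⟶ B) (g : B ⟶ C) (w : f ≫ g = 0)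
    (hS : (ShortComplex.mk f g w).ShortExact) (hA : FlatMod.IsFinLocFree A)
    (hC : FlatMod.IsFinLocFree C) {d : ℤ} {r : ℕ} (h₁ : Bnd k A d r) (h₃ : Bnd k C d r) :
    Bnd k B d r := by
  intro G j hj hG _
  obtain ⟨K, I, a, c, ha, hc', hK, hI, hr, hd⟩ := exists_split hc f g w hS hA hC hG j
  have h1 : dg k K * (r : ℤ) ≤ d * (rk K : ℤ) := by
    rcases Nat.eq_zero_or_pos (rk K) with h0 | h0
    · simp [dg_of_rk_zero k hK h0, h0]
    · exact h₁ K a ha hK h0
  have h2 : dg k I * (r : ℤ) ≤ d * (rk I : ℤ) := by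
    rcases Nat.eq_zero_or_pos (rk I) with h0 | h0
    · simp [dg_of_rk_zero k hI h0, h0]
    · exact h₃ I c hc' hI h0
  rw [hd, hr, add_mul]
  push_cast
  rw [mul_add]
  exact add_le_add h1 h2

omit hc [IsProper (X ↘ Spec (CommRingCat.of k))] in
/-- A slope bound passes to submodules. -/
theorem Bnd.sub {A B : X.Modules} {d : ℤ} {r : ℕ} (h : Bnd k B d r) (f : A ⟶ B) [Mono f] :
    Bnd k A d r :=
  fun G i _ hG hpos => h G (i ≫ f) inferInstance hG hpos

end Groth.VBCurves
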