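import Groth.Agent.CohTwo.LocFreeDual
import Groth.Agent.Duality.SheafHomTwist
import Groth.Agent.LocFree.Tensor
import Groth.Agent.LocFree.Hom

/-!
# The dual as an additive contravariant operation
-/

set_option autoImplicit false
set_option linter.style.haveILetI false

universe u

open CategoryTheory CategoryTheory.Limits AlgebraicGeometry
open Groth.CohTwo.SheafHomIso (tF)

noncomputable section

namespace Groth.VBCurves.TensorDual

variable {X : Scheme.{u}}

attribute [local instance] Groth.Duality.SheafHom.hasSheafHom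

instance additive_tF (E : X.Modules) : (tF E).Additive := by
  have : PreservesColimitsOfSize.{0, 0} (tF E) :=
    (DCoh.sheafHomAdj E).leftAdjoint_preservesColimits
  have : PreservesBinaryBiproducts (tF E) :=
    preservesBinaryBiproducts_of_preservesBinaryCoproducts (tF E)
  exact Functor.additive_of_preservesBinaryBiproducts (tF E)

theorem additive_tensorRightMod (E : X.Modules) : (DCoh.tensorRightMod E).Additive :=
  Functor.additive_of_iso (Groth.Duality.SheafHom.rightIsoLeft E).symm

instance additive_sheafHom (E : X.Modules) : (DCoh.sheafHom E).Additive :=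
  (DCoh.sheafHomAdj E).right_adjoint_additive

/-- The dual. -/
abbrev D (A : X.Modules) : X.Modules := (DCoh.sheafHom A).obj (Coh.structureModule X)

/-- The transpose of a morphism. -/
def dmap {A B : X.Modules} (f : A ⟶ B) : D B ⟶ D A :=
  (DCoh.sheafHomAdj A).homEquiv _ _
    ((DCoh.tensorBi.map f).app (D B) ≫ (DCoh.sheafHomAdj B).counit.app (Coh.structureModule X))

theorem dmap_id (A : X.Modules) : dmap (𝟙 A) = 𝟙 (D A) := by
  rw [dmap, CategoryTheory.Functor.map_id, NatTrans.id_app, Category.id_comp,
    Adjunction.homEquiv_unit]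
  exact (DCoh.sheafHomAdj A).right_triangle_components _

theorem dmap_comp {A B C : X.Modules} (f : A ⟶ B) (g : B ⟶ C) :
    dmap (f ≫ g) = dmap g ≫ dmap f := by
  refine Eq.trans ?_ ((DCoh.sheafHomAdj A).homEquiv_naturality_left _ _)
  have h1 : (DCoh.tensorBi.obj B).map (dmap g) ≫
      (DCoh.sheafHomAdj B).counit.app (Coh.structureModule X) =
      (DCoh.tensorBi.map g).app (D C) ≫ (DCoh.sheafHomAdj C).counit.app (Coh.structureModule X) :=
    ((DCoh.sheafHomAdj B).homEquiv_counit (D C) (Coh.structureModule X) (dmap g)).symm.trans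
      (((DCoh.sheafHomAdj B).homEquiv _ _).symm_apply_apply _)
  rw [dmap, Functor.map_comp, NatTrans.comp_app, Category.assoc, ← h1]
  exact congrArg ((DCoh.sheafHomAdj A).homEquiv _ _)
    (((DCoh.tensorBi.map f).naturality_assoc (dmap g) _).symm)

theorem dmap_add {A B : X.Modules} (f g : A ⟶ B) : dmap (f + g) = dmap f + dmap g := by
  simp only [dmap, Functor.map_add, NatTrans.app_add, Preadditive.add_comp,
    Adjunction.homEquiv_unit, Functor.map_add, Preadditive.comp_add]

theorem dmap_zero (A B : X.Modules) : dmap (0 : A ⟶ B) = 0 := by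
  have := dmap_add (0 : A ⟶ B) 0
  rwa [add_zero, left_eq_add] at this

theorem isZero_D {A : X.Modules} (h : IsZero A) : IsZero (D A) := by
  rw [IsZero.iff_id_eq_zero, ← dmap_id, (IsZero.iff_id_eq_zero A).1 h, dmap_zero]

/-- The dual of an isomorphism. -/
def dIso {A B : X.Modules} (e : A ≅ B) : D B ≅ D A where
  hom := dmap e.hom
  inv := dmap e.inv
  hom_inv_id := by rw [← dmap_comp, e.inv_hom_id, dmap_id]
  inv_hom_id := by rw [← dmap_comp, e.hom_inv_id, dmap_id]

/-- The dual of a direct sum. -/
def dBiprod (A B : X.Modules) : D (A ⊞ B) ≅ D A ⊞ D B where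
  hom := biprod.lift (dmap biprod.inl) (dmap biprod.inr)
  inv := biprod.desc (dmap biprod.fst) (dmap biprod.snd)
  hom_inv_id := by
    rw [biprod.lift_desc, ← dmap_comp, ← dmap_comp, ← dmap_add, biprod.total, dmap_id]
  inv_hom_id := by
    refine biprod.hom_ext' _ _ ?_ ?_ <;> refine biprod.hom_ext _ _ ?_ ?_ <;>
      simp [← dmap_comp, dmap_id, dmap_zero]

/-- The dual of the structure module. -/
theorem nonempty_D_structure : Nonempty (D (Coh.structureModule X) ≅ Coh.structureModule X) :=
  ⟨(Groth.Duality.SheafHom.sheafHomIsoTensor (L := Coh.structureModule X)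
      (M := Coh.structureModule X) ⟨SecTwist.unitorR _⟩).app _ ≪≫ SecTwist.unitorR _⟩

/-- The dual agrees with the sheaf dual. -/
def dualIso (A : X.Modules) : D A ≅ RefHull.dual A :=
  Groth.CohTwo.SheafHomIso.iso A (Coh.structureModule X)

theorem isFinLocFree_D {A : X.Modules} (hA : FlatMod.IsFinLocFree A) :
    FlatMod.IsFinLocFree (D A) :=
  Groth.KTheory.LocFree.isFinLocFree_of_iso (dualIso A).symm
    (Groth.LocFree.isFinLocFree_homSh hA (Groth.LocFree.isFinLocFree_unit X))

/-- The dual of a tensor product. -/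
theorem nonempty_D_tensor (A : X.Modules) {B : X.Modules} (hB : FlatMod.IsFinLocFree B) :
    Nonempty (D (CohB1.tensorMod A B) ≅ CohB1.tensorMod (D B) (D A)) := by
  let e : tF B ⋙ tF A ≅ tF (CohB1.tensorMod A B) :=
    (((Groth.DerivedCoh.KFlat.assocIso X).app A).app B).symm
  let adj : tF B ⋙ tF A ⊣ DCoh.sheafHom A ⋙ DCoh.sheafHom B :=
    (DCoh.sheafHomAdj B).comp (DCoh.sheafHomAdj A)
  let r := ((DCoh.sheafHomAdj (CohB1.tensorMod A B)).rightAdjointUniq (adj.ofNatIsoLeft e))
  exact ⟨r.app (Coh.structureModule X) ≪≫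
    (Groth.CohTwo.LocFreeDual.dualTensorIso hB).symm.app (D A) ≪≫
    PicGrp.tensorModIso (dualIso B).symm (Iso.refl (D A))⟩

/-- Tensoring by a finite locally free module preserves monomorphisms. -/
theorem mono_tF [IsLocallyNoetherian X] {A : X.Modules} (hA : FlatMod.IsFinLocFree A)
    {M N : X.Modules} (f : M ⟶ N) [Mono f] : Mono ((tF A).map f) := by
  have hD : FlatMod.IsFinLocFree (RefHull.dual A) :=
    Groth.LocFree.isFinLocFree_homSh hA (Groth.LocFree.isFinLocFree_unit X)
  have hb : IsIso (RefHull.bidualMap A) :=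
    (Groth.RefRank.isIso_iff_bijective_stalk _).2 fun x => by
      refine (Groth.RefRank.bijective_bidual_iff (Groth.KTheory.LocFree.isCoh hA) x).2 ?_
      have := Groth.KTheory.LocFree.free_stalk hA x
      have := Groth.LocFree.finite_stalk hA x
      exact (inferInstance : Module.IsReflexive (X.presheaf.stalk x) (A.presheaf.stalk x))
  let i : tF (Groth.CohTwo.LocFreeDual.dual (RefHull.dual A)) ≅ tF A :=
    (DCoh.tensorBi.mapIso (@asIso _ _ _ _ (RefHull.bidualMap A) hb)).symm
  have := Functor.preservesMonomorphisms_of_adjunction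
    (Groth.CohTwo.LocFreeDual.dualAdj hD)
  have := Functor.PreservesMonomorphisms.of_iso i
  infer_instance

end Groth.VBCurves.TensorDual
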