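import Groth.Agent.VBCurves.WeilCounts
import Groth.Agent.VBCurves.TensorDual
import Groth.Agent.VBCurves.Slope
import Groth.Agent.VBCurves.MaxSlope
import Groth.Agent.LocFree.SES
import Groth.Agent.EulerDeg.Tensor
import Groth.Agent.PicAux.Powers

/-!
# Bundles with finitely many indecomposable summands in their tensor powers
-/

set_option autoImplicit false
set_option linter.unusedSectionVars false
set_option linter.style.haveILetI false

universe u

open CategoryTheory CategoryTheory.Limits AlgebraicGeometry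
open Groth.CohTwo.SheafHomIso (tF)

namespace Groth.VBCurves.Weil

variable {X : Scheme.{u}}

/-- The value of a polynomial at a module. -/
noncomputable def polyObj (E : X.Modules) (P : Polynomial ℕ) : X.Modules :=
  ∐ fun i : Fin (P.natDegree + 1) => ∐ fun _ : Fin (P.coeff ↑i) => CohB1.tensorPow E ↑i

/-- Finite in the sense of Weil. -/
def IsWeil (E : X.Modules) : Prop :=
  ∃ P Q : Polynomial ℕ, P ≠ Q ∧ Nonempty (polyObj E P ≅ polyObj E Q)

/-- Isomorphic to a member of the family. -/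
def Mem {m : ℕ} (S : Fin m → X.Modules) (N : X.Modules) : Prop := ∃ j, Nonempty (N ≅ S j)

theorem Mem.iso {m : ℕ} {S : Fin m → X.Modules} {M N : X.Modules} (e : M ≅ N) (h : Mem S M) :
    Mem S N := by
  obtain ⟨j, ⟨φ⟩⟩ := h
  exact ⟨j, ⟨e.symm ≪≫ φ⟩⟩

/-- Finitely many indecomposables suffice for all tensor powers. -/
def FinType (E : X.Modules) : Prop :=
  ∃ (m : ℕ) (S : Fin m → X.Modules), (∀ j, KS.Ind (S j) ∧ FlatMod.IsFinLocFree (S j)) ∧
    ∀ n, Sums (Mem S) (CohB1.tensorPow E n)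

theorem isFinLocFree_tensorPow {E : X.Modules} (hE : FlatMod.IsFinLocFree E) :
    ∀ n, FlatMod.IsFinLocFree (CohB1.tensorPow E n)
  | 0 => Groth.LocFree.isFinLocFree_unit X
  | n + 1 => Groth.LocFree.isFinLocFree_tensorMod (isFinLocFree_tensorPow hE n) hE

theorem isFinLocFree_coprod : ∀ {n : ℕ} (F : Fin n → X.Modules),
    (∀ i, FlatMod.IsFinLocFree (F i)) → FlatMod.IsFinLocFree (∐ F)
  | 0, F, _ => Groth.KTheory.LocFree.isFinLocFree_of_iso
      (((IsZero.iff_id_eq_zero (FlatMod.freeMod X 0)).2 (Sigma.hom_ext _ _ fun i => i.elim0)).iso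
        (KS.isZero_coprod_zero F)) (Groth.LocFree.isFinLocFree_freeMod X 0)
  | _ + 1, F, h => Groth.KTheory.LocFree.isFinLocFree_of_iso (KS.splitAt 0 F)
      (Groth.KTheory.LocFree.isFinLocFree_of_shortExact
        (ShortComplex.Splitting.ofHasBinaryBiproduct _ _).shortExact (h 0)
        (isFinLocFree_coprod _ fun _ => h _))

/-- Tensoring a sum on the right. -/
theorem Sums.tensor_right {P Q : X.Modules → Prop} {M : X.Modules} (E : X.Modules) (h : Sums P M)
    (hPQ : ∀ N, P N → Sums Q (CohB1.tensorMod N E)) : Sums Q (CohB1.tensorMod M E) := by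
  have := TensorDual.additive_tensorRightMod E
  have := preservesBinaryBiproducts_of_preservesBiproducts (DCoh.tensorRightMod E)
  induction h with
  | zero h => exact .zero ((DCoh.tensorRightMod E).map_isZero h)
  | of h => exact hPQ _ h
  | biprod e _ _ ihA ihB =>
    exact .biprod ((DCoh.tensorRightMod E).mapIso e ≪≫ (DCoh.tensorRightMod E).mapBiprod _ _) ihA ihB

theorem Sums.dual {P Q : X.Modules → Prop} {M : X.Modules} (h : Sums P M)
    (hPQ : ∀ N, P N → Sums Q (TensorDual.D N)) : Sums Q (TensorDual.D M) := by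
  induction h with
  | zero h => exact .zero (TensorDual.isZero_D h)
  | of h => exact hPQ _ h
  | biprod e _ _ ihA ihB =>
    exact .biprod ((TensorDual.dIso e).symm ≪≫ TensorDual.dBiprod _ _) ihA ihB

theorem isFinLocFree_of_sums {m : ℕ} {S : Fin m → X.Modules}
    (hS : ∀ j, FlatMod.IsFinLocFree (S j)) {M : X.Modules} (h : Sums (Mem S) M) :
    FlatMod.IsFinLocFree M := by
  induction h with
  | zero h =>
    exact Groth.KTheory.LocFree.isFinLocFree_of_iso
      (((IsZero.iff_id_eq_zero (FlatMod.freeMod X 0)).2 (Sigma.hom_ext _ _ fun i => i.elim0)).iso h)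
      (Groth.LocFree.isFinLocFree_freeMod X 0)
  | of h =>
    obtain ⟨j, ⟨e⟩⟩ := h
    exact Groth.KTheory.LocFree.isFinLocFree_of_iso e.symm (hS j)
  | biprod e _ _ ihA ihB =>
    exact Groth.KTheory.LocFree.isFinLocFree_of_iso e.symm
      (Groth.KTheory.LocFree.isFinLocFree_of_shortExact
        (ShortComplex.Splitting.ofHasBinaryBiproduct _ _).shortExact ihA ihB)

variable {k : Type u} [Field k] [X.Over (Spec (CommRingCat.of k))]
  [IsIntegral X] [IsProper (X ↘ Spec (CommRingCat.of k))]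

theorem isFinLocFree_summand (hc : IsVBCurve k X) {M A B : X.Modules} (e : M ≅ A ⊞ B)
    (hM : FlatMod.IsFinLocFree M) : FlatMod.IsFinLocFree A := by
  have : IsLocallyNoetherian X :=
    LocallyOfFiniteType.isLocallyNoetherian (X ↘ Spec (CommRingCat.of k))
  have hMc := Groth.KTheory.LocFree.isCoh hM
  have := hMc.1
  let φ : M ⟶ M := e.hom ≫ biprod.snd ≫ biprod.inr ≫ e.inv
  let i : A ≅ kernel φ :=
    { hom := kernel.lift φ (biprod.inl ≫ e.inv) (by simp [φ])
      inv := kernel.ι φ ≫ e.hom ≫ biprod.fst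
      hom_inv_id := by simp
      inv_hom_id := by
        rw [← cancel_mono (kernel.ι φ), Category.assoc, kernel.lift_ι, Category.id_comp]
        have h3 : φ ≫ e.hom ≫ biprod.snd = e.hom ≫ biprod.snd := by simp [φ]
        have h1 : kernel.ι φ ≫ e.hom ≫ biprod.snd = 0 := by
          rw [← h3, kernel.condition_assoc, zero_comp]
        rw [← cancel_mono e.hom]
        refine biprod.hom_ext _ _ ?_ ?_ <;> simp [h1] }
  exact Groth.KTheory.LocFree.isFinLocFree_of_iso i.symm
    (isFinLocFree_of_mono hc.pid (kernel.ι φ) (Groth.QCohMod.isCoh_kernel φ hMc) hM)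

theorem hasCount_coprod : ∀ {n : ℕ} (F : Fin n → X.Modules)
    (c : Fin n → Quotient (isIsomorphicSetoid X.Modules) → ℕ), (∀ i, HasCount (F i) (c i)) →
    HasCount (∐ F) (∑ i, c i)
  | 0, F, c, _ => by
    rw [Finset.univ_eq_empty, Finset.sum_empty]
    exact hasCount_zero (KS.isZero_coprod_zero F)
  | n + 1, F, c, h => by
    rw [Fin.sum_univ_succ]
    have := (h 0).add (hasCount_coprod _ (fun i => c ((0 : Fin (n + 1)).succAbove i)) fun i => h _)
      (KS.splitAt 0 F).symm
    simpa [Fin.succAbove_zero] using this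

/-- The classes in a sum come from the family. -/
theorem count_support {m : ℕ} {S : Fin m → X.Modules} (hS : ∀ j, KS.Ind (S j)) {M : X.Modules}
    (h : Sums (Mem S) M) : ∃ c, HasCount M c ∧ ∀ U, c U ≠ 0 → ∃ j, U = key (S j) := by
  induction h with
  | zero h => exact ⟨0, hasCount_zero h, fun U hU => absurd rfl hU⟩
  | of h =>
    obtain ⟨j, ⟨e⟩⟩ := h
    obtain ⟨c, hc', -, hU⟩ := hasCount_ind (hS j)
    exact ⟨c, hc'.iso e.symm, fun U h0 => ⟨j, hU U h0⟩⟩
  | biprod e _ _ ihA ihB =>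
    obtain ⟨a, ha, ha'⟩ := ihA
    obtain ⟨b, hb, hb'⟩ := ihB
    refine ⟨a + b, ha.add hb e, fun U hU => ?_⟩
    by_cases h0 : a U = 0
    · exact hb' U fun h1 => hU (by simp [h0, h1])
    · exact ha' U h0

theorem sums_of_count {m : ℕ} {S : Fin m → X.Modules} {M : X.Modules} {c}
    (h : HasCount M c) (hsupp : ∀ U, c U ≠ 0 → ∃ j, U = key (S j)) : Sums (Mem S) M := by
  obtain ⟨n, F, -, ⟨φ⟩, hc'⟩ := h
  refine Sums.iso (fun e hN => hN.iso e) φ.symm (Sums.coprod F fun i => .of ?_)
  have hpos : 0 < mult F (key (F i)) := Nat.card_pos_iff.2 ⟨⟨⟨i, rfl⟩⟩, inferInstance⟩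
  obtain ⟨j, hj⟩ := hsupp (key (F i)) (by rw [← hc']; omega)
  exact ⟨j, key_eq_iff.1 hj⟩

include k in
/-- A summand of a sum is a sum. -/
theorem Sums.summand {m : ℕ} {S : Fin m → X.Modules} (hS : ∀ j, KS.Ind (S j)) {M A B : X.Modules}
    (hM : Coh.IsCoh M) (hA : Coh.IsCoh A) (hB : Coh.IsCoh B) (e : M ≅ A ⊞ B)
    (h : Sums (Mem S) M) : Sums (Mem S) A := by
  obtain ⟨a, ha⟩ := exists_hasCount k hA
  obtain ⟨b, hb⟩ := exists_hasCount k hB
  obtain ⟨c, hc', hsupp⟩ := count_support hS h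
  obtain rfl := HasCount.unique k hM hc' (ha.add hb e)
  exact sums_of_count ha fun U hU => hsupp U (by simp [hU])

/-- A family of bundles can be refined to indecomposable ones. -/
theorem exists_refine (hc : IsVBCurve k X) : ∀ {q : ℕ} (T : Fin q → X.Modules),
    (∀ i, FlatMod.IsFinLocFree (T i)) →
    ∃ (m : ℕ) (S : Fin m → X.Modules), (∀ j, KS.Ind (S j) ∧ FlatMod.IsFinLocFree (S j)) ∧
      ∀ i, Sums (Mem S) (T i)
  | 0, T, _ => ⟨0, Fin.elim0, fun j => j.elim0, fun i => i.elim0⟩
  | q + 1, T, hT => by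
    obtain ⟨m, S, hS, hT'⟩ := exists_refine hc (fun i : Fin q => T i.succ) fun i => hT _
    have : Module.Finite k (End (T 0)) := KS.finite_hom k (Groth.KTheory.LocFree.isCoh (hT 0))
      (Groth.KTheory.LocFree.isCoh (hT 0))
    obtain ⟨n, F, hF, ⟨φ⟩⟩ := KS.exists_decomp (k := k) _ (T 0) le_rfl
    refine ⟨n + m, Fin.append F S, fun j => ?_, fun i => ?_⟩
    · induction j using Fin.addCases with
      | left l =>
        rw [Fin.append_left]
        refine ⟨hF l, ?_⟩
        obtain ⟨n', rfl⟩ : ∃ n', n = n' + 1 :=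
          ⟨n - 1, by have := l.isLt; omega⟩
        exact isFinLocFree_summand hc (φ ≪≫ (KS.splitAt l F).symm) (hT 0)
      | right l => rw [Fin.append_right]; exact hS l
    · have hmonoS : ∀ N, Mem S N → Mem (Fin.append F S) N := fun N ⟨j, hj⟩ =>
        ⟨Fin.natAdd n j, by rw [Fin.append_right]; exact hj⟩
      induction i using Fin.cases with
      | zero =>
        refine Sums.iso (fun e hN => hN.iso e) φ.symm (Sums.coprod F fun l => .of ?_)
        exact ⟨Fin.castAdd m l, by rw [Fin.append_left]; exact ⟨Iso.refl _⟩⟩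
      | succ i => exact (hT' i).mono hmonoS

theorem finType_of_family (hc : IsVBCurve k X) {E : X.Modules} {q : ℕ} (T : Fin q → X.Modules)
    (hT : ∀ i, FlatMod.IsFinLocFree (T i))
    (h : ∀ n, Sums (Mem T) (CohB1.tensorPow E n)) : FinType E := by
  obtain ⟨m, S, hS, hTS⟩ := exists_refine hc T hT
  exact ⟨m, S, hS, fun n => (h n).bind fun N ⟨i, ⟨e⟩⟩ =>
    Sums.iso (fun e hN => hN.iso e) e.symm (hTS i)⟩

theorem polyObj_count {E : X.Modules} {c : ℕ → Quotient (isIsomorphicSetoid X.Modules) → ℕ}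
    (hcE : ∀ i, HasCount (CohB1.tensorPow E i) (c i)) (P : Polynomial ℕ) {N : ℕ}
    (hN : P.natDegree < N) :
    HasCount (polyObj E P) (∑ i ∈ Finset.range N, P.coeff i • c i) := by
  have h := hasCount_coprod (fun i : Fin (P.natDegree + 1) =>
    ∐ fun _ : Fin (P.coeff ↑i) => CohB1.tensorPow E ↑i) (fun i => P.coeff ↑i • c ↑i) fun i => by
      have h1 := hasCount_coprod (fun _ : Fin (P.coeff ↑i) => CohB1.tensorPow E ↑i)
        (fun _ => c ↑i) fun _ => hcE _
      simpa using h1
  have e : ∑ i : Fin (P.natDegree + 1), P.coeff ↑i • c ↑i =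
      ∑ i ∈ Finset.range N, P.coeff i • c i := by
    rw [Fin.sum_univ_eq_sum_range (fun i => P.coeff i • c i)]
    refine Finset.sum_subset (Finset.range_mono (by omega)) fun i _ hi => ?_
    rw [Finset.mem_range, not_lt] at hi
    rw [Polynomial.coeff_eq_zero_of_natDegree_lt (by omega), zero_smul]
  rw [← e]
  exact h

/-- Weil finite bundles have finitely many indecomposables in their powers. -/
theorem finType_of_isWeil (hc : IsVBCurve k X) {E : X.Modules} (hE : FlatMod.IsFinLocFree E)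
    (h : IsWeil E) : FinType E := by
  classical
  obtain ⟨P, Q, hPQ, ⟨φ⟩⟩ := h
  have hcoh : ∀ i, Coh.IsCoh (CohB1.tensorPow E i) := fun i =>
    Groth.KTheory.LocFree.isCoh (isFinLocFree_tensorPow hE i)
  choose c hcE using fun i => exists_hasCount k (hcoh i)
  let N := P.natDegree + Q.natDegree + 1
  have hPc := polyObj_count hcE P (N := N) (by omega)
  have hQc := (polyObj_count hcE Q (N := N) (by omega)).iso φ.symm
  have heq := HasCount.unique k (Groth.KTheory.LocFree.isCoh (isFinLocFree_coprod _ fun i =>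
    isFinLocFree_coprod _ fun _ => isFinLocFree_tensorPow hE _)) hPc hQc
  -- the highest differing coefficient
  have hne : ((Finset.range N).filter fun i => P.coeff i ≠ Q.coeff i).Nonempty := by
    obtain ⟨i, hi⟩ : ∃ i, P.coeff i ≠ Q.coeff i := by
      by_contra hall
      push Not at hall
      exact hPQ (Polynomial.ext hall)
    refine ⟨i, Finset.mem_filter.2 ⟨Finset.mem_range.2 ?_, hi⟩⟩
    by_contra hlt
    exact hi (by rw [Polynomial.coeff_eq_zero_of_natDegree_lt (by omega),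
      Polynomial.coeff_eq_zero_of_natDegree_lt (by omega)])
  obtain ⟨n, hn, hmax⟩ := Finset.exists_max_image _ id hne
  rw [Finset.mem_filter, Finset.mem_range] at hn
  have hlow : ∀ U, c n U ≠ 0 → ∃ i < n, c i U ≠ 0 := by
    intro U hU
    by_contra hall
    push Not at hall
    have h1 := congrFun heq U
    simp only [Finset.sum_apply, Pi.smul_apply, smul_eq_mul] at h1
    rw [← Finset.add_sum_erase _ _ (Finset.mem_range.2 hn.1),
      ← Finset.add_sum_erase _ _ (Finset.mem_range.2 hn.1)] at h1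
    have h2 : ∀ i ∈ (Finset.range N).erase n, P.coeff i * c i U = Q.coeff i * c i U := by
      intro i hi
      rw [Finset.mem_erase, Finset.mem_range] at hi
      rcases lt_or_gt_of_ne hi.1 with hlt | hgt
      · rw [hall i hlt, mul_zero, mul_zero]
      · by_cases heq' : P.coeff i = Q.coeff i
        · rw [heq']
        · exact absurd (hmax i (Finset.mem_filter.2 ⟨Finset.mem_range.2 hi.2, heq'⟩)) (not_le.2 hgt)
    rw [Finset.sum_congr rfl h2, Nat.add_right_cancel_iff] at h1
    exact hn.2 (Nat.eq_of_mul_eq_mul_right (Nat.pos_of_ne_zero hU) h1)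
  -- the pieces of the lower powers
  obtain ⟨m, S, hS, hT⟩ := exists_refine hc (fun i : Fin n => CohB1.tensorPow E ↑i)
    fun i => isFinLocFree_tensorPow hE _
  have hsupp : ∀ i < n, ∀ U, c i U ≠ 0 → ∃ j, U = key (S j) := by
    intro i hi U hU
    obtain ⟨c', hc', hs⟩ := count_support (fun j => (hS j).1) (hT ⟨i, hi⟩)
    obtain rfl := HasCount.unique k (hcoh i) (hcE i) hc'
    exact hs U hU
  have hle : ∀ i ≤ n, Sums (Mem S) (CohB1.tensorPow E i) := by
    intro i hi
    rcases hi.lt_or_eq with hlt | rfl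
    · exact hT ⟨i, hlt⟩
    · refine sums_of_count (hcE i) fun U hU => ?_
      obtain ⟨l, hl, hU'⟩ := hlow U hU
      exact hsupp l hl U hU'
  -- each piece lies in a lower power
  have hstep : ∀ j, (∃ i < n, c i (key (S j)) ≠ 0) → Sums (Mem S) (CohB1.tensorMod (S j) E) := by
    rintro j ⟨i, hi, hj⟩
    obtain ⟨q, F, hF, ⟨ψ⟩, hcF⟩ := hcE i
    rw [← hcF] at hj
    obtain ⟨⟨⟨l, hl⟩⟩, -⟩ := Nat.card_pos_iff.1 (Nat.pos_of_ne_zero hj)
    obtain ⟨eS⟩ := key_eq_iff.1 hl
    obtain ⟨q', rfl⟩ : ∃ q', q = q' + 1 := ⟨q - 1, by have := l.isLt; omega⟩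
    let R := ∐ fun x : Fin q' => F (l.succAbove x)
    let s : CohB1.tensorPow E i ≅ S j ⊞ R :=
      ψ ≪≫ (KS.splitAt l F).symm ≪≫ biprod.mapIso eS (Iso.refl _)
    have hR : FlatMod.IsFinLocFree R :=
      isFinLocFree_summand hc (s ≪≫ biprod.braiding _ _) (isFinLocFree_tensorPow hE i)
    have := TensorDual.additive_tensorRightMod E
    have := preservesBinaryBiproducts_of_preservesBiproducts (DCoh.tensorRightMod E)
    exact Sums.summand (k := k) (fun x => (hS x).1) (hcoh (i + 1))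
      (Groth.KTheory.LocFree.isCoh (Groth.LocFree.isFinLocFree_tensorMod (hS j).2 hE))
      (Groth.KTheory.LocFree.isCoh (Groth.LocFree.isFinLocFree_tensorMod hR hE))
      ((DCoh.tensorRightMod E).mapIso s ≪≫ (DCoh.tensorRightMod E).mapBiprod _ _)
      (hle (i + 1) hi)
  refine ⟨m, S, hS, fun i => ?_⟩
  -- restrict to the pieces that occur
  suffices h : Sums (fun M => ∃ j, (∃ l < n, c l (key (S j)) ≠ 0) ∧ Nonempty (M ≅ S j))
      (CohB1.tensorPow E i) from h.mono fun M ⟨j, _, hj⟩ => ⟨j, hj⟩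
  have restrict : ∀ {M : X.Modules} {d : Quotient (isIsomorphicSetoid X.Modules) → ℕ}, HasCount M d →
      (∀ U, d U ≠ 0 → ∃ l < n, c l U ≠ 0) →
      Sums (fun M => ∃ j, (∃ l < n, c l (key (S j)) ≠ 0) ∧ Nonempty (M ≅ S j)) M := by
    intro M d hd hd'
    obtain ⟨q, F, -, ⟨ψ⟩, hdF⟩ := hd
    refine Sums.iso (fun e ⟨j, h, ⟨e'⟩⟩ => ⟨j, h, ⟨e.symm ≪≫ e'⟩⟩) ψ.symm
      (Sums.coprod F fun x => .of ?_)
    have hpos : 0 < mult F (key (F x)) := Nat.card_pos_iff.2 ⟨⟨⟨x, rfl⟩⟩, inferInstance⟩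
    obtain ⟨l, hl, hU⟩ := hd' (key (F x)) (by rw [← hdF]; omega)
    obtain ⟨j, hj⟩ := hsupp l hl _ hU
    exact ⟨j, ⟨l, hl, hj ▸ hU⟩, key_eq_iff.1 hj⟩
  induction i with
  | zero =>
    refine restrict (hcE 0) fun U hU => ?_
    rcases Nat.eq_zero_or_pos n with rfl | hn0
    · exact hlow U hU
    · exact ⟨0, hn0, hU⟩
  | succ i ih =>
    refine ih.tensor_right E fun M ⟨j, hj, ⟨e⟩⟩ => ?_
    have hsum := hstep j hj
    obtain ⟨d, hd, hsd⟩ := count_support (fun x => (hS x).1) hsum
    refine Sums.iso (fun e ⟨j', h, ⟨e'⟩⟩ => ⟨j', h, ⟨e.symm ≪≫ e'⟩⟩)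
      ((DCoh.tensorRightMod E).mapIso e).symm (restrict hd fun U hU => ?_)
    -- the classes of `S j ⊗ E` occur in a power of exponent at most `n`
    obtain ⟨l, hl, hlj⟩ := hj
    obtain ⟨q, F, -, ⟨ψ⟩, hcF⟩ := hcE l
    rw [← hcF] at hlj
    obtain ⟨⟨⟨x, hx⟩⟩, -⟩ := Nat.card_pos_iff.1 (Nat.pos_of_ne_zero hlj)
    obtain ⟨eS⟩ := key_eq_iff.1 hx
    obtain ⟨q', rfl⟩ : ∃ q', q = q' + 1 := ⟨q - 1, by have := x.isLt; omega⟩
    let R := ∐ fun y : Fin q' => F (x.succAbove y)
    let s : CohB1.tensorPow E l ≅ S j ⊞ R :=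
      ψ ≪≫ (KS.splitAt x F).symm ≪≫ biprod.mapIso eS (Iso.refl _)
    have hR : FlatMod.IsFinLocFree R :=
      isFinLocFree_summand hc (s ≪≫ biprod.braiding _ _) (isFinLocFree_tensorPow hE l)
    have := TensorDual.additive_tensorRightMod E
    have := preservesBinaryBiproducts_of_preservesBiproducts (DCoh.tensorRightMod E)
    obtain ⟨r, hr⟩ := exists_hasCount k
      (Groth.KTheory.LocFree.isCoh (Groth.LocFree.isFinLocFree_tensorMod hR hE))
    have hu := HasCount.unique k (hcoh (l + 1)) (hcE (l + 1))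
      (hd.add hr ((DCoh.tensorRightMod E).mapIso s ≪≫ (DCoh.tensorRightMod E).mapBiprod _ _))
    have hU' : c (l + 1) U ≠ 0 := by rw [hu]; simp [hU]
    rcases (show l + 1 ≤ n by omega).lt_or_eq with hlt | heq
    · exact ⟨l + 1, hlt, hU'⟩
    · rw [heq] at hU'; exact hlow U hU'

/-- Finitely many indecomposables in the powers give Weil finiteness. -/
theorem isWeil_of_finType {E : X.Modules} (hE : FlatMod.IsFinLocFree E) (h : FinType E) :
    IsWeil E := by
  classical
  obtain ⟨m, S, hS, hn⟩ := h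
  choose c hcE hsupp using fun i => count_support (fun j => (hS j).1) (hn i)
  let v : Fin (m + 1) → (Fin m → ℤ) := fun i j => (c ↑i (key (S j)) : ℤ)
  have hdep : ¬ LinearIndependent ℤ v := fun hli => by
    have := hli.fintype_card_le_finrank
    simp at this
  obtain ⟨g, hg, i₀, hi₀⟩ := Fintype.not_linearIndependent_iff.1 hdep
  let g' : ℕ → ℤ := fun i => if h : i < m + 1 then g ⟨i, h⟩ else 0
  let P : Polynomial ℕ := ∑ i ∈ Finset.range (m + 1), Polynomial.monomial i (g' i).toNat
  let Q : Polynomial ℕ := ∑ i ∈ Finset.range (m + 1), Polynomial.monomial i (-g' i).toNat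
  have hP : ∀ i, P.coeff i = (g' i).toNat := fun i => by
    simp only [P, Polynomial.finsetSum_coeff, Polynomial.coeff_monomial,
      Finset.sum_ite_eq', Finset.mem_range]
    split_ifs with h
    · rfl
    · rw [show g' i = 0 from dif_neg h]; rfl
  have hQ : ∀ i, Q.coeff i = (-g' i).toNat := fun i => by
    simp only [Q, Polynomial.finsetSum_coeff, Polynomial.coeff_monomial,
      Finset.sum_ite_eq', Finset.mem_range]
    split_ifs with h
    · rfl
    · rw [show g' i = 0 from dif_neg h]; rfl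
  refine ⟨P, Q, fun heq => hi₀ ?_, ?_⟩
  · have h1 := congrArg (Polynomial.coeff · (i₀ : ℕ)) heq
    simp only [hP, hQ] at h1
    have h2 : g' ↑i₀ = g i₀ := dif_pos i₀.isLt
    rw [h2] at h1
    omega
  · have hdeg : ∀ R : Polynomial ℕ, (∀ i, m + 1 ≤ i → R.coeff i = 0) → R.natDegree < m + 1 :=
      fun R hR => by
        rw [Nat.lt_succ_iff, Polynomial.natDegree_le_iff_coeff_eq_zero]
        exact fun i hi => hR i hi
    have hg0 : ∀ i, m + 1 ≤ i → g' i = 0 := fun i hi => dif_neg (by omega)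
    have hPc := polyObj_count hcE P (N := m + 1)
      (hdeg P fun i hi => by rw [hP, hg0 i hi]; rfl)
    have hQc := polyObj_count hcE Q (N := m + 1)
      (hdeg Q fun i hi => by rw [hQ, hg0 i hi]; rfl)
    refine HasCount.nonempty_iso hPc ?_
    have heqc : (∑ i ∈ Finset.range (m + 1), P.coeff i • c i) =
        ∑ i ∈ Finset.range (m + 1), Q.coeff i • c i := by
      funext U
      simp only [Finset.sum_apply, Pi.smul_apply, smul_eq_mul, hP, hQ]
      by_cases hU : ∀ i, c i U = 0
      · simp [hU]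
      push Not at hU
      obtain ⟨i, hi⟩ := hU
      obtain ⟨j, rfl⟩ := hsupp i U hi
      have h1 := congrFun hg j
      simp only [Finset.sum_apply, Pi.smul_apply, smul_eq_mul, v, Pi.zero_apply] at h1
      have h2 : ∑ i ∈ Finset.range (m + 1), g' i * (c i (key (S j)) : ℤ) = 0 := by
        rw [← Fin.sum_univ_eq_sum_range (fun i => g' i * (c i (key (S j)) : ℤ))]
        refine Eq.trans (Finset.sum_congr rfl fun i _ => ?_) h1
        rw [show g' ↑i = g i from dif_pos i.isLt]
      have h3 : ∑ i ∈ Finset.range (m + 1), ((g' i).toNat * c i (key (S j)) : ℕ) =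
          (∑ i ∈ Finset.range (m + 1), ((-g' i).toNat * c i (key (S j)) : ℕ) : ℤ) := by
        push_cast
        rw [← sub_eq_zero, ← Finset.sum_sub_distrib]
        refine Eq.trans (Finset.sum_congr rfl fun i _ => ?_) h2
        rw [← sub_mul, Int.toNat_sub_toNat_neg]
      exact_mod_cast h3
    rw [heqc]
    exact hQc

theorem isWeil_iff (hc : IsVBCurve k X) {E : X.Modules} (hE : FlatMod.IsFinLocFree E) :
    IsWeil E ↔ FinType E :=
  ⟨finType_of_isWeil hc hE, isWeil_of_finType hE⟩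

end Groth.VBCurves.Weil
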