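import Groth.Agent.VBCurves.GenusOneSplit
import Groth.Agent.VBCurves.WeilFinite

/-!
# Maps from a semistable bundle to a line bundle on a curve of genus one
-/

set_option autoImplicit false
set_option linter.unusedSectionVars false
set_option linter.style.haveILetI false

universe u

open CategoryTheory CategoryTheory.Limits AlgebraicGeometry TopologicalSpace
open CategoryTheory.Abelian (Ext)
open scoped Groth.CurveBridge

namespace Groth.VBCurves.GenusOneEval

variable {k : Type u} [Field k] {X : Scheme.{u}} [X.Over (Spec (CommRingCat.of k))]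
  [IsIntegral X] [IsProper (X ↘ Spec (CommRingCat.of k))]

/-- The endomorphisms of an invertible module are the constants. -/
theorem finrank_end_line (hc : IsVBCurve k X) {ω : X.Modules} (hω : IsDualizing k ω)
    {L : X.Modules} (hL : PicF.IsInvertible L) : Module.finrank k (L ⟶ L) = 1 := by
  have : IsNoetherian X := Groth.EulerDeg.isNoetherian_of_proper k X
  let O := Coh.structureModule X
  have hO : ClSub.IsInverseOf O O := ⟨SecTwist.unitorR O⟩
  have := Groth.Duality.SheafHom.hasSheafHom O
  have := Groth.PicAux.isEquivalence_tensorRightMod_of_isInvertible hL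
  have : PreservesBinaryBiproducts (tw L) :=
    preservesBinaryBiproducts_of_preservesBinaryProducts (tw L)
  have := Functor.additive_of_preservesBinaryBiproducts (tw L)
  let u : (tw L).obj O ≅ L := (Groth.PicAux.exists_leftUnitor L).choose
  have h0 : Module.finrank k (Coh.HH X O 0) = 1 := by
    have he := HomEuler.euler_structure_of hc hω
    rw [Groth.EulerDeg.euler_structure k X hc.dim.le] at he
    have h1 : (Module.finrank k (Coh.HH X (Coh.structureModule X) 0) : ℤ) = 1 := by linarith
    exact_mod_cast h1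
  rw [← h0, ← (Linear.homCongr k u u).finrank_eq, ← (HomEuler.twHom (k := k) L O O).finrank_eq,
    (Groth.Duality.SheafHom.homH0 O k O).finrank_eq,
    (Groth.EulerDeg.hEquiv k (((Groth.Duality.SheafHom.sheafHomIsoTensor hO).app O) ≪≫
      SecTwist.unitorR O) 0).finrank_eq]

/-- A semistable bundle of the slope of a line has few maps to it. -/
theorem hom_le_rk (hc : IsVBCurve k X) {ω : X.Modules} (hω : IsDualizing k ω) {L : X.Modules}
    (hL : PicF.IsInvertible L) (n : ℕ) : ∀ (P : X.Modules), FlatMod.IsFinLocFree P → rk P = n →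
    Bnd k P (dg k L) 1 → dg k P = (n : ℤ) * dg k L → Module.finrank k (P ⟶ L) ≤ n := by
  have hL1 := Groth.LocFree.isInvertible_iff_ofRank_one.1 hL
  have hL' := Groth.LocFree.isFinLocFree_of_rank hL1
  induction n using Nat.strong_induction_on with
  | _ n ih =>
    intro P hP hr hB hd
    by_cases h0 : ∀ f : P ⟶ L, f = 0
    · have : Subsingleton (P ⟶ L) := subsingleton_of_forall_eq 0 h0
      rw [Module.finrank_zero_of_subsingleton]
      exact Nat.zero_le _
    push Not at h0
    obtain ⟨f, hf⟩ := h0
    obtain ⟨K, I, i, p, j, w, hS, hi, hp, hj, hfac, -, hK, hI, hrk, hdg, hI0⟩ :=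
      exists_image hc hP hL' f
    have hI1 := hI0 hf
    have hle := rk_le_of_mono j hL'
    rw [rk_eq hL1] at hle
    have hdI := (dg_le_of_mono k hc.dim.le hI hL' j (by rw [rk_eq hL1]; omega)).1
    have hKb : dg k K ≤ dg k L * (rk K : ℤ) := by
      rcases Nat.eq_zero_or_pos (rk K) with h | h
      · simp [dg_of_rk_zero k hK h, h]
      · simpa using hB K i hi hK h
    have hrI : rk I = 1 := by omega
    have hn : (n : ℤ) = rk K + 1 := by
      have : n = rk K + 1 := by omega
      exact_mod_cast this
    have hdK : dg k K = (rk K : ℤ) * dg k L := by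
      rw [hdg, hn] at hd
      linarith
    have hihK := ih (rk K) (by omega) K hK rfl (hB.sub i) hdK
    have hiso : IsIso j := isIso_of_mono hc hI hL' j (by rw [rk_eq hL1, hrI]) (by
      rw [hdg, hn, hdK] at hd
      linarith)
    have hfepi : Epi f := by rw [← hfac]; exact epi_comp p j
    have := KS.finite_hom k (Groth.KTheory.LocFree.isCoh hL') (Groth.KTheory.LocFree.isCoh hL')
    have := KS.finite_hom k (Groth.KTheory.LocFree.isCoh hP) (Groth.KTheory.LocFree.isCoh hL')
    have := KS.finite_hom k (Groth.KTheory.LocFree.isCoh hK) (Groth.KTheory.LocFree.isCoh hL')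
    let a : (L ⟶ L) →ₗ[k] (P ⟶ L) := Linear.leftComp k L f
    let b : (P ⟶ L) →ₗ[k] (K ⟶ L) := Linear.leftComp k L i
    have hker : LinearMap.ker b ≤ LinearMap.range a := by
      intro g hg
      have hg' : i ≫ g = 0 := hg
      have hex := hS.exact
      have := hp
      let g₁ : I ⟶ L := hex.desc g hg'
      have hg₁ : p ≫ g₁ = g := hex.g_desc g hg'
      exact ⟨inv j ≫ g₁, by
        change f ≫ inv j ≫ g₁ = g
        rw [← hfac, Category.assoc, IsIso.hom_inv_id_assoc, hg₁]⟩
    have h1 := LinearMap.finrank_range_add_finrank_ker b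
    have h2 := Submodule.finrank_mono hker
    have h3 := LinearMap.finrank_range_le a
    have h4 := Submodule.finrank_le (LinearMap.range b)
    rw [finrank_end_line hc hω hL] at h3
    omega

/-- The bound on maps to a line for a semistable bundle of slope at least `d / r`. -/
theorem hom_bound (hc : IsVBCurve k X) {ω : X.Modules} (hω : IsDualizing k ω)
    (hg : Curv2.genus k X = 1) {L : X.Modules} (hL : PicF.IsInvertible L) {d : ℤ} {r : ℕ}
    (hlt : d + (r : ℤ) ≤ (r : ℤ) * dg k L) {P : X.Modules} (hP : FlatMod.IsFinLocFree P)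
    (hss : SS k P) (hslope : d * (rk P : ℤ) ≤ dg k P * (r : ℤ)) :
    (r : ℤ) * Module.finrank k (P ⟶ L) ≤ (rk P : ℤ) * ((r : ℤ) * dg k L - d) := by
  have : HasExt.{u} X.Modules := hasExt_of_enoughInjectives _
  have hL1 := Groth.LocFree.isInvertible_iff_ofRank_one.1 hL
  have hL' := Groth.LocFree.isFinLocFree_of_rank hL1
  rcases lt_trichotomy (dg k P) ((rk P : ℤ) * dg k L) with h | h | h
  · have hext : Subsingleton (Ext P L 1) := by
      by_contra hne
      obtain ⟨φ, hφ⟩ := GenusOne.exists_hom_of_ext hc hω hP hL' hne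
      obtain ⟨eω⟩ := GenusOne.omega_trivial hc hω hg
      let j : (tw ω).obj P ≅ P :=
        PicGrp.tensorModIso (Iso.refl P) eω ≪≫ SecTwist.unitorR P
      refine hφ ((cancel_mono j.hom).1 ((hom_eq_zero hc hL' hP (St.ss hc hL' (st_line hL1))
        (fun G i hi hG hG0 => ?_) (φ ≫ j.hom)).trans zero_comp.symm))
      rw [rk_eq hL1]
      push_cast
      rw [mul_one]
      have h1 := hss G i hi hG hG0
      have hrP : (0 : ℤ) < rk P := by
        have : rk G ≤ rk P := rk_le_of_mono i hP
        exact_mod_cast (by omega : 0 < rk P)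
      have h2 := mul_lt_mul_of_pos_right h (show (0 : ℤ) < rk G by exact_mod_cast hG0)
      refine lt_of_mul_lt_mul_right ?_ hrP.le
      linarith
    have he := HomEuler.hom_sub_ext hc hω hP 1 L hL' (rk_eq hL1)
    rw [Module.finrank_zero_of_subsingleton (M := Ext P L 1), hg] at he
    push_cast at he
    have he' : (Module.finrank k (P ⟶ L) : ℤ) = (rk P : ℤ) * dg k L - dg k P := by linarith
    rw [he']
    linarith
  · have hBd : Bnd k P (dg k L) 1 := fun G i hi hG hG0 => by
      have h1 := hss G i hi hG hG0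
      rw [h] at h1
      push_cast
      rw [mul_one]
      have hrP : (0 : ℤ) < rk P := by
        have : rk G ≤ rk P := rk_le_of_mono i hP
        exact_mod_cast (by omega : 0 < rk P)
      refine le_of_mul_le_mul_right ?_ hrP
      linarith
    have h2 : (Module.finrank k (P ⟶ L) : ℤ) ≤ rk P := by
      exact_mod_cast hom_le_rk hc hω hL (rk P) P hP rfl hBd h
    have h3 := mul_le_mul_of_nonneg_left h2 (Int.natCast_nonneg r)
    have h4 : (rk P : ℤ) * r ≤ (rk P : ℤ) * ((r : ℤ) * dg k L - d) :=
      mul_le_mul_of_nonneg_left (by linarith) (Int.natCast_nonneg _)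
    linarith
  · have hz : ∀ f : P ⟶ L, f = 0 := fun f => hom_eq_zero hc hP hL' hss (fun G i hi hG hG0 => by
      have hle := rk_le_of_mono i hL'
      rw [rk_eq hL1] at hle
      have hG1 : rk G = 1 := by omega
      have := (dg_le_of_mono k hc.dim.le hG hL' i (by rw [hG1, rk_eq hL1])).1
      rw [hG1]
      push_cast
      rw [mul_one]
      have h2 := mul_le_mul_of_nonneg_right this (Int.natCast_nonneg (rk P))
      linarith) f
    have : Subsingleton (P ⟶ L) := subsingleton_of_forall_eq 0 hz
    rw [Module.finrank_zero_of_subsingleton]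
    push_cast
    rw [mul_zero]
    exact mul_nonneg (Int.natCast_nonneg _) (by linarith [Int.natCast_nonneg r])

/-- Semistable bundles of small slope embed in copies of a line bundle. -/
theorem exists_mono (hc : IsVBCurve k X) {ω : X.Modules} (hω : IsDualizing k ω)
    (hg : Curv2.genus k X = 1) {L : X.Modules} (hL : PicF.IsInvertible L) {F : X.Modules}
    (hF : FlatMod.IsFinLocFree F) (hr : 0 < rk F) (hss : SS k F)
    (hlt : dg k F + (rk F : ℤ) < (rk F : ℤ) * dg k L) :
    ∃ M : ℕ, 0 < M ∧ ∃ j : F ⟶ ∐ (fun _ : Fin M => L), Mono j := by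
  classical
  have : HasExt.{u} X.Modules := hasExt_of_enoughInjectives _
  have hL1 := Groth.LocFree.isInvertible_iff_ofRank_one.1 hL
  have hL' := Groth.LocFree.isFinLocFree_of_rank hL1
  have := KS.finite_hom k (Groth.KTheory.LocFree.isCoh hF) (Groth.KTheory.LocFree.isCoh hL')
  have he := HomEuler.hom_sub_ext hc hω hF 1 L hL' (rk_eq hL1)
  rw [hg] at he
  push_cast at he
  have hn : (rk F : ℤ) * dg k L - dg k F ≤ Module.finrank k (F ⟶ L) := by
    have := Int.natCast_nonneg (Module.finrank k (Ext F L 1))
    linarith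
  let M := Module.finrank k (F ⟶ L)
  let bb : Module.Basis (Fin M) k (F ⟶ L) := Module.finBasis k (F ⟶ L)
  let T : X.Modules := ∐ fun _ : Fin M => L
  let pr : Fin M → (T ⟶ L) := fun l => Sigma.desc fun x => if x = l then 𝟙 L else 0
  let φ : F ⟶ T := ∑ l, bb l ≫ Sigma.ι (fun _ : Fin M => L) l
  have hφ : ∀ l, φ ≫ pr l = bb l := fun l => by
    simp only [φ, Preadditive.sum_comp, Category.assoc, pr, Sigma.ι_desc]
    rw [Finset.sum_eq_single l]
    · simp
    · intro x _ hx; simp [hx]
    · exact fun h => absurd (Finset.mem_univ l) h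
  refine ⟨M, by omega, φ, ?_⟩
  obtain ⟨K, I, i, p, j, w, hS, hi, hp, hj, hfac, hm, hK, hI, hrk, hdg, -⟩ :=
    exists_image hc hF (isFinLocFree_of_sumLines hL' M) φ
  rcases Nat.eq_zero_or_pos (rk K) with hK0 | hK0
  · have := hm hK0
    rw [← hfac]
    infer_instance
  exfalso
  -- every map to `L` factors through the image
  have hinj : Function.Injective (Linear.leftComp k L p) := fun a b h => (cancel_epi p).1 h
  have hsurj : Function.Surjective (Linear.leftComp k L p) := fun f => by
    refine ⟨∑ l, bb.repr f l • (j ≫ pr l), ?_⟩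
    refine Eq.trans ?_ (bb.sum_repr f)
    rw [map_sum]
    refine Finset.sum_congr rfl fun l _ => ?_
    rw [map_smul]
    congr 1
    change p ≫ j ≫ pr l = bb l
    rw [reassoc_of% hfac, hφ]
  have hMI : M = Module.finrank k (I ⟶ L) :=
    ((LinearEquiv.ofBijective _ ⟨hinj, hsurj⟩).finrank_eq).symm
  -- bound on the image
  have : Module.Finite k (End I) :=
    KS.finite_hom k (Groth.KTheory.LocFree.isCoh hI) (Groth.KTheory.LocFree.isCoh hI)
  obtain ⟨m, G, hG, ⟨e⟩⟩ := KS.exists_decomp (k := k) _ I le_rfl
  have key : ∀ {n : ℕ} (G : Fin n → X.Modules), (∀ l, KS.Ind (G l)) →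
      ∀ (A : X.Modules) (q : F ⟶ A), Epi q → FlatMod.IsFinLocFree A → (A ≅ ∐ G) →
      ((rk F : ℤ) * Module.finrank k (A ⟶ L) ≤
        (rk A : ℤ) * ((rk F : ℤ) * dg k L - dg k F)) := by
    intro n
    induction n with
    | zero =>
      intro G _ A q _ _ e
      have hz : IsZero A := (KS.isZero_coprod_zero G).of_iso e
      have : Subsingleton (A ⟶ L) := subsingleton_of_forall_eq 0 fun f => hz.eq_of_src f 0
      rw [Module.finrank_zero_of_subsingleton]
      push_cast
      rw [mul_zero]
      exact mul_nonneg (Int.natCast_nonneg _) (by linarith [Int.natCast_nonneg (rk F)])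
    | succ n ihn =>
      intro G hG A q hq hA e
      let s : A ≅ G 0 ⊞ (∐ fun l : Fin n => G ((0 : Fin (n + 1)).succAbove l)) :=
        e ≪≫ (KS.splitAt 0 G).symm
      let B := ∐ fun l : Fin n => G ((0 : Fin (n + 1)).succAbove l)
      obtain ⟨hG0, hB⟩ := summands hc s hA
      have hqB : Epi (q ≫ s.hom ≫ biprod.snd) := inferInstance
      have hqG : Epi (q ≫ s.hom ≫ biprod.fst) := inferInstance
      have h2 := ihn _ (fun l => hG _) B (q ≫ s.hom ≫ biprod.snd) hqB hB (Iso.refl _)
      have hsG : SS k (G 0) := GenusOne.ss_of_indec hc hω hg hG0 (hG 0)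
      obtain ⟨K', I', i', p', j', w', hS', hi', hp', hj', hfac', -, hK', hI', hr', hd', -⟩ :=
        exists_image hc hF hG0 (q ≫ s.hom ≫ biprod.fst)
      have : Epi (p' ≫ j') := by rw [hfac']; infer_instance
      have : Epi j' := epi_of_epi p' j'
      have : IsIso j' := isIso_of_mono_of_epi j'
      rw [rk_eq_of_iso hI' (asIso j')] at hr'
      rw [dg_eq_of_iso (k := k) hI' (asIso j')] at hd'
      have hr'' : (rk F : ℤ) = rk K' + rk (G 0) := by exact_mod_cast hr'
      have hKb : dg k K' * (rk F : ℤ) ≤ dg k F * (rk K' : ℤ) := by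
        rcases Nat.eq_zero_or_pos (rk K') with h | h
        · simp [dg_of_rk_zero k hK' h, h]
        · exact hss K' i' hi' hK' h
      have hslope : dg k F * (rk (G 0) : ℤ) ≤ dg k (G 0) * (rk F : ℤ) := by
        have e1 : dg k (G 0) = dg k F - dg k K' := by linarith
        rw [e1, sub_mul]
        have e2 : (rk (G 0) : ℤ) = rk F - rk K' := by linarith
        rw [e2, mul_sub]
        linarith
      have h1 := hom_bound hc hω hg hL hlt.le hG0 hsG hslope
      have hr2 := rk_add (ShortComplex.Splitting.ofHasBinaryBiproduct (G 0) B).shortExact hG0 hB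
      dsimp only at hr2
      rw [← rk_eq_of_iso hA s] at hr2
      have hf1 := KS.finite_hom k (Groth.KTheory.LocFree.isCoh hG0)
        (Groth.KTheory.LocFree.isCoh hL')
      have hf2 := KS.finite_hom k (Groth.KTheory.LocFree.isCoh hB)
        (Groth.KTheory.LocFree.isCoh hL')
      let Φ : (A ⟶ L) →ₗ[k] (G 0 ⟶ L) × (B ⟶ L) :=
        (Linear.leftComp k L (biprod.inl ≫ s.inv)).prod (Linear.leftComp k L (biprod.inr ≫ s.inv))
      have hΦ : Function.Injective Φ := fun a b h => by
        rw [← cancel_epi s.inv]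
        have h1 : (biprod.inl ≫ s.inv) ≫ a = (biprod.inl ≫ s.inv) ≫ b := congrArg Prod.fst h
        have h2 : (biprod.inr ≫ s.inv) ≫ a = (biprod.inr ≫ s.inv) ≫ b := congrArg Prod.snd h
        refine biprod.hom_ext' _ _ ?_ ?_
        · simpa using h1
        · simpa using h2
      have h3 := LinearMap.finrank_le_finrank_of_injective hΦ
      rw [Module.finrank_prod] at h3
      have h4 : (Module.finrank k (A ⟶ L) : ℤ) ≤
          Module.finrank k (G 0 ⟶ L) + Module.finrank k (B ⟶ L) := by exact_mod_cast h3
      have h5 := mul_le_mul_of_nonneg_left h4 (Int.natCast_nonneg (rk F))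
      rw [hr2]
      push_cast
      linarith
  have h1 := key G hG I p hp hI e
  rw [← hMI] at h1
  have hpos : (0 : ℤ) < (rk F : ℤ) * dg k L - dg k F := by
    linarith [Int.natCast_nonneg (rk F)]
  have h2 := mul_le_mul_of_nonneg_left hn (Int.natCast_nonneg (rk F))
  have h3 : (rk I : ℤ) < rk F := by exact_mod_cast (show rk I < rk F by omega)
  have h4 := mul_lt_mul_of_pos_right h3 hpos
  linarith
where
  isFinLocFree_of_sumLines {L : X.Modules} (hL : FlatMod.IsFinLocFree L) :
      ∀ n : ℕ, FlatMod.IsFinLocFree (∐ fun _ : Fin n => L)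
    | 0 => Groth.KTheory.LocFree.isFinLocFree_of_iso
        (((IsZero.iff_id_eq_zero (FlatMod.freeMod X 0)).2
          (Sigma.hom_ext _ _ fun i => i.elim0)).iso (KS.isZero_coprod_zero _))
        (Groth.LocFree.isFinLocFree_freeMod X 0)
    | n + 1 => Groth.KTheory.LocFree.isFinLocFree_of_iso (KS.splitAt 0 fun _ : Fin (n + 1) => L)
        (Groth.KTheory.LocFree.isFinLocFree_of_shortExact
          (ShortComplex.Splitting.ofHasBinaryBiproduct _ _).shortExact hL
          (isFinLocFree_of_sumLines hL n))
  summands (hc : IsVBCurve k X) {M A B : X.Modules} (e : M ≅ A ⊞ B) (hM : FlatMod.IsFinLocFree M) :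
      FlatMod.IsFinLocFree A ∧ FlatMod.IsFinLocFree B :=
    ⟨Weil.isFinLocFree_summand hc e hM,
      Weil.isFinLocFree_summand hc (e ≪≫ biprod.braiding _ _) hM⟩

end Groth.VBCurves.GenusOneEval
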