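import Groth.Agent.VBCurves.HomEuler
import Groth.Agent.SGA7.Ext1
import Groth.Agent.CurveBridge.FromDivisor
import Groth.Agent.Funfld2.Found

/-!
# Stable and semistable bundles on a curve of genus one
-/

set_option autoImplicit false
set_option linter.unusedSectionVars false
set_option linter.style.haveILetI false

universe u

open CategoryTheory CategoryTheory.Limits AlgebraicGeometry TopologicalSpace
open CategoryTheory.Abelian (Ext)
open scoped Groth.CurveBridge

namespace Groth.VBCurves.GenusOne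

variable {k : Type u} [Field k] {X : Scheme.{u}} [X.Over (Spec (CommRingCat.of k))]
  [IsIntegral X] [IsProper (X ↘ Spec (CommRingCat.of k))]

/-- Invertible modules of every degree. -/
theorem exists_line [IsAlgClosed k] (h : Groth.CurveBridge.IsRegCurve X)
    (hK : FunFld.IsFunctionField k X.functionField) (e : ℤ) :
    ∃ L : X.Modules, FlatMod.IsFinLocFreeOfRank 1 L ∧ Curv2.deg k X L 1 = e := by
  have : CompactSpace X :=
    QuasiCompact.compactSpace_of_compactSpace (X ↘ Spec (CommRingCat.of k))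
  obtain ⟨x, -, hx⟩ := IsClosed.exists_closed_singleton (X := X) isClosed_univ Set.univ_nonempty
  let P := Groth.CurveBridge.placeAt (k := k) h (⟨x, hx⟩ : Groth.CurveBridge.Pt X)
  obtain ⟨L, hL, -, hd, -⟩ :=
    Groth.CurveBridge.exists_invertible_numerics (k := k) h hK (Finsupp.single P e)
  refine ⟨L, Groth.LocFree.isInvertible_iff_ofRank_one.1 hL, ?_⟩
  rw [hd]
  simp [FunFld.Divisor.deg, (Groth.Funfld2.good_of_algClosed hK).deg_one P]

/-- A nonsplit extension of stable bundles of Farey neighbour slopes is stable. -/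
theorem st_ext (hc : IsVBCurve k X) {A B C : X.Modules} (f : A ⟶ B) (g : B ⟶ C) (w : f ≫ g = 0)
    (hS : (ShortComplex.mk f g w).ShortExact) (hA : FlatMod.IsFinLocFree A)
    (hB : FlatMod.IsFinLocFree B) (hC : FlatMod.IsFinLocFree C) (hA0 : 0 < rk A)
    (hC0 : 0 < rk C) (sA : St k A) (sC : St k C)
    (hdet : (rk A : ℤ) * dg k C - (rk C : ℤ) * dg k A = 1) (hns : ¬ IsSplitEpi g) : St k B := by
  have hrB := rk_add hS hA hC
  have hdB := dg_add k hS hA hC
  dsimp only at hrB hdB
  intro G j hj hG hpos hlt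
  obtain ⟨K, I, i, p, c, w', -, hi, hp, hc', hfac, hpm, hK, hI, hr, hd, -⟩ :=
    exists_image hc hG hC (j ≫ g)
  have hz : (i ≫ j) ≫ g = 0 := by rw [Category.assoc, ← hfac, reassoc_of% w', zero_comp]
  have := hS.mono_f
  let a : K ⟶ A := hS.exact.lift (i ≫ j) hz
  have ha : a ≫ f = i ≫ j := hS.exact.lift_f (i ≫ j) hz
  have : Mono (a ≫ f) := by rw [ha]; infer_instance
  have ha' : Mono a := mono_of_mono a f
  -- a positive multiple of the slope defect
  set Φ : ℤ → ℤ → ℤ := fun x y => (dg k A + dg k C) * x - ((rk A : ℤ) + rk C) * y with hΦ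
  suffices h : 0 < Φ (rk K) (dg k K) + Φ (rk I) (dg k I) by
    rw [hrB, hdB, hr, hd]
    simp only [hΦ] at h
    push_cast
    linarith
  have hkA : rk K ≤ rk A := rk_le_of_mono a hA
  have hkC : rk I ≤ rk C := rk_le_of_mono c hC
  -- the part in `A`
  have hΦK : rk K = 0 ∧ Φ (rk K) (dg k K) = 0 ∨ 0 < rk K ∧ 1 ≤ Φ (rk K) (dg k K) ∧
      (rk K < rk A → 2 ≤ Φ (rk K) (dg k K)) := by
    rcases Nat.eq_zero_or_pos (rk K) with h0 | h0
    · exact Or.inl ⟨h0, by simp [hΦ, h0, dg_of_rk_zero k hK h0]⟩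
    · refine Or.inr ⟨h0, ?_⟩
      have e1 : (rk A : ℤ) * Φ (rk K) (dg k K) = rk K +
          ((rk A : ℤ) + rk C) * (dg k A * rk K - (rk A : ℤ) * dg k K) := by
        simp only [hΦ]; linear_combination (rk K : ℤ) * hdet
      rcases hkA.lt_or_eq with hlt' | heq
      · have h1 := sA K a ha' hK h0 hlt'
        have h2 : (rk A : ℤ) + rk C ≤
            ((rk A : ℤ) + rk C) * (dg k A * rk K - (rk A : ℤ) * dg k K) :=
          le_mul_of_one_le_right (by positivity) (by linarith)
        have h3 : (rk A : ℤ) * 1 < (rk A : ℤ) * Φ (rk K) (dg k K) := by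
          rw [e1]
          have : (0 : ℤ) < rk K := by exact_mod_cast h0
          linarith [Int.natCast_nonneg (rk C)]
        have h4 := lt_of_mul_lt_mul_left h3 (Int.natCast_nonneg _)
        exact ⟨h4.le, fun _ => by omega⟩
      · have h1 := (dg_le_of_mono k hc.dim.le hK hA a heq).1
        refine ⟨?_, fun h => absurd h (by omega)⟩
        have e2 : Φ (rk K) (dg k K) =
            1 + ((rk A : ℤ) + rk C) * (dg k A - dg k K) := by
          simp only [hΦ, heq]; linear_combination hdet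
        rw [e2]
        have : 0 ≤ ((rk A : ℤ) + rk C) * (dg k A - dg k K) :=
          mul_nonneg (by positivity) (by linarith)
        linarith
  -- the part in `C`
  have hΦI : rk I = 0 ∧ Φ (rk I) (dg k I) = 0 ∨ 0 < Φ (rk I) (dg k I) ∨
      rk I = rk C ∧ -1 ≤ Φ (rk I) (dg k I) ∧
        (Φ (rk I) (dg k I) ≤ 0 → IsIso c ∧ Φ (rk I) (dg k I) = -1) := by
    rcases Nat.eq_zero_or_pos (rk I) with h0 | h0
    · exact Or.inl ⟨h0, by simp [hΦ, h0, dg_of_rk_zero k hI h0]⟩
    refine Or.inr ?_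
    have e1 : (rk C : ℤ) * Φ (rk I) (dg k I) = -(rk I : ℤ) +
        ((rk A : ℤ) + rk C) * (dg k C * rk I - (rk C : ℤ) * dg k I) := by
      simp only [hΦ]; linear_combination -(rk I : ℤ) * hdet
    rcases hkC.lt_or_eq with hlt' | heq
    · left
      have h1 := sC I c hc' hI h0 hlt'
      have h2 : (rk A : ℤ) + rk C ≤
          ((rk A : ℤ) + rk C) * (dg k C * rk I - (rk C : ℤ) * dg k I) :=
        le_mul_of_one_le_right (by positivity) (by linarith)
      have h3 : (rk C : ℤ) * 0 < (rk C : ℤ) * Φ (rk I) (dg k I) := by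
        rw [e1, mul_zero]
        have : (rk I : ℤ) < rk C := by exact_mod_cast hlt'
        linarith [Int.natCast_nonneg (rk A)]
      exact lt_of_mul_lt_mul_left h3 (Int.natCast_nonneg _)
    · right
      obtain ⟨h1, h1'⟩ := dg_le_of_mono k hc.dim.le hI hC c heq
      have e2 : Φ (rk I) (dg k I) = -1 + ((rk A : ℤ) + rk C) * (dg k C - dg k I) := by
        simp only [hΦ, heq]; linear_combination -hdet
      refine ⟨heq, ?_, fun h => ?_⟩
      · rw [e2]
        have : 0 ≤ ((rk A : ℤ) + rk C) * (dg k C - dg k I) :=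
          mul_nonneg (by positivity) (by linarith)
        linarith
      · have he : dg k I = dg k C := by
          rcases h1.lt_or_eq with hlt'' | he
          · exfalso
            rw [e2] at h
            have h2 : (rk A : ℤ) + rk C ≤ ((rk A : ℤ) + rk C) * (dg k C - dg k I) :=
              le_mul_of_one_le_right (by positivity) (by linarith)
            have : (1 : ℤ) ≤ rk A := by exact_mod_cast hA0
            have : (1 : ℤ) ≤ rk C := by exact_mod_cast hC0
            linarith
          · exact he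
        exact ⟨h1'.1 he, by rw [e2, he, sub_self, mul_zero, add_zero]⟩
  rcases hΦK with ⟨hK0, hK1⟩ | ⟨hK0, hK1, hK2⟩
  · rw [hK1, zero_add]
    rcases hΦI with ⟨hI0, -⟩ | hI1 | ⟨hI0, -, hI1⟩
    · omega
    · exact hI1
    · by_contra hle
      push Not at hle
      obtain ⟨hciso, -⟩ := hI1 hle
      have := hpm hK0
      have : IsIso p := isIso_of_mono_of_epi p
      have : IsIso (j ≫ g) := by rw [← hfac]; infer_instance
      exact hns (IsSplitEpi.mk' ⟨inv (j ≫ g) ≫ j, by rw [Category.assoc, IsIso.inv_hom_id]⟩)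
  · rcases hΦI with ⟨-, hI0⟩ | hI1 | ⟨hI0, hI1, -⟩
    · rw [hI0, add_zero]; linarith
    · linarith
    · have := hK2 (by omega)
      linarith

section Extensions

variable [IsAlgClosed k] [HasExt.{u} X.Modules]

/-- Stable bundles with coprime rank and degree on a curve of genus one. -/
theorem exists_stable (h : Groth.CurveBridge.IsRegCurve X)
    (hK : FunFld.IsFunctionField k X.functionField) (hc : IsVBCurve k X) {ω : X.Modules}
    (hω : IsDualizing k ω) (hg : Curv2.genus k X = 1) (r : ℕ) :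
    ∀ (d : ℤ), 0 < r → IsCoprime (r : ℤ) d →
      ∃ F : X.Modules, FlatMod.IsFinLocFree F ∧ rk F = r ∧ dg k F = d ∧ St k F := by
  induction r using Nat.strong_induction_on with
  | _ r ih =>
    intro d hr hco
    rcases Nat.lt_or_ge r 2 with h1 | h2
    · obtain rfl : r = 1 := by omega
      obtain ⟨L, hL, hd⟩ := exists_line (k := k) h hK d
      exact ⟨L, Groth.LocFree.isFinLocFree_of_rank hL, rk_eq hL,
        by rw [← dg_eq k hL]; exact hd, st_line hL⟩
    obtain ⟨a, b, hab⟩ := hco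
    have hr' : (0 : ℤ) < r := by exact_mod_cast hr
    obtain ⟨r₁, hr₁⟩ := Int.eq_ofNat_of_zero_le (Int.emod_nonneg b hr'.ne')
    have hlt : r₁ < r := by
      have := Int.emod_lt_of_pos b hr'
      omega
    let d₁ : ℤ := -a - (b / r) * d
    have hrel : (r₁ : ℤ) * d - (r : ℤ) * d₁ = 1 := by
      rw [← hr₁]
      have := Int.emod_add_mul_ediv b r
      simp only [d₁]
      linear_combination hab + d * this
    have hr₁0 : 0 < r₁ := by
      rcases Nat.eq_zero_or_pos r₁ with h0 | h0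
      · exfalso
        rw [h0, Nat.cast_zero, zero_mul, zero_sub] at hrel
        have h3 : (r : ℤ) ∣ 1 := ⟨-d₁, by linarith⟩
        have := Int.le_of_dvd one_pos h3
        omega
      · exact h0
    obtain ⟨r₂, rfl⟩ : ∃ r₂, r = r₁ + r₂ := ⟨r - r₁, by omega⟩
    push_cast at hrel
    obtain ⟨F₁, hF₁, hr₁', hd₁, s₁⟩ := ih r₁ hlt d₁ hr₁0 ⟨d - d₁, -(r₂ : ℤ), by linarith⟩
    obtain ⟨F₂, hF₂, hr₂', hd₂, s₂⟩ :=
      ih r₂ (by omega) (d - d₁) (by omega) ⟨-d₁, (r₁ : ℤ), by linarith⟩
    have hpos : (0 : ℤ) < Module.finrank k (Ext F₂ F₁ 1) := by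
      have he := HomEuler.hom_sub_ext hc hω hF₂ r₁ F₁ hF₁ hr₁'
      rw [hr₂', hd₁, hd₂, hg] at he
      push_cast at he
      have := Int.natCast_nonneg (Module.finrank k (F₂ ⟶ F₁))
      linarith
    have : Nontrivial (Ext F₂ F₁ 1) := Module.nontrivial_of_finrank_pos (R := k) (by omega)
    obtain ⟨e, he0⟩ := exists_ne (0 : Ext F₂ F₁ 1)
    obtain ⟨B, i, p, w, hS, hcl⟩ := Groth.SGA7.Ext1.exists_shortExact_extClass_eq e
    have hB : FlatMod.IsFinLocFree B := Groth.KTheory.LocFree.isFinLocFree_of_shortExact hS hF₁ hF₂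
    have hns : ¬ IsSplitEpi p := fun hs => he0 <| by
      have h0 := congrArg ((Ext.mk₀ (section_ p)).comp · (zero_add 1)) hS.comp_extClass
      simp only [Ext.comp_zero] at h0
      rw [Ext.mk₀_comp_mk₀_assoc, IsSplitEpi.id, Ext.mk₀_id_comp] at h0
      rw [← hcl, h0]
    have hrB := rk_add hS hF₁ hF₂
    have hdB := dg_add k hS hF₁ hF₂
    dsimp only at hrB hdB
    refine ⟨B, hB, by rw [hrB, hr₁', hr₂'], by rw [hdB, hd₁, hd₂]; ring,
      st_ext hc i p w hS hF₁ hB hF₂ (by omega) (by omega) s₁ s₂ ?_ hns⟩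
    rw [hr₁', hr₂', hd₁, hd₂]
    linarith

/-- Semistable bundles of every rank and degree on a curve of genus one. -/
theorem exists_semistable (h : Groth.CurveBridge.IsRegCurve X)
    (hK : FunFld.IsFunctionField k X.functionField) (hc : IsVBCurve k X) {ω : X.Modules}
    (hω : IsDualizing k ω) (hg : Curv2.genus k X = 1) (r : ℕ) (hr : 0 < r) (d : ℤ) :
    ∃ F : X.Modules, FlatMod.IsFinLocFree F ∧ rk F = r ∧ dg k F = d ∧ SS k F := by
  let m : ℕ := Int.gcd (r : ℤ) d
  have hm : 0 < m := Int.gcd_pos_of_ne_zero_left _ (by omega)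
  obtain ⟨r', hr'⟩ : m ∣ r := by exact_mod_cast Int.gcd_dvd_left (r : ℤ) d
  obtain ⟨d', hd'⟩ : (m : ℤ) ∣ d := Int.gcd_dvd_right (r : ℤ) d
  have hr'0 : 0 < r' := Nat.pos_of_ne_zero fun h0 => by simp [h0] at hr'; omega
  have hco : IsCoprime (r' : ℤ) d' := by
    refine ⟨Int.gcdA (r : ℤ) d, Int.gcdB (r : ℤ) d,
      mul_left_cancel₀ (show (m : ℤ) ≠ 0 by omega) ?_⟩
    have hb : (m : ℤ) = (r : ℤ) * Int.gcdA (r : ℤ) d + d * Int.gcdB (r : ℤ) d :=
      Int.gcd_eq_gcd_ab _ _
    have hr'' : (r : ℤ) = (m : ℤ) * r' := by exact_mod_cast hr'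
    linear_combination -hb - (Int.gcdA (r : ℤ) d) * hr'' - (Int.gcdB (r : ℤ) d) * hd'
  obtain ⟨F, hF, hrF, hdF, sF⟩ := exists_stable h hK hc hω hg r' d' hr'0 hco
  have bF : Bnd k F d' r' := by
    have := sF.ss hc hF
    rwa [SS, hrF, hdF] at this
  have key : ∀ n : ℕ, 0 < n → ∃ G : X.Modules, FlatMod.IsFinLocFree G ∧ rk G = n * r' ∧
      dg k G = (n : ℤ) * d' ∧ Bnd k G d' r' := by
    intro n hn
    induction n with
    | zero => omega
    | succ n ihn =>
      rcases Nat.eq_zero_or_pos n with rfl | hn'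
      · exact ⟨F, hF, by simp [hrF], by simp [hdF], bF⟩
      obtain ⟨G, hG, hrG, hdG, bG⟩ := ihn hn'
      have hS := (ShortComplex.Splitting.ofHasBinaryBiproduct G F).shortExact
      have hrB := rk_add hS hG hF
      have hdB := dg_add k hS hG hF
      dsimp only at hrB hdB
      exact ⟨G ⊞ F, Groth.KTheory.LocFree.isFinLocFree_of_shortExact hS hG hF,
        by rw [hrB, hrG, hrF]; ring, by rw [hdB, hdG, hdF]; push_cast; ring,
        Bnd.ext hc _ _ _ hS hG hF bG bF⟩
  obtain ⟨G, hG, hrG, hdG, bG⟩ := key m hm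
  refine ⟨G, hG, by rw [hrG, ← hr'], by rw [hdG, ← hd'], fun K i hi hK' hpos => ?_⟩
  have h1 := bG K i hi hK' hpos
  rw [hrG, hdG]
  push_cast
  have h2 := mul_le_mul_of_nonneg_left h1 (Int.natCast_nonneg m)
  linarith

end Extensions

end Groth.VBCurves.GenusOne
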