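import Groth.Agent.VBCurves.Quot
import Groth.Agent.VBCurves.End
import Groth.Agent.VBCurves.Split
import Groth.Agent.CohTwo.Glue

/-!
# Extensions of line bundles; sections of semistable bundles of degree zero
-/

set_option autoImplicit false

universe u

open CategoryTheory CategoryTheory.Limits AlgebraicGeometry TopologicalSpace

namespace Groth.VBCurves

variable {k : Type u} [Field k] {X : Scheme.{u}} [X.Over (Spec (CommRingCat.of k))] [IsIntegral X]
  [IsProper (X ↘ Spec (CommRingCat.of k))]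

omit [IsIntegral X] [IsProper (X ↘ Spec (CommRingCat.of k))] in
theorem scal_natural {A B : X.Modules} (f : A ⟶ B) (c : k) :
    scal k A c ≫ f = f ≫ scal k B c :=
  Groth.ModelsGraphs.DualExtend.smulHom_comm f _

/-- A monomorphism from a line bundle into a saturated one of the same rank with no larger degree. -/
theorem hom_line_eq_zero (hc : IsVBCurve k X) {L M : X.Modules}
    (hL : FlatMod.IsFinLocFreeOfRank 1 L) (hM : FlatMod.IsFinLocFreeOfRank 1 M)
    (hd : dg k M < dg k L) (f : L ⟶ M) : f = 0 := by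
  have hL' := Groth.LocFree.isFinLocFree_of_rank hL
  have hM' := Groth.LocFree.isFinLocFree_of_rank hM
  by_contra hf
  obtain ⟨K, I, i, p, j, w, -, -, -, hj, hfac, hm, hK, hI, hr, -, hpos⟩ :=
    exists_image hc hL' hM' f
  rw [rk_eq hL] at hr
  have := hpos hf
  have := hm (by omega)
  have : Mono f := by rw [← hfac]; infer_instance
  have := (dg_le_of_mono k hc.dim.le hL' hM' f (by rw [rk_eq hL, rk_eq hM])).1
  omega

omit [IsProper (X ↘ Spec (CommRingCat.of k))] in
theorem st_line {L : X.Modules} (hL : FlatMod.IsFinLocFreeOfRank 1 L) : St k L :=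
  fun G _ _ _ h0 h1 => absurd h1 (by rw [rk_eq hL]; omega)

/-- A non-split extension of `M` by `L` with `deg M < deg L` and `Hom(M, L) = 0` is simple. -/
theorem simple_of_ext [IsAlgClosed k] (hc : IsVBCurve k X) {L E M : X.Modules} (f : L ⟶ E)
    (g : E ⟶ M) (w : f ≫ g = 0) (hS : (ShortComplex.mk f g w).ShortExact)
    (hL : FlatMod.IsFinLocFreeOfRank 1 L) (hM : FlatMod.IsFinLocFreeOfRank 1 M)
    (hd : dg k M < dg k L) (hhom : ∀ a : M ⟶ L, a = 0) (hns : ¬ IsSplitEpi g) (φ : E ⟶ E) :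
    ∃ c : k, φ = scal k E c := by
  have := hS.mono_f
  have := hS.epi_g
  have hz : f ≫ φ ≫ g = 0 := hom_line_eq_zero hc hL hM hd _
  have hz' : (f ≫ φ) ≫ g = 0 := by rw [Category.assoc, hz]
  obtain ⟨c, hcc⟩ := exists_eq_scal hc hL one_pos (st_line hL) (hS.exact.lift (f ≫ φ) hz')
  refine ⟨c, sub_eq_zero.1 ?_⟩
  have h1 : f ≫ (φ - scal k E c) = 0 := by
    rw [Preadditive.comp_sub, sub_eq_zero, ← scal_natural, ← hcc]
    exact (hS.exact.lift_f _ hz').symm
  obtain ⟨ψ, hψ⟩ : ∃ ψ : M ⟶ E, g ≫ ψ = φ - scal k E c :=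
    ⟨hS.exact.desc _ h1, hS.exact.g_desc _ h1⟩
  obtain ⟨d, hd'⟩ := exists_eq_scal hc hM one_pos (st_line hM) (ψ ≫ g)
  have hd0 : d = 0 := by
    by_contra hne
    have := isIso_scal k M hne
    exact hns (IsSplitEpi.mk' ⟨inv (scal k M d) ≫ ψ, by
      rw [Category.assoc, hd', IsIso.inv_hom_id]⟩)
  have hψg : ψ ≫ g = 0 := by
    rw [hd', hd0]
    refine Groth.CohTwo.hom_ext_app fun W s => ?_
    rw [scal_app, map_zero]
    exact zero_smul _ s
  rw [← hψ, ← hS.exact.lift_f ψ hψg, hhom (hS.exact.lift ψ hψg), zero_comp, comp_zero]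

/-- A non-split extension with `Hom(M, L) ≠ 0` is indecomposable. -/
theorem indec_of_ext (hc : IsVBCurve k X) {L E M : X.Modules} (f : L ⟶ E) (g : E ⟶ M)
    (w : f ≫ g = 0) (hS : (ShortComplex.mk f g w).ShortExact)
    (hL : FlatMod.IsFinLocFreeOfRank 1 L) (hM : FlatMod.IsFinLocFreeOfRank 1 M)
    (a : M ⟶ L) (ha : a ≠ 0) (hns : ¬ IsSplitEpi g) : Indec E := by
  have hL' := Groth.LocFree.isFinLocFree_of_rank hL
  have hM' := Groth.LocFree.isFinLocFree_of_rank hM
  have hE := Groth.LocFree.isFinLocFreeOfRank_of_shortExact hS hL hM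
  have hE' := Groth.LocFree.isFinLocFree_of_rank hE
  have hdE := dg_add k hS hL' hM'
  dsimp only at hdE
  have hrE := rk_eq hE
  dsimp only at hrE
  have hle : dg k M ≤ dg k L := by
    by_contra h
    exact ha (hom_line_eq_zero hc hM hL (by omega) a)
  refine ⟨not_isZero_of_rank hE two_pos, fun E₁ E₂ ⟨e⟩ => ?_⟩
  by_contra hne
  rw [not_or] at hne
  have hb : FlatMod.IsFinLocFree (E₁ ⊞ E₂) := Groth.KTheory.LocFree.isFinLocFree_of_iso e hE'
  have : IsLocallyNoetherian X :=
    LocallyOfFiniteType.isLocallyNoetherian (X ↘ Spec (CommRingCat.of k))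
  have hcb := Groth.KTheory.LocFree.isCoh hb
  have := hcb.1
  have hsplit : (ShortComplex.mk (biprod.inl : E₁ ⟶ E₁ ⊞ E₂) biprod.snd biprod.inl_snd).ShortExact :=
    ShortComplex.Splitting.shortExact { r := biprod.fst, s := biprod.inr }
  have hq : ∀ (A : X.Modules) (i : A ⟶ E₁ ⊞ E₂) (r : E₁ ⊞ E₂ ⟶ A), i ≫ r = 𝟙 A →
      FlatMod.IsFinLocFree A := by
    intro A i r hir
    have : IsSplitMono i := IsSplitMono.mk' ⟨r, hir⟩
    have : IsSplitEpi r := IsSplitEpi.mk' ⟨i, hir⟩
    let q : E₁ ⊞ E₂ ⟶ E₁ ⊞ E₂ := r ≫ i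
    obtain ⟨K, I, i', p, j, w', -, -, hp, hj, hfac, -, -, hI, -, -, -⟩ := exists_image hc hb hb q
    have : StrongEpi r := inferInstance
    have : StrongEpi p := strongEpi_of_epi p
    have e1 : A ≅ I := (image.isoStrongEpiMono r i rfl) ≪≫ (image.isoStrongEpiMono p j hfac).symm
    exact Groth.KTheory.LocFree.isFinLocFree_of_iso e1.symm hI
  have h₁ := hq E₁ biprod.inl biprod.fst biprod.inl_fst
  have h₂ := hq E₂ biprod.inr biprod.snd biprod.inr_snd
  have hsum := rk_add hsplit h₁ h₂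
  have hdsum := dg_add k hsplit h₁ h₂
  dsimp only at hsum hdsum
  rw [← rk_eq_of_iso hE' e, hrE] at hsum
  rw [← dg_eq_of_iso k hE' e, hdE] at hdsum
  have p₁ : 0 < rk E₁ := Nat.pos_of_ne_zero fun h => hne.1 (isZero_of_rk_eq_zero h₁ h)
  have p₂ : 0 < rk E₂ := Nat.pos_of_ne_zero fun h => hne.2 (isZero_of_rk_eq_zero h₂ h)
  have r₁ : FlatMod.IsFinLocFreeOfRank 1 E₁ := by
    have := isFinLocFreeOfRank_rk h₁; rwa [show rk E₁ = 1 by omega] at this
  have r₂ : FlatMod.IsFinLocFreeOfRank 1 E₂ := by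
    have := isFinLocFreeOfRank_rk h₂; rwa [show rk E₂ = 1 by omega] at this
  have := hS.mono_f
  have hC : FlatMod.IsFinLocFree (cokernel f) := Groth.KTheory.LocFree.isFinLocFree_of_iso
    (IsColimit.coconePointUniqueUpToIso (cokernelIsCokernel f) hS.gIsCokernel).symm hM'
  have key : ∀ (A B : X.Modules) (iA : A ⟶ E) (pA : E ⟶ A) (iB : B ⟶ E) (pB : E ⟶ B),
      iA ≫ pA = 𝟙 A → iB ≫ pB = 𝟙 B → pA ≫ iA + pB ≫ iB = 𝟙 E →
      FlatMod.IsFinLocFreeOfRank 1 A → FlatMod.IsFinLocFreeOfRank 1 B →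
      dg k L ≤ dg k A := by
    intro A B iA pA iB pB hA hB hid rA rB
    by_contra h
    have hz : f ≫ pA = 0 := hom_line_eq_zero hc hL rA (by omega) _
    have hfac : (f ≫ pB) ≫ iB = f := by
      have h1 : f ≫ (pA ≫ iA + pB ≫ iB) = f := by rw [hid, Category.comp_id]
      rwa [Preadditive.comp_add, reassoc_of% hz, zero_comp, zero_add, ← Category.assoc] at h1
    have : IsSplitMono iB := IsSplitMono.mk' ⟨pB, hB⟩
    have hi := isIso_of_saturated hc iB f rB hL hC (f ≫ pB) hfac
    refine hns ?_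
    let σ := ShortComplex.Splitting.ofExactOfRetraction (ShortComplex.mk f g w) hS.exact
      (pB ≫ inv (f ≫ pB)) (by rw [← Category.assoc, IsIso.hom_inv_id]) hS.epi_g
    exact σ.isSplitEpi_g
  have t1 : e.hom ≫ biprod.fst ≫ biprod.inl ≫ e.inv + e.hom ≫ biprod.snd ≫ biprod.inr ≫ e.inv
      = 𝟙 E := by
    rw [← Preadditive.comp_add, ← Category.assoc biprod.fst, ← Category.assoc biprod.snd,
      ← Preadditive.add_comp, biprod.total, Category.id_comp, e.hom_inv_id]
  have hd1 := key E₁ E₂ (biprod.inl ≫ e.inv) (e.hom ≫ biprod.fst) (biprod.inr ≫ e.inv)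
    (e.hom ≫ biprod.snd) (by simp) (by simp) (by simpa only [Category.assoc] using t1) r₁ r₂
  have hd2 := key E₂ E₁ (biprod.inr ≫ e.inv) (e.hom ≫ biprod.snd) (biprod.inl ≫ e.inv)
    (e.hom ≫ biprod.fst) (by simp) (by simp)
    (by rw [add_comm]; simpa only [Category.assoc] using t1) r₂ r₁
  -- both projections restrict to isomorphisms on `L`
  have heq : dg k L = dg k E₁ := by omega
  have hnz : f ≫ e.hom ≫ biprod.fst ≠ 0 := by
    intro hz
    have hfac : (f ≫ e.hom ≫ biprod.snd) ≫ (biprod.inr ≫ e.inv) = f := by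
      have h1 : f ≫ (e.hom ≫ biprod.fst ≫ biprod.inl ≫ e.inv +
          e.hom ≫ biprod.snd ≫ biprod.inr ≫ e.inv) = f := by rw [t1, Category.comp_id]
      rw [Preadditive.comp_add, show f ≫ e.hom ≫ biprod.fst ≫ biprod.inl ≫ e.inv = 0 by
        rw [show f ≫ e.hom ≫ biprod.fst ≫ biprod.inl ≫ e.inv =
          (f ≫ e.hom ≫ biprod.fst) ≫ biprod.inl ≫ e.inv by simp only [Category.assoc], hz,
          zero_comp], zero_add] at h1
      simpa only [Category.assoc] using h1
    have hi := isIso_of_saturated hc (biprod.inr ≫ e.inv) f r₂ hL hC _ hfac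
    let σ := ShortComplex.Splitting.ofExactOfRetraction (ShortComplex.mk f g w) hS.exact
      ((e.hom ≫ biprod.snd) ≫ inv (f ≫ e.hom ≫ biprod.snd))
      (by rw [← Category.assoc, IsIso.hom_inv_id]) hS.epi_g
    exact hns σ.isSplitEpi_g
  obtain ⟨K, I, i, p, j, w', -, -, -, hj, hfac, hm, hK, hI, hr, -, hpos⟩ :=
    exists_image hc hL' h₁ (f ≫ e.hom ≫ biprod.fst)
  rw [rk_eq hL] at hr
  have := hpos hnz
  have := hm (by omega)
  have : Mono (f ≫ e.hom ≫ biprod.fst) := by rw [← hfac]; infer_instance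
  have := isIso_of_mono hc hL' h₁ (f ≫ e.hom ≫ biprod.fst) (by rw [rk_eq hL, rk_eq r₁]) heq
  let σ := ShortComplex.Splitting.ofExactOfRetraction (ShortComplex.mk f g w) hS.exact
    ((e.hom ≫ biprod.fst) ≫ inv (f ≫ e.hom ≫ biprod.fst))
    (by rw [← Category.assoc, IsIso.hom_inv_id]) hS.epi_g
  exact hns σ.isSplitEpi_g

/-- With all slopes of subbundles non-positive there are at most `rank` sections. -/
theorem h0_le_rank (hc : IsVBCurve k X)
    (h1 : Module.finrank k (Coh.HH X (Coh.structureModule X) 0) = 1) :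
    ∀ (r : ℕ) (E : X.Modules), FlatMod.IsFinLocFree E → rk E = r → Bnd k E 0 1 →
      Module.finrank k (Coh.HH X E 0) ≤ r := by
  intro r
  induction r with
  | zero =>
    intro E hE h0 _
    have hz := isZero_of_rk_eq_zero hE h0
    have : Subsingleton Γ(E, ⊤) := by
      refine subsingleton_of_forall_eq 0 fun s => ?_
      have := congr(($(hz.eq_of_src (𝟙 E) 0)).app ⊤ s)
      exact this
    have := (Groth.EulerDeg.h0Equiv k E).toEquiv.subsingleton
    rw [Module.finrank_zero_of_subsingleton]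
  | succ r ih =>
    intro E hE hr hB
    rcases Nat.eq_zero_or_pos (Module.finrank k (Coh.HH X E 0)) with h0 | h0
    · omega
    have := Module.nontrivial_of_finrank_pos h0
    obtain ⟨x, hx⟩ := exists_ne (0 : Coh.HH X E 0)
    obtain ⟨m, hm0⟩ : ∃ m : Γ(E, ⊤), m ≠ 0 :=
      ⟨Groth.EulerDeg.h0Equiv k E x, (Groth.EulerDeg.h0Equiv k E).map_ne_zero_iff.mpr hx⟩
    have hO := Groth.LocFree.isFinLocFreeOfRank_unit X
    have hO' := Groth.LocFree.isFinLocFree_of_rank hO
    have hOd : dg k (Coh.structureModule X) = 0 := by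
      rw [← dg_eq k hO]; exact Groth.EulerDeg.deg_structure k
    let f := Groth.QCohMod.secHom E m
    have hf : f ≠ 0 := fun h => hm0 <| by
      have := (Groth.QCohMod.secHom_app_one E m ⊤).symm.trans
        (congrArg (fun t => t.app ⊤ (Groth.QCohMod.oneSec ⊤)) h)
      exact (Groth.QCohMod.res_self E m).symm.trans this
    obtain ⟨K, I, i, p, j, w, -, -, -, hj, hfac, hm, hK, hI, hrk, -, hpos⟩ :=
      exists_image hc hO' hE f
    rw [rk_eq hO] at hrk
    have := hpos hf
    have := hm (by omega)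
    have : Mono f := by rw [← hfac]; infer_instance
    obtain ⟨G', Q, s, i', q, w', hS, -, hsm, hG', hQ, hrk'⟩ := exists_saturation hc hE hO' f
    have hi' : Mono i' := hS.mono_f
    rw [rk_eq hO] at hrk'
    have hle := hB G' i' hi' hG' (by omega)
    have hle' := dg_le_of_mono k hc.dim.le hO' hG' s (by rw [rk_eq hO, hrk'])
    rw [hOd] at hle'
    have hd : dg k G' = 0 := by
      simp only [Nat.cast_one, mul_one, zero_mul] at hle
      omega
    have : IsIso s := hle'.2.1 hd.symm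
    have hr' := rk_add hS hG' hQ
    dsimp only at hr'
    have hQB : Bnd k Q 0 1 :=
      (Bnd.quot i' hG' (by simp [hd]) hB).of_iso
        (IsColimit.coconePointUniqueUpToIso (cokernelIsCokernel i') hS.gIsCokernel).symm
    have hQr := ih Q hQ (by omega) hQB
    have := Groth.EulerDeg.finite_HH k X (Groth.KTheory.LocFree.isCoh hE) 0
    have := Groth.EulerDeg.finite_HH k X (Groth.KTheory.LocFree.isCoh hQ) 0
    have hinj := Groth.EulerDeg.injective_zero k hS
    have h2 := LinearMap.finrank_range_add_finrank_ker (Groth.EulerDeg.hMap k q 0)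
    have h3 := Submodule.finrank_le (LinearMap.range (Groth.EulerDeg.hMap k q 0))
    have h4 : LinearMap.ker (Groth.EulerDeg.hMap k q 0) =
        LinearMap.range (Groth.EulerDeg.hMap k i' 0) :=
      LinearMap.exact_iff.1 (Groth.EulerDeg.exact_mid k hS 0)
    rw [h4, LinearMap.finrank_range_of_inj hinj] at h2
    have h5 : Module.finrank k (Coh.HH X G' 0) = 1 :=
      (Groth.EulerDeg.finrank_congr (asIso s) 0).symm.trans h1
    dsimp only at h2 h3
    omega

end Groth.VBCurves
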