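import Groth.Agent.VBCurves.DualityApps
import Groth.Agent.VBCurves.LineExt
import Groth.Agent.Duality.SheafHomExt
import Groth.Agent.Duality.SheafHomTwist
import Groth.Agent.CohTwo.HomDepth
import Groth.Agent.VarietyBC.CurveDeg

/-!
# Euler characteristic of homomorphisms between vector bundles on a curve

`dim Hom(P, F) - dim Ext¹(P, F) = rk P · deg F - rk F · deg P + rk P · rk F · (1 - g)`.
-/

set_option autoImplicit false
set_option linter.unusedSectionVars false
set_option linter.style.haveILetI false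

universe u

open CategoryTheory CategoryTheory.Limits AlgebraicGeometry TopologicalSpace
open CategoryTheory.Abelian (Ext)
open scoped Groth.CurveBridge

namespace Groth.VBCurves.HomEuler

variable {k : Type u} [Field k] {X : Scheme.{u}} [X.Over (Spec (CommRingCat.of k))]
  [IsIntegral X] [IsProper (X ↘ Spec (CommRingCat.of k))]

theorem deg_inverse (hc : IsVBCurve k X) {L M : X.Modules} (hL : PicF.IsInvertible L)
    (hM : PicF.IsInvertible M) (h : ClSub.IsInverseOf L M) :
    Curv2.deg k X M 1 = -Curv2.deg k X L 1 := by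
  obtain ⟨i⟩ := h
  have h2 := Groth.EulerDeg.deg_tensor_invertible k hc.dim.le hL hM
  have h3 : Curv2.deg k X (CohB1.tensorMod L M) 1 = 0 := by
    rw [Groth.EulerDeg.deg_congr k i 1]
    exact Groth.EulerDeg.deg_structure k
  linarith

theorem tw_map_smulMod (N : X.Modules) (E : X.Modules) (r : Coh.Γtop X) :
    (tw N).map (Formal.smulModΓ E r) = Formal.smulModΓ ((tw N).obj E) r := by
  refine Groth.PicAux.tensor_hom_ext fun W a l => ?_
  refine (Groth.PicAux.tensorRightMod_map_tmulSec N _ W a l).trans ?_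
  rw [KLin.smulModΓ_app_apply]
  exact (Groth.PicAux.tmulSec_smul_left _ a l).trans
    (KLin.smulModΓ_app_apply ((tw N).obj E) r W (Groth.PicAux.tmulSec a l)).symm

/-- Twisting by an invertible module is linear on morphisms. -/
noncomputable def twHom (M : X.Modules) [(tw M).IsEquivalence] [(tw M).Additive] (P L : X.Modules) :
    (P ⟶ L) ≃ₗ[k] ((tw M).obj P ⟶ (tw M).obj L) :=
  LinearEquiv.ofBijective
    { toFun := fun f => (tw M).map f
      map_add' := fun f g => (tw M).map_add
      map_smul' := fun a f => by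
        rw [RingHom.id_apply, KLin.smul_def, KLin.smul_def, Functor.map_comp]
        exact congrArg (· ≫ (tw M).map f) (tw_map_smulMod M P _) }
    ⟨fun f g h => (tw M).map_injective h, fun g => (tw M).map_surjective g⟩

/-- `Hom(E, ω)` is dual to `H¹(E)`. -/
theorem finrank_hom_omega (hc : IsVBCurve k X) {ω : X.Modules} (hω : IsDualizing k ω)
    {E : X.Modules} (hE : FlatMod.IsFinLocFree E) :
    Module.finrank k (E ⟶ ω) = Module.finrank k (Coh.HH X E 1) := by
  have := hω.nontrivial
  obtain ⟨y, hy⟩ := exists_ne (0 : Coh.HH X ω 1)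
  obtain ⟨res, hres⟩ := exists_dual_apply_ne_zero (k := k) hy
  have hres0 : res ≠ 0 := fun h0 => hres (LinearMap.congr_fun h0 y)
  have := Groth.EulerDeg.finite_HH k X (Groth.KTheory.LocFree.isCoh hE) 1
  let T : (E ⟶ ω) →ₗ[k] Module.Dual k (Coh.HH X E 1) :=
    { toFun := fun f => res ∘ₗ Groth.EulerDeg.hMap k f 1
      map_add' := fun f g => by rw [hMap_add, LinearMap.comp_add]
      map_smul' := fun a f => by
        refine LinearMap.ext fun x => ?_
        rw [RingHom.id_apply, KLin.smul_def, Groth.EulerDeg.hMap_comp, LinearMap.smul_apply,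
          LinearMap.comp_apply, LinearMap.comp_apply, LinearMap.comp_apply, ← map_smul,
          ← map_smul]
        rfl }
  have hT : Function.Bijective T :=
    ⟨(injective_iff_map_eq_zero T).2 fun f hf => by
      by_contra hne
      exact comp_ne_zero hc hω.inv hE hres0 hne hf,
     fun ξ => hω.exists_hom hc hE hres0 ξ⟩
  rw [(LinearEquiv.ofBijective T hT).finrank_eq, Subspace.dual_finrank_eq]

/-- The Euler characteristic of the structure module. -/
theorem euler_structure_of (hc : IsVBCurve k X) {ω : X.Modules} (hω : IsDualizing k ω) :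
    Curv2.euler k X (Coh.structureModule X) = 1 - Curv2.genus k X := by
  let O := Coh.structureModule X
  have hO : ClSub.IsInverseOf O O := ⟨SecTwist.unitorR O⟩
  have := Groth.Duality.SheafHom.hasSheafHom O
  have := Groth.PicAux.isEquivalence_tensorRightMod_of_isInvertible hω.inv
  have : PreservesBinaryBiproducts (tw ω) :=
    preservesBinaryBiproducts_of_preservesBinaryProducts (tw ω)
  have := Functor.additive_of_preservesBinaryBiproducts (tw ω)
  let u : (tw ω).obj O ≅ ω := (Groth.PicAux.exists_leftUnitor ω).choose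
  have h1 : Module.finrank k (Coh.HH X O 0) = 1 := by
    rw [← (Groth.EulerDeg.hEquiv k (((Groth.Duality.SheafHom.sheafHomIsoTensor hO).app O) ≪≫
        SecTwist.unitorR O) 0).finrank_eq,
      ← (Groth.Duality.SheafHom.homH0 O k O).finrank_eq, (twHom (k := k) ω O O).finrank_eq,
      (Linear.homCongr k u u).finrank_eq, finrank_hom_omega hc hω hω.isFinLocFree, hω.h1_eq]
  rw [Groth.EulerDeg.euler_structure k X hc.dim.le, h1]
  push_cast
  ring

/-- An epimorphism from copies of a line bundle of very negative degree. -/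
theorem exists_epi_of_line_neg (hc : IsVBCurve k X) {E : X.Modules} (hE : FlatMod.IsFinLocFree E)
    (b : ℤ) :
    ∃ (N : X.Modules) (m : ℕ) (p : (tw N).obj (FlatMod.freeMod X m) ⟶ E),
      PicF.IsInvertible N ∧ Curv2.deg k X N 1 < b ∧ Epi p := by
  have : IsNoetherian X := Groth.EulerDeg.isNoetherian_of_proper k X
  have : X.IsSeparated :=
    ⟨(terminal.comp_from (X ↘ Spec (CommRingCat.of k))) ▸ inferInstance⟩
  obtain ⟨L, hL⟩ := Groth.VarietyBC.CurveProj.exists_ample X hc.dim.le
  have hdL := (Groth.VarietyBC.CurveDeg.isAmple_iff_deg_pos k hc.dim hL.1).1 hL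
  have hcoh := Groth.KTheory.LocFree.isCoh hE
  have := hcoh.1
  obtain ⟨n₀, hn⟩ := Groth.Ega2Proj.exists_spans_twist hL E hcoh.2
  let n := n₀ + (|b| + 1).toNat
  have hP := Groth.PicAux.isInvertible_tensorPow hL.1 n
  have hdeg : ∀ j : ℕ, Curv2.deg k X (CohB1.tensorPow L j) 1 = (j : ℤ) * Curv2.deg k X L 1 := by
    intro j
    induction j with
    | zero => rw [Nat.cast_zero, zero_mul]; exact Groth.EulerDeg.deg_structure (X := X) k
    | succ j ih =>
      show Curv2.deg k X (CohB1.tensorMod (CohB1.tensorPow L j) L) 1 = _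
      rw [Groth.EulerDeg.deg_tensor_invertible k hc.dim.le
        (Groth.PicAux.isInvertible_tensorPow hL.1 j) hL.1, ih]
      push_cast; ring
  have hG : Coh.IsCoh ((tw (CohB1.tensorPow L n)).obj E) :=
    Groth.KTheory.LocFree.isCoh (isFinLocFree_tw hP hE)
  have := hG.1
  obtain ⟨m, q, hq⟩ :=
    Groth.Ega2Proj.exists_epi_freeMod_of_spans _ hG.2 (hn n (Nat.le_add_right _ _))
  obtain ⟨N, hN, hinv⟩ := Groth.PicAux.exists_isInverseOf hP
  have : (tw N).IsEquivalence := Groth.PicAux.isEquivalence_tensorRightMod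
    (Groth.PicAux.isInverseOf_symm hinv)
  obtain ⟨a, -⟩ := Groth.PicAux.exists_associator E (CohB1.tensorPow L n) N
  obtain ⟨i⟩ := id hinv
  let e : (tw N).obj ((tw (CohB1.tensorPow L n)).obj E) ≅ E :=
    a ≪≫ PicGrp.tensorModIso (Iso.refl E) i ≪≫ SecTwist.unitorR E
  have : Epi ((tw N).map q) := (tw N).map_epi q
  refine ⟨N, m, (tw N).map q ≫ e.hom, hN, ?_, epi_comp _ _⟩
  rw [deg_inverse hc hP hN hinv, hdeg]
  have h1 : (n : ℤ) ≥ |b| + 1 := by
    simp only [n, Nat.cast_add]
    have := Int.self_le_toNat (|b| + 1)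
    have := Int.natCast_nonneg n₀
    linarith
  have h2 : (n : ℤ) ≤ (n : ℤ) * Curv2.deg k X L 1 :=
    le_mul_of_one_le_right (Int.natCast_nonneg n) hdL
  have := neg_abs_le b
  linarith

/-- A vector bundle of positive rank has a saturated line subbundle. -/
theorem exists_line_ses (hc : IsVBCurve k X) {E : X.Modules} (hE : FlatMod.IsFinLocFree E)
    (hpos : 0 < rk E) :
    ∃ (G Q : X.Modules) (i : G ⟶ E) (q : E ⟶ Q) (w : i ≫ q = 0),
      (ShortComplex.mk i q w).ShortExact ∧ FlatMod.IsFinLocFreeOfRank 1 G ∧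
        FlatMod.IsFinLocFree Q ∧ rk Q + 1 = rk E := by
  classical
  obtain ⟨N, m, p, hN, hp⟩ := exists_epi_of_line hc hE
  let M : Fin m → X.Modules := fun _ => Coh.structureModule X
  obtain ⟨l, hl⟩ : ∃ l, (tw N).map (Sigma.ι M l) ≫ p ≠ 0 := by
    by_contra hall
    push Not at hall
    have := Groth.PicAux.isEquivalence_tensorRightMod_of_isInvertible hN
    have : PreservesBinaryBiproducts (tw N) :=
      preservesBinaryBiproducts_of_preservesBinaryProducts (tw N)
    have := Functor.additive_of_preservesBinaryBiproducts (tw N)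
    have h2 : (tw N).map (𝟙 (∐ M)) ≫ p = 0 := by
      rw [← sum_proj_ι M]
      simp only [Functor.map_sum, Preadditive.sum_comp, Functor.map_comp, Category.assoc, hall,
        comp_zero, Finset.sum_const_zero]
    rw [CategoryTheory.Functor.map_id] at h2
    have hp0 : p = 0 := (Category.id_comp p).symm.trans h2
    have hz : IsZero E := (IsZero.iff_id_eq_zero E).2 (by rw [← cancel_epi p, hp0]; simp)
    exact not_isZero_of_rank (isFinLocFreeOfRank_rk hE) hpos hz
  have hline1 : FlatMod.IsFinLocFreeOfRank 1 ((tw N).obj (M l)) :=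
    Groth.LocFree.isInvertible_iff_ofRank_one.1 (Groth.PicAux.isInvertible_tensorMod
      (Groth.EulerDeg.isInvertible_structureModule X) hN)
  obtain ⟨K, I, i, p', j, w, -, -, -, hj, -, -, hK, hI, hr, -, hI0⟩ :=
    exists_image hc (Groth.LocFree.isFinLocFree_of_rank hline1) hE ((tw N).map (Sigma.ι M l) ≫ p)
  rw [rk_eq hline1] at hr
  have := hI0 hl
  obtain ⟨G, Q, σ, i', q, w', hS, -, -, hG, hQ, hrG⟩ := exists_saturation hc hE hI j
  have hG1 : rk G = 1 := by omega
  have hr2 := rk_add hS hG hQ
  dsimp only at hr2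
  refine ⟨G, Q, i', q, w', hS, ?_, hQ, by omega⟩
  have := isFinLocFreeOfRank_rk hG
  rwa [hG1] at this

section Line

variable [HasExt.{u} X.Modules]

theorem finite_ext (hc : IsVBCurve k X) {P M : X.Modules} (hP : FlatMod.IsFinLocFree P)
    (hM : Coh.IsCoh M) (i : ℕ) : Module.Finite k (Ext P M i) := by
  have : IsLocallyNoetherian X :=
    LocallyOfFiniteType.isLocallyNoetherian (X ↘ Spec (CommRingCat.of k))
  have := Groth.Duality.SheafHom.hasSheafHom P
  obtain ⟨e⟩ := Groth.Duality.SheafHom.nonempty_ext_linearEquiv k P hP i M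
  have := Groth.EulerDeg.finite_HH k X
    (Groth.CohTwo.HomDepth.isCoh_sheafHom (Groth.KTheory.LocFree.isCoh hP) hM) i
  exact Module.Finite.equiv e.symm

theorem finite_hom' (hc : IsVBCurve k X) {P M : X.Modules} (hP : FlatMod.IsFinLocFree P)
    (hM : Coh.IsCoh M) : Module.Finite k (P ⟶ M) :=
  have := finite_ext (k := k) hc hP hM 0
  Module.Finite.equiv (Ext.linearEquiv₀ (R := k))

/-- `Ext¹` of very negative sums of lines vanishes. -/
theorem ext_eq_zero_of_neg (hc : IsVBCurve k X) {ω : X.Modules} (hω : IsDualizing k ω)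
    {N L : X.Modules} (hN : PicF.IsInvertible N) (m : ℕ) (hL : PicF.IsInvertible L)
    (hd : Curv2.deg k X N 1 < Curv2.deg k X L 1 - (2 * (Curv2.genus k X : ℤ) - 2))
    (α : Ext ((tw N).obj (FlatMod.freeMod X m)) L 1) : α = 0 := by
  classical
  have := Groth.PicAux.isEquivalence_tensorRightMod_of_isInvertible hN
  have : PreservesBinaryBiproducts (tw N) :=
    preservesBinaryBiproducts_of_preservesBinaryProducts (tw N)
  have := Functor.additive_of_preservesBinaryBiproducts (tw N)
  let C : Fin m → X.Modules := fun _ => Coh.structureModule X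
  let π : Fin m → (∐ C ⟶ Coh.structureModule X) := fun i =>
    Sigma.desc fun j => if h : j = i then eqToHom (congrArg C h) else 0
  have hid : ∑ i, (tw N).map (π i) ≫ (tw N).map (Sigma.ι C i) =
      𝟙 ((tw N).obj (FlatMod.freeMod X m)) := by
    simp only [← Functor.map_comp, ← Functor.map_sum]
    rw [show (∑ i, π i ≫ Sigma.ι C i) = 𝟙 _ from sum_proj_ι C]
    exact (tw N).map_id _
  have hN' : PicF.IsInvertible ((tw N).obj (Coh.structureModule X)) :=
    Groth.PicAux.isInvertible_tensorMod (Groth.EulerDeg.isInvertible_structureModule X) hN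
  have hdN' : Curv2.deg k X ((tw N).obj (Coh.structureModule X)) 1 = Curv2.deg k X N 1 :=
    (Groth.EulerDeg.deg_tensor_invertible k hc.dim.le
      (Groth.EulerDeg.isInvertible_structureModule X) hN).trans
      (by rw [Groth.EulerDeg.deg_structure (X := X) k, zero_add])
  have hzero : Subsingleton (Ext ((tw N).obj (Coh.structureModule X)) L 1) := by
    have := Groth.Duality.SheafHom.hasSheafHom ((tw N).obj (Coh.structureModule X))
    obtain ⟨e⟩ := Groth.Duality.SheafHom.nonempty_ext_linearEquiv k _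
      (Groth.LocFree.isFinLocFree_of_rank (Groth.LocFree.isInvertible_iff_ofRank_one.1 hN')) 1 L
    obtain ⟨N'', hN''i, hinv''⟩ := Groth.PicAux.exists_isInverseOf hN'
    have hLN := Groth.PicAux.isInvertible_tensorMod hL hN''i
    have hLN1 := Groth.LocFree.isInvertible_iff_ofRank_one.1 hLN
    have hs : Subsingleton (Coh.HH X (CohB1.tensorMod L N'') 1) := by
      refine subsingleton_h1_of_ss hc hω (Groth.LocFree.isFinLocFree_of_rank hLN1)
        (St.ss hc (Groth.LocFree.isFinLocFree_of_rank hLN1) (st_line hLN1)) ?_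
      rw [rk_eq hLN1, ← dg_eq k hLN1,
        Groth.EulerDeg.deg_tensor_invertible k hc.dim.le hL hN''i,
        deg_inverse hc hN' hN''i hinv'', hdN']
      push_cast
      linarith
    exact (e ≪≫ₗ Groth.EulerDeg.hEquiv k
      ((Groth.Duality.SheafHom.sheafHomIsoTensor hinv'').app L) 1).toEquiv.subsingleton_congr.2 hs
  let φ : ((tw N).obj (FlatMod.freeMod X m) ⟶ (tw N).obj (FlatMod.freeMod X m)) →+
      Ext ((tw N).obj (FlatMod.freeMod X m)) L 1 :=
    AddMonoidHom.mk' (fun f => (Ext.mk₀ f).comp α (zero_add 1)) fun f g => by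
      rw [Ext.mk₀_add, Ext.add_comp]
  have h1 : φ (𝟙 _) = α := Ext.mk₀_id_comp α
  rw [← h1, ← hid, map_sum]
  refine Finset.sum_eq_zero fun i _ => ?_
  change (Ext.mk₀ ((tw N).map (π i) ≫ (tw N).map (Sigma.ι C i))).comp α (zero_add 1) = 0
  rw [← Ext.mk₀_comp_mk₀_assoc, Subsingleton.elim ((Ext.mk₀ ((tw N).map (Sigma.ι C i))).comp α
    (zero_add 1)) 0, Ext.comp_zero]

/-- Very negative sums of lines have no sections after a twist. -/
theorem sections_eq_zero_of_neg (hc : IsVBCurve k X) {N M : X.Modules} (hN : PicF.IsInvertible N)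
    (m : ℕ) (hM : PicF.IsInvertible M) (hd : Curv2.deg k X N 1 + Curv2.deg k X M 1 < 0)
    (σ : Coh.structureModule X ⟶ (tw M).obj ((tw N).obj (FlatMod.freeMod X m))) : σ = 0 := by
  classical
  have := Groth.PicAux.isEquivalence_tensorRightMod_of_isInvertible hN
  have := Groth.PicAux.isEquivalence_tensorRightMod_of_isInvertible hM
  have : PreservesBinaryBiproducts (tw N) :=
    preservesBinaryBiproducts_of_preservesBinaryProducts (tw N)
  have := Functor.additive_of_preservesBinaryBiproducts (tw N)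
  have : PreservesBinaryBiproducts (tw M) :=
    preservesBinaryBiproducts_of_preservesBinaryProducts (tw M)
  have := Functor.additive_of_preservesBinaryBiproducts (tw M)
  let C : Fin m → X.Modules := fun _ => Coh.structureModule X
  let π : Fin m → (∐ C ⟶ Coh.structureModule X) := fun i =>
    Sigma.desc fun j => if h : j = i then eqToHom (congrArg C h) else 0
  have hid : ∑ i, (tw M).map ((tw N).map (π i)) ≫ (tw M).map ((tw N).map (Sigma.ι C i)) =
      𝟙 ((tw M).obj ((tw N).obj (FlatMod.freeMod X m))) := by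
    simp only [← Functor.map_comp, ← Functor.map_sum]
    rw [show (∑ i, π i ≫ Sigma.ι C i) = 𝟙 _ from sum_proj_ι C, CategoryTheory.Functor.map_id]
    exact (tw M).map_id _
  have hO := Groth.EulerDeg.isInvertible_structureModule X
  have hN' : PicF.IsInvertible ((tw N).obj (Coh.structureModule X)) :=
    Groth.PicAux.isInvertible_tensorMod hO hN
  rw [← Category.comp_id σ, ← hid, Preadditive.comp_sum]
  refine Finset.sum_eq_zero fun i _ => ?_
  have hNM : FlatMod.IsFinLocFreeOfRank 1 ((tw M).obj ((tw N).obj (Coh.structureModule X))) :=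
    Groth.LocFree.isInvertible_iff_ofRank_one.1 (Groth.PicAux.isInvertible_tensorMod hN' hM)
  have hdeg : Curv2.deg k X ((tw M).obj ((tw N).obj (Coh.structureModule X))) 1 =
      Curv2.deg k X N 1 + Curv2.deg k X M 1 := by
    refine (Groth.EulerDeg.deg_tensor_invertible k hc.dim.le hN' hM).trans ?_
    rw [show Curv2.deg k X ((tw N).obj (Coh.structureModule X)) 1 = Curv2.deg k X N 1 from
      (Groth.EulerDeg.deg_tensor_invertible k hc.dim.le hO hN).trans
        (by rw [Groth.EulerDeg.deg_structure (X := X) k, zero_add])]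
  have h := hom_line_eq_zero hc (Groth.LocFree.isInvertible_iff_ofRank_one.1 hO) hNM (by
    rw [← dg_eq k (Groth.LocFree.isInvertible_iff_ofRank_one.1 hO), ← dg_eq k hNM,
      Groth.EulerDeg.deg_structure (X := X) k, hdeg]
    exact hd) (σ ≫ (tw M).map ((tw N).map (π i)))
  rw [← Category.assoc, h, zero_comp]

set_option maxHeartbeats 1600000 in
/-- The formula for a line bundle as target. -/
theorem hom_sub_ext_line (hc : IsVBCurve k X) {ω : X.Modules} (hω : IsDualizing k ω)
    {P L : X.Modules} (hP : FlatMod.IsFinLocFree P) (hL : PicF.IsInvertible L) :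
    (Module.finrank k (P ⟶ L) : ℤ) - Module.finrank k (Ext P L 1) =
      (rk P : ℤ) * Curv2.deg k X L 1 - dg k P + (rk P : ℤ) * (1 - Curv2.genus k X) := by
  classical
  have : IsNoetherian X := Groth.EulerDeg.isNoetherian_of_proper k X
  have hL1 := Groth.LocFree.isInvertible_iff_ofRank_one.1 hL
  have hL' := Groth.LocFree.isFinLocFree_of_rank hL1
  have hLc := Groth.KTheory.LocFree.isCoh hL'
  -- the twist carrying `L` to `ω`
  obtain ⟨L', hL'i, hinvL⟩ := Groth.PicAux.exists_isInverseOf hL
  let M := CohB1.tensorMod L' ω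
  have hM : PicF.IsInvertible M := Groth.PicAux.isInvertible_tensorMod hL'i hω.inv
  have hdM : Curv2.deg k X M 1 = 2 * (Curv2.genus k X : ℤ) - 2 - Curv2.deg k X L 1 := by
    rw [Groth.EulerDeg.deg_tensor_invertible k hc.dim.le hL'i hω.inv,
      deg_inverse hc hL hL'i hinvL, hω.deg]
    ring
  have := Groth.PicAux.isEquivalence_tensorRightMod_of_isInvertible hM
  have : PreservesBinaryBiproducts (tw M) :=
    preservesBinaryBiproducts_of_preservesBinaryProducts (tw M)
  have := Functor.additive_of_preservesBinaryBiproducts (tw M)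
  obtain ⟨eω⟩ : Nonempty ((tw M).obj L ≅ ω) := by
    obtain ⟨i⟩ := hinvL
    exact ⟨(Groth.PicAux.exists_associator L L' ω).choose.symm ≪≫
      PicGrp.tensorModIso i (Iso.refl ω) ≪≫ (Groth.PicAux.exists_leftUnitor ω).choose⟩
  have hhom : ∀ {Y : X.Modules}, FlatMod.IsFinLocFree Y →
      Module.finrank k (Y ⟶ L) = Module.finrank k (Coh.HH X ((tw M).obj Y) 1) := fun {Y} hY => by
    rw [(twHom (k := k) M Y L).finrank_eq,
      (Linear.homCongr k (Iso.refl ((tw M).obj Y)) eω).finrank_eq]
    exact finrank_hom_omega hc hω (isFinLocFree_tw hM hY)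
  -- a very negative presentation
  obtain ⟨N, m, p, hN, hdN, hp⟩ := exists_epi_of_line_neg hc hP
    (min (-Curv2.deg k X M 1) (Curv2.deg k X L 1 - (2 * (Curv2.genus k X : ℤ) - 2)))
  rw [lt_min_iff] at hdN
  let W := (tw N).obj (FlatMod.freeMod X m)
  have hW : FlatMod.IsFinLocFree W := isFinLocFree_tw hN
    (Groth.LocFree.isFinLocFree_of_rank (Groth.LocFree.isFinLocFreeOfRank_freeMod X m))
  have hExt : ∀ α : Ext W L 1, α = 0 := ext_eq_zero_of_neg hc hω hN m hL (by linarith)
  have hW0 : ∀ σ : Coh.structureModule X ⟶ (tw M).obj W, σ = 0 :=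
    sections_eq_zero_of_neg hc hN m hM (by linarith)
  -- the kernel
  let K := kernel p
  have hKc : FlatMod.IsFinLocFree K := isFinLocFree_of_mono hc.pid (kernel.ι p)
    (haveI := (Groth.KTheory.LocFree.isCoh hP).1
     Groth.QCohMod.isCoh_kernel p (Groth.KTheory.LocFree.isCoh hW)) hW
  have hS : (ShortComplex.mk (kernel.ι p) p (kernel.condition p)).ShortExact :=
    { exact := ShortComplex.exact_kernel p }
  have := finite_hom' (k := k) hc hP hLc
  have := finite_hom' (k := k) hc hW hLc
  have := finite_hom' (k := k) hc hKc hLc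
  have := finite_ext (k := k) hc hP hLc 1
  let rP : (P ⟶ L) →ₗ[k] (W ⟶ L) := Linear.leftComp k L p
  let rK : (W ⟶ L) →ₗ[k] (K ⟶ L) := Linear.leftComp k L (kernel.ι p)
  let δ : (K ⟶ L) →ₗ[k] Ext P L 1 :=
    { toFun := fun f => hS.extClass.comp (Ext.mk₀ f) rfl
      map_add' := fun f g => by rw [Ext.mk₀_add, Ext.comp_add]
      map_smul' := fun a f => by
        rw [RingHom.id_apply, Ext.mk₀_smul, Ext.comp_smul] }
  have hδsurj : Function.Surjective δ := fun x => by
    obtain ⟨x₁, hx₁⟩ := Ext.contravariant_sequence_exact₃ hS L x (hExt _) (n₀ := 0) rfl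
    obtain ⟨f, rfl⟩ := (Ext.mk₀_bijective _ _).2 x₁
    exact ⟨f, hx₁⟩
  have hδ : LinearMap.ker δ = LinearMap.range rK := by
    ext f
    constructor
    · intro hf
      obtain ⟨x₂, hx₂⟩ := Ext.contravariant_sequence_exact₁ hS L (Ext.mk₀ f) (n₁ := 1) rfl
        (show hS.extClass.comp (Ext.mk₀ f) rfl = 0 from hf)
      obtain ⟨g, rfl⟩ := (Ext.mk₀_bijective _ _).2 x₂
      rw [Ext.mk₀_comp_mk₀] at hx₂
      exact ⟨g, (Ext.mk₀_bijective _ _).1 hx₂⟩
    · rintro ⟨g, rfl⟩
      change hS.extClass.comp (Ext.mk₀ (kernel.ι p ≫ g)) rfl = 0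
      rw [← Ext.mk₀_comp_mk₀]
      exact ShortComplex.ShortExact.extClass_comp_assoc hS (Ext.mk₀ g)
  have hK' : LinearMap.ker rK = LinearMap.range rP := by
    ext g
    constructor
    · intro hg
      exact ⟨Abelian.epiDesc p g (show kernel.ι p ≫ g = 0 from hg), Abelian.comp_epiDesc p g _⟩
    · rintro ⟨h, rfl⟩
      change kernel.ι p ≫ p ≫ h = 0
      rw [kernel.condition_assoc, zero_comp]
  have hPinj : Function.Injective rP := fun a b h => (cancel_epi p).1 h
  have d1 := δ.finrank_range_add_finrank_ker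
  rw [LinearMap.range_eq_top.2 hδsurj, finrank_top, hδ] at d1
  have d2 := rK.finrank_range_add_finrank_ker
  rw [hK', LinearMap.finrank_range_of_inj hPinj] at d2
  -- Riemann–Roch for the twisted sequence
  have hS' : ((ShortComplex.mk (kernel.ι p) p (kernel.condition p)).map (tw M)).ShortExact :=
    Groth.PicAux.shortExact_tensorRightMod hM hS
  have hrr : ∀ {Y : X.Modules}, FlatMod.IsFinLocFree Y →
      (Module.finrank k (Coh.HH X Y 0) : ℤ) - Module.finrank k (Coh.HH X Y 1) =
        Curv2.euler k X Y := fun {Y} _ =>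
    (Groth.EulerDeg.euler_eq_sub (k := k) (M := Y) fun n hn =>
      Groth.EulerDeg.subsingleton_HH_of_dim_le_one X hc.dim.le Y n hn).symm
  have hW0' : Subsingleton (Coh.HH X ((tw M).obj W) 0) := by
    refine subsingleton_of_forall_eq 0 fun x => (Groth.EulerDeg.h0Equiv k _).injective ?_
    rw [map_zero, ← Groth.PicAux.homOfSection_one (Groth.EulerDeg.h0Equiv k _ x),
      hW0 (Groth.PicAux.homOfSection _)]
    rfl
  have hK0 : Subsingleton (Coh.HH X ((tw M).obj K) 0) :=
    @Function.Injective.subsingleton _ _ _ (Groth.EulerDeg.injective_zero k hS') hW0'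
  have hadd := Groth.EulerDeg.euler_add hS'
    (Groth.EulerDeg.finCoh k X (Groth.KTheory.LocFree.isCoh (isFinLocFree_tw hM hKc)))
    (Groth.EulerDeg.finCoh k X (Groth.KTheory.LocFree.isCoh (isFinLocFree_tw hM hP)))
  change Curv2.euler k X ((tw M).obj W) =
    Curv2.euler k X ((tw M).obj K) + Curv2.euler k X ((tw M).obj P) at hadd
  rw [← hrr (isFinLocFree_tw hM hW), ← hrr (isFinLocFree_tw hM hKc),
    Groth.EulerDeg.finrank_eq_zero_of_subsingleton hW0',
    Groth.EulerDeg.finrank_eq_zero_of_subsingleton hK0, ← hhom hW, ← hhom hKc] at hadd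
  obtain ⟨hr, hd⟩ := tw_numerics (k := k) hc hM hP
  have hχ : Curv2.euler k X ((tw M).obj P) =
      dg k P + (rk P : ℤ) * Curv2.deg k X M 1 + (rk P : ℤ) * (1 - Curv2.genus k X) := by
    have h0 : Curv2.euler k X (Coh.structureModule X) = 1 - Curv2.genus k X := by
      exact euler_structure_of hc hω
    rw [← hd, dg, Curv2.deg, h0, hr]
    ring
  rw [hdM] at hχ
  push_cast at hadd
  have e1 : (Module.finrank k (K ⟶ L) : ℤ) =
      Module.finrank k (Ext P L 1) + Module.finrank k (LinearMap.range rK) := by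
    exact_mod_cast d1.symm
  have e2 : (Module.finrank k (W ⟶ L) : ℤ) =
      Module.finrank k (LinearMap.range rK) + Module.finrank k (P ⟶ L) := by
    exact_mod_cast d2.symm
  linarith

/-- The Euler form of two vector bundles. -/
theorem hom_sub_ext (hc : IsVBCurve k X) {ω : X.Modules} (hω : IsDualizing k ω)
    {P : X.Modules} (hP : FlatMod.IsFinLocFree P) : ∀ (n : ℕ) (F : X.Modules),
    FlatMod.IsFinLocFree F → rk F = n →
    (Module.finrank k (P ⟶ F) : ℤ) - Module.finrank k (Ext P F 1) =
      (rk P : ℤ) * dg k F - (n : ℤ) * dg k P + (rk P : ℤ) * n * (1 - Curv2.genus k X) := by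
  have : IsNoetherian X := Groth.EulerDeg.isNoetherian_of_proper k X
  have := Groth.Duality.SheafHom.hasSheafHom P
  have hPc := Groth.KTheory.LocFree.isCoh hP
  have key : ∀ {F : X.Modules}, FlatMod.IsFinLocFree F →
      (Module.finrank k (P ⟶ F) : ℤ) - Module.finrank k (Ext P F 1) =
        Curv2.euler k X ((DCoh.sheafHom P).obj F) := fun {F} hF => by
    obtain ⟨e1⟩ := Groth.Duality.SheafHom.nonempty_ext_linearEquiv k P hP 1 F
    rw [e1.finrank_eq, (Groth.Duality.SheafHom.homH0 P k F).finrank_eq]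
    exact (Groth.EulerDeg.euler_eq_sub (k := k) fun n hn =>
      Groth.EulerDeg.subsingleton_HH_of_dim_le_one X hc.dim.le _ n hn).symm
  intro n
  induction n with
  | zero =>
    intro F hF h0
    have hz := isZero_of_rk_eq_zero hF h0
    rw [key hF, dg_of_rk_zero k hF h0]
    have hz' : IsZero ((DCoh.sheafHom P).obj F) := by
      have : PreservesLimitsOfSize.{0, 0} (DCoh.sheafHom P) :=
        (DCoh.sheafHomAdj P).rightAdjoint_preservesLimits
      have := (DCoh.sheafHomAdj P).right_adjoint_additive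
      exact Functor.map_isZero _ hz
    rw [Groth.EulerDeg.euler_of_isZero fun n => subsingleton_of_forall_eq 0 fun x => by
      have h1 := congrArg (fun φ => Groth.EulerDeg.hMap k φ n x)
        ((IsZero.iff_id_eq_zero _).1 hz')
      simpa [hMap_zero] using h1]
    simp
  | succ n ih =>
    intro F hF hr
    obtain ⟨G, Q, i, q, w, hS, hG, hQ, hrQ⟩ := exists_line_ses hc hF (by omega)
    have hG' := Groth.LocFree.isFinLocFree_of_rank hG
    have := (DCoh.sheafHomAdj P).right_adjoint_additive
    have hT := Groth.Duality.SheafHom.shortExact_map P hP hS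
    have hadd := Groth.EulerDeg.euler_add hT
      (Groth.EulerDeg.finCoh k X (Groth.CohTwo.HomDepth.isCoh_sheafHom hPc
        (Groth.KTheory.LocFree.isCoh hG')))
      (Groth.EulerDeg.finCoh k X (Groth.CohTwo.HomDepth.isCoh_sheafHom hPc
        (Groth.KTheory.LocFree.isCoh hQ)))
    change Curv2.euler k X ((DCoh.sheafHom P).obj F) = Curv2.euler k X ((DCoh.sheafHom P).obj G) +
      Curv2.euler k X ((DCoh.sheafHom P).obj Q) at hadd
    have h1 := hom_sub_ext_line hc hω hP (Groth.LocFree.isInvertible_iff_ofRank_one.2 hG)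
    have h2 := ih Q hQ (by omega)
    have hd := dg_add k hS hG' hQ
    dsimp only at hd
    rw [← dg_eq k hG] at hd
    rw [key hF, hadd, ← key hG', ← key hQ, h1, h2, hd]
    push_cast
    ring

end Line

end Groth.VBCurves.HomEuler
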