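import Groth.Agent.VBCurves.DetExact
import Groth.Agent.VBCurves.HomEuler
import Groth.Agent.VBCurves.GenusOne
import Groth.Agent.VBCurves.Quot
import Groth.Agent.PicAux.PicLaw
import Groth.Agent.KTheory.LambdaVb
import Groth.Agent.Curves1.DimOne
import Groth.Agent.Ega2Proj.Spans
import Groth.Agent.VBCurves.TensorDual

/-!
# The Grothendieck group of vector bundles on a curve
-/

set_option autoImplicit false
set_option linter.unusedSectionVars false
set_option linter.style.haveILetI false

universe u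

open CategoryTheory CategoryTheory.Limits AlgebraicGeometry TopologicalSpace
open Groth.KTheory.LocFree (stalkₗ)
open Groth.LocFree (extPow)
open scoped Groth.CurveBridge

namespace Groth.VBCurves.K0Curve

variable {k : Type u} [Field k] {X : Scheme.{u}} [X.Over (Spec (CommRingCat.of k))]
  [IsIntegral X] [IsProper (X ↘ Spec (CommRingCat.of k))]

local notation "VB" => (fun M : X.Modules => FlatMod.IsFinLocFree M)
local notation "kc" => KZero.clSub (fun M : X.Modules => FlatMod.IsFinLocFree M)

theorem isInvertible_det {E : X.Modules} {r : ℕ} (hE : FlatMod.IsFinLocFreeOfRank r E) :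
    FlatMod.IsFinLocFreeOfRank 1 (extPow r E) :=
  Nat.choose_self r ▸ Groth.LocFree.isFinLocFreeOfRank_extPow hE r

/-- The determinant of an extension, as an isomorphism. -/
theorem nonempty_det (hc : IsVBCurve k X) {S : ShortComplex X.Modules} (hS : S.ShortExact)
    {a b : ℕ} (h₁ : FlatMod.IsFinLocFreeOfRank a S.X₁) (h₂ : FlatMod.IsFinLocFreeOfRank (a + b) S.X₂)
    (h₃ : FlatMod.IsFinLocFreeOfRank b S.X₃) :
    Nonempty (CohB1.tensorMod (extPow a S.X₁) (extPow b S.X₃) ≅ extPow (a + b) S.X₂) := by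
  obtain ⟨θ, hθ⟩ := DetExact.nonempty_det_iso hS h₁ (Groth.LocFree.isFinLocFree_of_rank h₂) h₃
  have hs := Groth.LocFree.isFinLocFreeOfRank_tensorMod (isInvertible_det h₁) (isInvertible_det h₃)
  rw [one_mul] at hs
  have := isIso_of_epi hc (Groth.LocFree.isFinLocFree_of_rank hs)
    (Groth.LocFree.isFinLocFree_of_rank (isInvertible_det h₂)) θ
    (by rw [rk_eq hs, rk_eq (isInvertible_det h₂)])
  exact ⟨asIso θ⟩

theorem nonempty_det_line {L : X.Modules} (hL : FlatMod.IsFinLocFreeOfRank 1 L) :
    Nonempty (extPow 1 L ≅ L) :=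
  haveI := Groth.KTheory.LocFree.isQCoh (Groth.LocFree.isFinLocFree_of_rank hL)
  Groth.KTheory.LambdaVb.nonempty_extPow_one L

theorem germ_homOfSection {B : X.Modules} (σ : Γ(B, ⊤)) (x : X) :
    stalkₗ (Groth.PicAux.homOfSection σ) x (Groth.RefRank.oneEquiv x 1) =
      Groth.QCohMod.germ B x (Set.mem_univ x : x ∈ (⊤ : X.Opens)) σ := by
  have h1 : Groth.RefRank.oneEquiv x 1 = Groth.QCohMod.germ (Coh.structureModule X) x
      (Set.mem_univ x : x ∈ (⊤ : X.Opens)) (Groth.PicAux.oneSec X ⊤) := by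
    rw [Groth.RefRank.oneEquiv_apply, one_smul]
    rfl
  rw [h1]
  refine (Groth.QCohMod.stalk_map_germ (Groth.PicAux.homOfSection σ) x _ _).trans ?_
  rw [Groth.PicAux.homOfSection_one]

theorem bijective_of_surjective {R M N : Type u} [CommRing R] [Nontrivial R] [AddCommGroup M]
    [Module R M] [AddCommGroup N] [Module R N] [Module.Free R M] [Module.Finite R M]
    [Module.Free R N] [Module.Finite R N] (h : Module.finrank R M = Module.finrank R N)
    (f : M →ₗ[R] N) (hf : Function.Surjective f) : Function.Bijective f := by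
  let e := LinearEquiv.ofFinrankEq N M h.symm
  have h1 : Function.Injective (e.toLinearMap ∘ₗ f) :=
    OrzechProperty.injective_of_surjective_endomorphism _ (e.surjective.comp hf)
  exact ⟨fun a b hab => h1 (by simp [hab]), hf⟩

variable [IsAlgClosed k]

theorem spans_of_deg (hc : IsVBCurve k X) {ω : X.Modules} (hω : IsDualizing k ω) {A : X.Modules}
    (hA : FlatMod.IsFinLocFreeOfRank 1 A)
    (hd : 2 * (Curv2.genus k X : ℤ) - 1 < Curv2.deg k X A 1) :
    Groth.Ega2Proj.SpansStalks A := by
  have hA' := Groth.LocFree.isFinLocFree_of_rank hA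
  obtain ⟨ι, p, hp⟩ := isGloballyGenerated_of_h1 (k := k) hc hA' fun K j _ hK hr hdK => by
    rw [rk_eq hA] at hr
    have hK1 : FlatMod.IsFinLocFreeOfRank 1 K := hr ▸ isFinLocFreeOfRank_rk hK
    rw [← dg_eq k hA] at hdK
    refine subsingleton_h1_of_ss hc hω hK (St.ss hc hK (st_line hK1)) ?_
    rw [hr]
    push_cast
    linarith
  exact @Groth.Ega2Proj.spansStalks_of_epi_free _ ι _ _ _ p hp

/-- The sections of `B` vanishing at `x`. -/
noncomputable def vanish (k : Type u) [Field k] {X : Scheme.{u}} [X.Over (Spec (CommRingCat.of k))]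
    (B : X.Modules) (x : X) : Submodule k (Coh.structureModule X ⟶ B) where
  carrier := {t | stalkₗ t x (Groth.RefRank.oneEquiv x 1) ∈
    (IsLocalRing.maximalIdeal (X.presheaf.stalk x) •
      (⊤ : Submodule (X.presheaf.stalk x) (B.presheaf.stalk x)))}
  add_mem' := fun {a b} ha hb => by
    have e : stalkₗ (a + b) x (Groth.RefRank.oneEquiv x 1) =
        stalkₗ a x (Groth.RefRank.oneEquiv x 1) + stalkₗ b x (Groth.RefRank.oneEquiv x 1) :=
      congr($((Groth.QCohMod.stalk x).map_add (f := a) (g := b)) (Groth.RefRank.oneEquiv x 1))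
    rw [Set.mem_ofPred_eq] at *
    rw [e]
    exact add_mem ha hb
  zero_mem' := by
    have e : stalkₗ (0 : Coh.structureModule X ⟶ B) x (Groth.RefRank.oneEquiv x 1) = 0 :=
      congr($((Groth.QCohMod.stalk x).map_zero (Coh.structureModule X) B)
        (Groth.RefRank.oneEquiv x 1))
    rw [Set.mem_ofPred_eq] at *
    rw [e]
    exact zero_mem _
  smul_mem' := fun c a ha => by
    have e : stalkₗ (c • a) x (Groth.RefRank.oneEquiv x 1) =
        Curv2.stalkMap k X x c • stalkₗ a x (Groth.RefRank.oneEquiv x 1) := by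
      rw [KLin.smul_def]
      exact ((stalk_comp _ _ x (Groth.RefRank.oneEquiv x 1)).trans
        (congrArg (stalkₗ a x) (stalk_scal k _ c x (Groth.RefRank.oneEquiv x 1)))).trans
          (map_smul _ _ _)
    rw [Set.mem_ofPred_eq] at *
    rw [e]
    exact Submodule.smul_mem _ _ ha

theorem vanish_ne_top {B : X.Modules} (hB : FlatMod.IsFinLocFreeOfRank 1 B) {x : X}
    (h1 : Submodule.span (X.presheaf.stalk x) (Set.range fun σ : Γ(B, ⊤) =>
      Groth.QCohMod.germ B x (Set.mem_univ x : x ∈ (⊤ : X.Opens)) σ) = ⊤) :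
    vanish k B x ≠ ⊤ := fun htop => by
  have h2 : (⊤ : Submodule (X.presheaf.stalk x) (B.presheaf.stalk x)) ≤
      IsLocalRing.maximalIdeal (X.presheaf.stalk x) • ⊤ := by
    conv_lhs => rw [← h1]
    rw [Submodule.span_le]
    rintro _ ⟨σ, rfl⟩
    have h3 : Groth.PicAux.homOfSection σ ∈ vanish k B x := htop ▸ Submodule.mem_top
    dsimp only
    rw [← germ_homOfSection]
    exact h3
  have hB' := Groth.LocFree.isFinLocFree_of_rank hB
  have := Groth.KTheory.LocFree.free_stalk hB' x
  have := Groth.LocFree.finite_stalk hB' x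
  let b := Module.finBasisOfFinrankEq (X.presheaf.stalk x) (B.presheaf.stalk x)
    (Groth.LocFree.finrank_stalk hB x)
  have h4 : b.repr (b 0) 0 ∈ IsLocalRing.maximalIdeal (X.presheaf.stalk x) := by
    refine Submodule.smul_induction_on (h2 (Submodule.mem_top (x := b 0)))
      (fun a ha y _ => ?_) (fun y z hy hz => ?_)
    · rw [map_smul, Finsupp.smul_apply, smul_eq_mul]; exact Ideal.mul_mem_right _ _ ha
    · rw [map_add, Finsupp.add_apply]; exact add_mem hy hz
  rw [Module.Basis.repr_self, Finsupp.single_eq_same] at h4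
  exact (IsLocalRing.maximalIdeal.isMaximal _).ne_top ((Ideal.eq_top_iff_one _).2 h4)

/-- Two lines of large degree have a nowhere vanishing joint section. -/
theorem exists_section_ses (hc : IsVBCurve k X) {ω : X.Modules} (hω : IsDualizing k ω)
    {A B : X.Modules} (hA : FlatMod.IsFinLocFreeOfRank 1 A) (hB : FlatMod.IsFinLocFreeOfRank 1 B)
    (hdA : 2 * (Curv2.genus k X : ℤ) - 1 < Curv2.deg k X A 1)
    (hdB : 2 * (Curv2.genus k X : ℤ) - 1 < Curv2.deg k X B 1) :
    ∃ (Q : X.Modules) (i : Coh.structureModule X ⟶ A ⊞ B) (q : A ⊞ B ⟶ Q) (w : i ≫ q = 0),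
      (ShortComplex.mk i q w).ShortExact ∧ FlatMod.IsFinLocFreeOfRank 1 Q ∧
      Nonempty (Q ≅ CohB1.tensorMod A B) := by
  classical
  have : IsNoetherian X := Groth.EulerDeg.isNoetherian_of_proper k X
  have : NoetherianSpace X := inferInstance
  let O := Coh.structureModule X
  have hO := Groth.LocFree.isInvertible_iff_ofRank_one.1
    (Groth.EulerDeg.isInvertible_structureModule X)
  have hO' := Groth.LocFree.isFinLocFree_of_rank hO
  have hA' := Groth.LocFree.isFinLocFree_of_rank hA
  have hB' := Groth.LocFree.isFinLocFree_of_rank hB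
  let one : ∀ x : X, O.presheaf.stalk x := fun x => Groth.RefRank.oneEquiv x 1
  let η := genericPoint X
  -- a nonzero section of `A`
  obtain ⟨s, hs⟩ : ∃ s : O ⟶ A, stalkₗ s η (one η) ≠ 0 := by
    by_contra hall
    push Not at hall
    have h1 := spans_of_deg hc hω hA hdA η
    have h2 : (⊤ : Submodule (X.presheaf.stalk η) (A.presheaf.stalk η)) = ⊥ := by
      rw [← h1, Submodule.span_eq_bot]
      rintro _ ⟨σ, rfl⟩
      have := hall (Groth.PicAux.homOfSection σ)
      rwa [germ_homOfSection] at this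
    have := Groth.KTheory.LocFree.free_stalk hA' η
    have h3 := Groth.LocFree.finrank_stalk hA η
    rw [← finrank_top (X.presheaf.stalk η) (A.presheaf.stalk η), h2, finrank_bot] at h3
    omega
  have hs0 : s ≠ 0 := fun h0 => hs <| by
    rw [h0]
    exact congr($((Groth.QCohMod.stalk η).map_zero O A) (one η))
  have hmono : Mono s := by
    obtain ⟨K, I, i, p, j, w, -, -, -, hj, hfac, hm, hK, hI, hr, -, hI0⟩ := exists_image hc hO' hA' s
    have := hI0 hs0
    rw [rk_eq hO] at hr
    have := hm (by omega)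
    rw [← hfac]; infer_instance
  have := (Groth.KTheory.LocFree.isCoh hO').1
  have hZc := Groth.QCohMod.isCoh_cokernel s (Groth.KTheory.LocFree.isCoh hA')
  let Z := CohB1.support (cokernel s)
  have hsurj : ∀ x, x ∉ Z → Function.Surjective (stalkₗ s x) := fun x hx v => by
    have hx' : Subsingleton ((cokernel s).presheaf.stalk x) := not_not.1 hx
    have hex : ((ShortComplex.mk s (cokernel.π s) (cokernel.condition s)).map
        (Groth.QCohMod.stalk x)).Exact := (ShortComplex.exact_cokernel s).map _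
    rw [ShortComplex.ab_exact_iff] at hex
    exact hex v (Subsingleton.elim (α := (cokernel s).presheaf.stalk x) _ _)
  have hinjs : ∀ x, Function.Injective (stalkₗ s x) :=
    fun x => (Groth.QCohMod.mono_iff_stalk s).1 hmono x
  have hη : η ∉ Z := fun hη => hη (subsingleton_of_forall_eq 0 fun v => by
    obtain ⟨w, rfl⟩ := (Groth.QCohMod.epi_iff_stalk (cokernel.π s)).1 inferInstance η v
    let _ : Field (X.presheaf.stalk η) := inferInstanceAs (Field X.functionField)
    have := Groth.KTheory.LocFree.free_stalk hA' η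
    have := Groth.LocFree.finite_stalk hA' η
    obtain ⟨c, rfl⟩ := (finrank_eq_one_iff_of_nonzero' _ hs).1 (Groth.LocFree.finrank_stalk hA η) w
    have h0 : stalkₗ (cokernel.π s) η (stalkₗ s η (one η)) = 0 := by
      rw [← stalk_comp, cokernel.condition]
      exact congr($((Groth.QCohMod.stalk η).map_zero O (cokernel s)) (one η))
    exact (map_smul (stalkₗ (cokernel.π s) η) c _).trans (by rw [h0, smul_zero]))
  obtain ⟨hZfin, hZcl⟩ := Groth.Curves1.finite_of_isClosed (X := X) hc.dim.le
    (Groth.CohC3.isClosed_support_of_isCoh _ hZc) fun h => hη (show η ∈ CohB1.support _ by rw [h]; trivial)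
  -- sections of `B` not vanishing on `Z`
  let V : Z → Submodule k (O ⟶ B) := fun z => vanish k B z.1
  have hV : ∀ z, V z ≠ ⊤ := fun z => vanish_ne_top hB (spans_of_deg hc hω hB hdB z.1)
  have : Finite Z := hZfin.to_subtype
  have : Infinite k := IsAlgClosed.instInfinite
  obtain ⟨t, ht⟩ := Submodule.exists_forall_notMem_of_forall_ne_top V hV
  -- the joint section is saturated
  have hAB := Groth.LocFree.isFinLocFreeOfRank_biprod hA hB
  have hAB' := Groth.LocFree.isFinLocFree_of_rank hAB
  have : Mono (biprod.lift s t ≫ biprod.fst) := by rw [biprod.lift_fst]; exact hmono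
  have : Mono (biprod.lift s t) := mono_of_mono (biprod.lift s t) biprod.fst
  obtain ⟨G, Q, σ, i, q, w, hS, hσ, hσm, hG, hQ, hrG⟩ :=
    exists_saturation hc hAB' hO' (biprod.lift s t)
  rw [rk_eq hO] at hrG
  have hG1 : FlatMod.IsFinLocFreeOfRank 1 G := hrG ▸ isFinLocFreeOfRank_rk hG
  have hbij : ∀ x, Function.Bijective (stalkₗ σ x) := fun x => by
    have := Groth.KTheory.LocFree.free_stalk hG x
    have := Groth.LocFree.finite_stalk hG x
    -- a component is bijective
    obtain ⟨C, c, pr, hC, hcomp, hb⟩ : ∃ (C : X.Modules) (c : O ⟶ C) (pr : A ⊞ B ⟶ C),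
        FlatMod.IsFinLocFreeOfRank 1 C ∧ biprod.lift s t ≫ pr = c ∧
          Function.Bijective (stalkₗ c x) := by
      by_cases hx : x ∈ Z
      · refine ⟨B, t, biprod.snd, hB, biprod.lift_snd _ _, ?_⟩
        have := Groth.KTheory.LocFree.free_stalk hB' x
        have := Groth.LocFree.finite_stalk hB' x
        have hu : stalkₗ t x (one x) ∉ IsLocalRing.maximalIdeal (X.presheaf.stalk x) •
            (⊤ : Submodule (X.presheaf.stalk x) (B.presheaf.stalk x)) := ht ⟨x, hx⟩
        let b := Module.finBasisOfFinrankEq (X.presheaf.stalk x) (B.presheaf.stalk x)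
          (Groth.LocFree.finrank_stalk hB x)
        have hsum : stalkₗ t x (one x) = b.repr (stalkₗ t x (one x)) 0 • b 0 := by
          conv_lhs => rw [← b.sum_repr (stalkₗ t x (one x))]
          simp
        have hunit : IsUnit (b.repr (stalkₗ t x (one x)) 0) := by
          by_contra hn
          exact hu (by
            rw [hsum]
            exact Submodule.smul_mem_smul ((IsLocalRing.mem_maximalIdeal _).2 hn) Submodule.mem_top)
        have := Groth.KTheory.LocFree.free_stalk hO' x
        have := Groth.LocFree.finite_stalk hO' x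
        refine bijective_of_surjective (by rw [Groth.LocFree.finrank_stalk hO x,
          Groth.LocFree.finrank_stalk hB x]) _ fun v => ?_
        obtain ⟨r, hr⟩ := hunit.exists_left_inv
        refine ⟨(b.repr v 0 * r) • one x, ?_⟩
        rw [map_smul, hsum, smul_smul, mul_assoc, hr, mul_one]
        conv_rhs => rw [← b.sum_repr v]
        simp
      · exact ⟨A, s, biprod.fst, hA, biprod.lift_fst _ _, hinjs x, hsurj x hx⟩
    have := Groth.KTheory.LocFree.free_stalk (Groth.LocFree.isFinLocFree_of_rank hC) x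
    have := Groth.LocFree.finite_stalk (Groth.LocFree.isFinLocFree_of_rank hC) x
    have hfun : ∀ v, stalkₗ c x v = stalkₗ (i ≫ pr) x (stalkₗ σ x v) := fun v => by
      rw [← stalk_comp, ← Category.assoc, hσ, hcomp]
    have hp : Function.Bijective (stalkₗ (i ≫ pr) x) :=
      bijective_of_surjective (by rw [Groth.LocFree.finrank_stalk hG1 x,
        Groth.LocFree.finrank_stalk hC x]) _ fun v => by
          obtain ⟨u, hu⟩ := hb.2 v
          exact ⟨stalkₗ σ x u, by rw [← hfun, hu]⟩
    refine ⟨fun a b h => hb.1 (by rw [hfun, hfun, h]), fun v => ?_⟩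
    obtain ⟨u, hu⟩ := hb.2 (stalkₗ (i ≫ pr) x v)
    exact ⟨u, hp.1 (by rw [← hfun, hu])⟩
  have hiso : IsIso σ := (Groth.RefRank.isIso_iff_bijective_stalk σ).2 hbij
  have hw : (σ ≫ i) ≫ q = 0 := by rw [Category.assoc, w, comp_zero]
  have hS' : (ShortComplex.mk (σ ≫ i) q hw).ShortExact :=
    ShortComplex.shortExact_of_iso (ShortComplex.isoMk (S₁ := ShortComplex.mk i q w)
      (S₂ := ShortComplex.mk (σ ≫ i) q hw) (asIso σ).symm (Iso.refl _) (Iso.refl _)
      (by simp) (by simp)) hS
  have hr := rk_add hS' hO' hQ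
  dsimp only at hr
  rw [rk_eq hAB, rk_eq hO] at hr
  have hQ1 : FlatMod.IsFinLocFreeOfRank 1 Q :=
    (show rk Q = 1 by omega) ▸ isFinLocFreeOfRank_rk hQ
  refine ⟨Q, σ ≫ i, q, hw, hS', hQ1, ?_⟩
  obtain ⟨d₁⟩ := nonempty_det hc hS' (a := 1) (b := 1) hO hAB hQ1
  obtain ⟨d₂⟩ := nonempty_det hc (ShortComplex.Splitting.ofHasBinaryBiproduct A B).shortExact
    (a := 1) (b := 1) hA hAB hB
  obtain ⟨eO⟩ := nonempty_det_line hO
  obtain ⟨eQ⟩ := nonempty_det_line hQ1
  obtain ⟨eA⟩ := nonempty_det_line hA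
  obtain ⟨eB⟩ := nonempty_det_line hB
  exact ⟨(Groth.PicAux.exists_leftUnitor Q).choose.symm ≪≫ PicGrp.tensorModIso eO.symm eQ.symm ≪≫
    d₁ ≪≫ d₂.symm ≪≫ PicGrp.tensorModIso eA eB⟩

/-- `[L] + [M] = [O] + [L ⊗ M]`. -/
theorem cl_add_cl (h : Groth.CurveBridge.IsRegCurve X)
    (hK : FunFld.IsFunctionField k X.functionField) (hc : IsVBCurve k X) {ω : X.Modules}
    (hω : IsDualizing k ω) {L M : X.Modules} (hL : PicF.IsInvertible L)
    (hM : PicF.IsInvertible M) :
    kc L + kc M = kc (Coh.structureModule X) + kc (CohB1.tensorMod L M) := by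
  have vb : ∀ {N : X.Modules}, PicF.IsInvertible N → FlatMod.IsFinLocFree N := fun hN =>
    Groth.LocFree.isFinLocFree_of_rank (Groth.LocFree.isInvertible_iff_ofRank_one.1 hN)
  obtain ⟨C, hC1, hdC⟩ := GenusOne.exists_line (k := k) h hK
    (2 * (Curv2.genus k X : ℤ) + |Curv2.deg k X L 1| + |Curv2.deg k X M 1|)
  have hC := Groth.LocFree.isInvertible_iff_ofRank_one.2 hC1
  obtain ⟨C', hC', hinv⟩ := Groth.PicAux.exists_isInverseOf hC
  obtain ⟨u⟩ := id hinv
  have := TensorDual.additive_tensorRightMod C'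
  have := preservesBinaryBiproducts_of_preservesBiproducts (DCoh.tensorRightMod C')
  have hg := Int.natCast_nonneg (Curv2.genus k X)
  let back : ∀ N : X.Modules, CohB1.tensorMod (CohB1.tensorMod N C) C' ≅ N := fun N =>
    (Groth.PicAux.exists_associator N C C').choose ≪≫ PicGrp.tensorModIso (Iso.refl N) u ≪≫
      SecTwist.unitorR N
  -- the relation attached to two lines of large degree
  have rel : ∀ {A B : X.Modules}, PicF.IsInvertible A → PicF.IsInvertible B →
      2 * (Curv2.genus k X : ℤ) - 1 < Curv2.deg k X A 1 →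
      2 * (Curv2.genus k X : ℤ) - 1 < Curv2.deg k X B 1 →
      kc (CohB1.tensorMod A C') + kc (CohB1.tensorMod B C') =
        kc C' + kc (CohB1.tensorMod (CohB1.tensorMod A B) C') := by
    intro A B hA hB hdA hdB
    obtain ⟨Q, i, q, w, hS, hQ, ⟨e⟩⟩ := exists_section_ses hc hω
      (Groth.LocFree.isInvertible_iff_ofRank_one.1 hA)
      (Groth.LocFree.isInvertible_iff_ofRank_one.1 hB) hdA hdB
    have hT := Groth.PicAux.shortExact_tensorRightMod hC' hS
    have hA' := Groth.PicAux.isInvertible_tensorMod hA hC'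
    have hB' := Groth.PicAux.isInvertible_tensorMod hB hC'
    have hQ' := Groth.PicAux.isInvertible_tensorMod
      (Groth.LocFree.isInvertible_iff_ofRank_one.2 hQ) hC'
    have hAB' : FlatMod.IsFinLocFree (CohB1.tensorMod (A ⊞ B) C') :=
      Groth.LocFree.isFinLocFree_tensorMod (Groth.KTheory.LocFree.isFinLocFree_of_shortExact
        (ShortComplex.Splitting.ofHasBinaryBiproduct A B).shortExact (vb hA) (vb hB)) (vb hC')
    have hOC := Groth.PicAux.isInvertible_tensorMod
      (Groth.EulerDeg.isInvertible_structureModule X) hC'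
    have r1 := Groth.KTheory.clSub_rel (P := VB) _ hT (vb hOC) hAB' (vb hQ')
    have r2 := Groth.KTheory.clSub_rel (P := VB) _
      (ShortComplex.Splitting.ofHasBinaryBiproduct (CohB1.tensorMod A C')
        (CohB1.tensorMod B C')).shortExact (vb hA')
      (Groth.KTheory.LocFree.isFinLocFree_of_shortExact
        (ShortComplex.Splitting.ofHasBinaryBiproduct _ _).shortExact (vb hA') (vb hB')) (vb hB')
    have hz : IsZero (FlatMod.freeMod X 0) :=
      (IsZero.iff_id_eq_zero _).2 (Sigma.hom_ext _ _ fun i => i.elim0)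
    have hz' := Groth.LocFree.isFinLocFree_freeMod X 0
    have r3 := Groth.KTheory.clSub_iso (P := VB) ((DCoh.tensorRightMod C').mapBiprod A B) hAB'
      (Groth.KTheory.LocFree.isFinLocFree_of_shortExact
        (ShortComplex.Splitting.ofHasBinaryBiproduct _ _).shortExact (vb hA') (vb hB')) hz hz'
    have r4 := Groth.KTheory.clSub_iso (P := VB) (Groth.PicAux.exists_leftUnitor C').choose
      (vb hOC) (vb hC') hz hz'
    have r5 := Groth.KTheory.clSub_iso (P := VB) (PicGrp.tensorModIso e (Iso.refl C')) (vb hQ')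
      (vb (Groth.PicAux.isInvertible_tensorMod (Groth.PicAux.isInvertible_tensorMod hA hB) hC'))
      hz hz'
    exact (((r2.symm.trans r3.symm).trans r1).trans (congrArg₂ (· + ·) r4 r5))
  have hLC := Groth.PicAux.isInvertible_tensorMod hL hC
  have hMC := Groth.PicAux.isInvertible_tensorMod hM hC
  have hLM := Groth.PicAux.isInvertible_tensorMod hL hM
  have hLMC := Groth.PicAux.isInvertible_tensorMod hLM hC
  have dd : ∀ {P N : X.Modules}, PicF.IsInvertible P → PicF.IsInvertible N →
      Curv2.deg k X (CohB1.tensorMod P N) 1 = Curv2.deg k X P 1 + Curv2.deg k X N 1 :=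
    fun hP hN => Groth.EulerDeg.deg_tensor_invertible k hc.dim.le hP hN
  have a1 := neg_abs_le (Curv2.deg k X L 1)
  have a2 := neg_abs_le (Curv2.deg k X M 1)
  have a3 := abs_nonneg (Curv2.deg k X L 1)
  have a4 := abs_nonneg (Curv2.deg k X M 1)
  have h1 := rel hLC hMC (by rw [dd hL hC, hdC]; linarith) (by rw [dd hM hC, hdC]; linarith)
  have h2 := rel hLMC hC (by rw [dd hLM hC, dd hL hM, hdC]; linarith) (by rw [hdC]; linarith)
  have hz : IsZero (FlatMod.freeMod X 0) :=
    (IsZero.iff_id_eq_zero _).2 (Sigma.hom_ext _ _ fun i => i.elim0)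
  have cl_iso : ∀ {N P : X.Modules}, (N ≅ P) → PicF.IsInvertible P → kc N = kc P := fun e hP =>
    Groth.KTheory.clSub_iso (P := VB) e
      (Groth.KTheory.LocFree.isFinLocFree_of_iso e.symm (vb hP)) (vb hP) hz
      (Groth.LocFree.isFinLocFree_freeMod X 0)
  have e3 : CohB1.tensorMod (CohB1.tensorMod L C) (CohB1.tensorMod M C) ≅
      CohB1.tensorMod (CohB1.tensorMod (CohB1.tensorMod L M) C) C :=
    (Groth.PicAux.tensor_interchange L C M C).some ≪≫
      (Groth.PicAux.exists_associator (CohB1.tensorMod L M) C C).choose.symm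
  rw [cl_iso (back L) hL, cl_iso (back M) hM, cl_iso (PicGrp.tensorModIso e3 (Iso.refl C'))
    (Groth.PicAux.isInvertible_tensorMod (Groth.PicAux.isInvertible_tensorMod hLMC hC) hC')] at h1
  rw [cl_iso (back (CohB1.tensorMod L M)) hLM,
    cl_iso u (Groth.EulerDeg.isInvertible_structureModule X)] at h2
  rw [h1, ← h2, add_comm]

/-- The class in the Picard group of an invertible module. -/
def pcl {L : X.Modules} (hL : PicF.IsInvertible L) : PicLoc.PicSet X := ⟨PicF.cl L, L, rfl, hL⟩

theorem pcl_eq_iff {L M : X.Modules} (hL : PicF.IsInvertible L) (hM : PicF.IsInvertible M) :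
    pcl hL = pcl hM ↔ Nonempty (L ≅ M) :=
  Subtype.ext_iff.trans (PicGrp.cl_eq_cl_iff _ _)

open Classical in
/-- The class of the determinant. -/
noncomputable def detCl (E : X.Modules) : PicLoc.PicSet X :=
  if h : FlatMod.IsFinLocFree E then
    pcl (Groth.LocFree.isInvertible_iff_ofRank_one.2 (isInvertible_det (isFinLocFreeOfRank_rk h)))
  else PicLoc.unitPicSet X

theorem detCl_eq {E : X.Modules} {r : ℕ} (h : FlatMod.IsFinLocFreeOfRank r E) :
    detCl E = pcl (Groth.LocFree.isInvertible_iff_ofRank_one.2 (isInvertible_det h)) := by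
  rw [detCl, dif_pos (Groth.LocFree.isFinLocFree_of_rank h), pcl_eq_iff, rk_eq h]
  exact ⟨Iso.refl _⟩

theorem detCl_line {L : X.Modules} (h : PicF.IsInvertible L) : detCl L = pcl h := by
  rw [detCl_eq (Groth.LocFree.isInvertible_iff_ofRank_one.1 h), pcl_eq_iff]
  exact nonempty_det_line (Groth.LocFree.isInvertible_iff_ofRank_one.1 h)

theorem kc_iso {N P : X.Modules} (e : N ≅ P) (hP : FlatMod.IsFinLocFree P) : kc N = kc P :=
  Groth.KTheory.clSub_iso (P := VB) e
    (Groth.KTheory.LocFree.isFinLocFree_of_iso e.symm hP) hP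
    ((IsZero.iff_id_eq_zero _).2 (Sigma.hom_ext _ _ fun i => i.elim0) :
      IsZero (FlatMod.freeMod X 0))
    (Groth.LocFree.isFinLocFree_freeMod X 0)

section

variable (h : Groth.CurveBridge.IsRegCurve X) (hK : FunFld.IsFunctionField k X.functionField)
  (hc : IsVBCurve k X) {ω : X.Modules} (hω : IsDualizing k ω)

include h hK hc hω

theorem exists_decomp (a : SGA6.Kvb X) : ∃ (n : ℤ) (L : X.Modules), PicF.IsInvertible L ∧
    a = (n - 1) • kc (Coh.structureModule X) + kc L := by
  have hO := Groth.EulerDeg.isInvertible_structureModule X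
  induction a using Groth.KTheory.k0sub_induction with
  | h0 => exact ⟨0, _, hO, by simp⟩
  | hcl E hE =>
    suffices H : ∀ (r : ℕ) (E : X.Modules), FlatMod.IsFinLocFreeOfRank r E →
        ∃ L : X.Modules, PicF.IsInvertible L ∧
          kc E = ((r : ℤ) - 1) • kc (Coh.structureModule X) + kc L by
      obtain ⟨L, hL, e⟩ := H (rk E) E (isFinLocFreeOfRank_rk hE)
      exact ⟨_, L, hL, e⟩
    intro r
    induction r with
    | zero =>
      intro E hE
      refine ⟨_, hO, ?_⟩
      rw [Groth.KTheory.clSub_zero (P := VB) (isZero_of_rk_eq_zero (Groth.LocFree.isFinLocFree_of_rank hE) (rk_eq hE))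
        (Groth.LocFree.isFinLocFree_of_rank hE)]
      simp
    | succ r ih =>
      intro E hE
      obtain ⟨G, Q, i, q, w, hS, hG, hQ, hr⟩ :=
        HomEuler.exists_line_ses hc (Groth.LocFree.isFinLocFree_of_rank hE) (by rw [rk_eq hE]; omega)
      rw [rk_eq hE, Nat.add_right_cancel_iff] at hr
      obtain ⟨L, hL, e⟩ := ih Q (hr ▸ isFinLocFreeOfRank_rk hQ)
      have hG' := Groth.LocFree.isInvertible_iff_ofRank_one.2 hG
      refine ⟨CohB1.tensorMod G L, Groth.PicAux.isInvertible_tensorMod hG' hL, ?_⟩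
      rw [Groth.KTheory.clSub_rel (P := VB) _ hS (Groth.LocFree.isFinLocFree_of_rank hG)
        (Groth.LocFree.isFinLocFree_of_rank hE) hQ, e, ← add_left_comm,
        cl_add_cl h hK hc hω hG' hL]
      push_cast
      rw [← add_assoc, ← add_one_zsmul]
      congr 2
      ring
  | hadd a b iha ihb =>
    obtain ⟨n, L, hL, rfl⟩ := iha
    obtain ⟨m, M, hM, rfl⟩ := ihb
    refine ⟨n + m, CohB1.tensorMod L M, Groth.PicAux.isInvertible_tensorMod hL hM, ?_⟩
    rw [add_add_add_comm, cl_add_cl h hK hc hω hL hM, ← add_smul, ← add_assoc, ← add_one_zsmul]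
    congr 2
    ring
  | hneg a iha =>
    obtain ⟨n, L, hL, rfl⟩ := iha
    obtain ⟨M, hM, u⟩ := Groth.PicAux.exists_isInverseOf hL
    obtain ⟨u⟩ := id u
    refine ⟨-n, M, hM, neg_eq_of_add_eq_zero_right ?_⟩
    rw [add_add_add_comm, cl_add_cl h hK hc hω hL hM,
      kc_iso u (Groth.LocFree.isFinLocFree_of_rank
        (Groth.LocFree.isInvertible_iff_ofRank_one.1 hO)), ← two_zsmul, ← add_smul, ← add_smul,
      show n - 1 + (-n - 1) + 2 = (0 : ℤ) by ring, zero_smul]

omit h hK hω in
theorem decomp_unique {n m : ℤ} {L L' : X.Modules} (hL : PicF.IsInvertible L)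
    (hL' : PicF.IsInvertible L')
    (he : (n - 1) • kc (Coh.structureModule X) + kc L =
      (m - 1) • kc (Coh.structureModule X) + kc L') : n = m ∧ Nonempty (L ≅ L') := by
  letI := Groth.PicAux.picLaw X
  let f : X.Modules → ℤ × Additive (PicLoc.PicSet X) := fun E => ((rk E : ℤ), Additive.ofMul (detCl E))
  have hf : ∀ S : ShortComplex X.Modules, S.ShortExact → FlatMod.IsFinLocFree S.X₁ →
      FlatMod.IsFinLocFree S.X₂ → FlatMod.IsFinLocFree S.X₃ → f S.X₂ = f S.X₁ + f S.X₃ := by
    intro S hS h₁ h₂ h₃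
    have r1 := isFinLocFreeOfRank_rk h₁
    have r3 := isFinLocFreeOfRank_rk h₃
    have r2 : FlatMod.IsFinLocFreeOfRank (rk S.X₁ + rk S.X₃) S.X₂ :=
      rk_add hS h₁ h₃ ▸ isFinLocFreeOfRank_rk h₂
    obtain ⟨d⟩ := nonempty_det hc hS r1 r2 r3
    refine Prod.ext (by simp [f, rk_add hS h₁ h₃]) ?_
    change Additive.ofMul (detCl S.X₂) = Additive.ofMul (detCl S.X₁ * detCl S.X₃)
    congr 1
    rw [detCl_eq r1, detCl_eq r2, detCl_eq r3]
    exact Subtype.ext (((PicGrp.cl_eq_cl_iff _ _).2 ⟨d.symm⟩).trans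
      (PicGrp.Law.mul_val (pcl _) (pcl _)).symm)
  have hline : ∀ {M : X.Modules} (hM : PicF.IsInvertible M),
      Groth.KTheory.liftSub _ f hf (kc M) = (1, Additive.ofMul (pcl hM)) := fun {M} hM => by
    have h1 := Groth.LocFree.isInvertible_iff_ofRank_one.1 hM
    rw [Groth.KTheory.liftSub_clSub f hf (Groth.LocFree.isFinLocFree_of_rank h1)]
    simp only [f, rk_eq h1, detCl_line hM, Nat.cast_one]
  have hone : pcl (Groth.EulerDeg.isInvertible_structureModule X) = 1 :=
    (PicGrp.Law.one_eq (Y := X)).symm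
  have h2 := congrArg (Groth.KTheory.liftSub _ f hf) he
  simp only [map_add, map_zsmul, hline hL, hline hL',
    hline (Groth.EulerDeg.isInvertible_structureModule X), hone, ofMul_one] at h2
  obtain ⟨h3, h4⟩ := Prod.ext_iff.1 h2
  simp at h3 h4
  exact ⟨h3, (pcl_eq_iff hL hL').1 h4⟩

end

end Groth.VBCurves.K0Curve
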