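import Groth.Agent.VBCurves.GenusOneClass
import Groth.Agent.VBCurves.K0Curve

/-!
# Rank two bundles of odd degree on a curve of genus one
-/

set_option autoImplicit false
set_option linter.unusedSectionVars false
set_option linter.style.haveILetI false

universe u

open CategoryTheory CategoryTheory.Limits AlgebraicGeometry TopologicalSpace Abelian
open Groth.LocFree (extPow)
open scoped Groth.CurveBridge

namespace Groth.VBCurves.GenusOneOdd

variable {k : Type u} [Field k] {X : Scheme.{u}} [X.Over (Spec (CommRingCat.of k))]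
  [IsIntegral X] [IsProper (X ↘ Spec (CommRingCat.of k))] [HasExt.{u} X.Modules]

/-- Two non-split extensions with proportional classes have isomorphic middle terms. -/
theorem nonempty_iso_of_smul {A Q B B' : X.Modules} {i : A ⟶ B} {p : B ⟶ Q} {w : i ≫ p = 0}
    (hS : (ShortComplex.mk i p w).ShortExact) {i' : A ⟶ B'} {p' : B' ⟶ Q} {w' : i' ≫ p' = 0}
    (hS' : (ShortComplex.mk i' p' w').ShortExact) {c : k} (he : hS'.extClass = c • hS.extClass)
    (hne : hS'.extClass ≠ 0) (hns : ¬ IsSplitEpi p)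
    (hend : ∀ ψ : Q ⟶ Q, ψ ≠ 0 → IsIso ψ) : Nonempty (B ≅ B') := by
  have hc : c ≠ 0 := fun h => hne (by rw [he, h, zero_smul])
  have h0 : hS.extClass.comp (Ext.mk₀ i') (add_zero 1) = 0 := by
    have h1 := hS'.extClass_comp
    rw [he, Ext.smul_comp] at h1
    exact (smul_eq_zero.1 h1).resolve_left hc
  obtain ⟨x, hx⟩ := Ext.contravariant_sequence_exact₁ hS _ (Ext.mk₀ i') (n₁ := 1) rfl h0
  obtain ⟨φ, rfl⟩ := (Ext.mk₀_bijective _ _).2 x
  rw [Ext.mk₀_comp_mk₀] at hx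
  have hφ : i ≫ φ = i' := (Ext.mk₀_bijective _ _).1 hx
  have hz : i ≫ φ ≫ p' = 0 := by rw [← Category.assoc, hφ, w']
  have : Epi p := hS.epi_g
  have : Mono i' := hS'.mono_f
  let ψ : Q ⟶ Q := hS.exact.desc (φ ≫ p') hz
  have hψ : p ≫ ψ = φ ≫ p' := hS.exact.g_desc (φ ≫ p') hz
  have hψ0 : ψ ≠ 0 := fun h => by
    have hz' : φ ≫ p' = 0 := by rw [← hψ, h, comp_zero]
    let r : B ⟶ A := hS'.exact.lift φ hz'
    have hr : r ≫ i' = φ := hS'.exact.lift_f φ hz'
    have hir : i ≫ r = 𝟙 A := by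
      rw [← cancel_mono i', Category.assoc, hr, hφ, Category.id_comp]
    let σ := ShortComplex.Splitting.ofExactOfRetraction (ShortComplex.mk i p w) hS.exact r hir hS.epi_g
    exact hns (IsSplitEpi.mk' ⟨σ.s, σ.s_g⟩)
  have := hend ψ hψ0
  let Φ : ShortComplex.mk i p w ⟶ ShortComplex.mk i' p' w' :=
    { τ₁ := 𝟙 A
      τ₂ := φ
      τ₃ := ψ
      comm₁₂ := by simp [hφ]
      comm₂₃ := by simp [hψ] }
  have : IsIso φ := ShortComplex.isIso₂_of_shortExact_of_isIso₁₃' Φ hS hS'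
    (inferInstanceAs (IsIso (𝟙 A))) this
  exact ⟨asIso φ⟩

theorem extClass_ne_zero {S : ShortComplex X.Modules} (hS : S.ShortExact) (hns : ¬ IsSplitEpi S.g) :
    hS.extClass ≠ 0 := fun h0 => hns <| by
  obtain ⟨x, hx⟩ := Ext.covariant_sequence_exact₃ (X := S.X₃) hS (Ext.mk₀ (𝟙 S.X₃))
    (n₁ := 1) rfl (by rw [h0, Ext.comp_zero])
  obtain ⟨s, rfl⟩ := (Ext.mk₀_bijective _ _).2 x
  rw [Ext.mk₀_comp_mk₀] at hx
  exact IsSplitEpi.mk' ⟨s, (Ext.mk₀_bijective _ _).1 hx⟩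

theorem not_isSplitEpi_of_indec {A B Q : X.Modules} {i : A ⟶ B} {p : B ⟶ Q} {w : i ≫ p = 0}
    (hS : (ShortComplex.mk i p w).ShortExact) (hA : FlatMod.IsFinLocFreeOfRank 1 A)
    (hQ : FlatMod.IsFinLocFreeOfRank 1 Q) (hind : Indec B) : ¬ IsSplitEpi p := fun hs => by
  let σ := ShortComplex.Splitting.ofExactOfSection (ShortComplex.mk i p w) hS.exact (section_ p)
    (IsSplitEpi.id p) hS.mono_f
  rcases hind.2 _ _ ⟨σ.isoBinaryBiproduct⟩ with hz | hz
  · exact not_isZero_of_rank hA one_pos hz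
  · exact not_isZero_of_rank hQ one_pos hz

/-- The degree of a bundle is the degree of its determinant, in rank two. -/
theorem dg_eq_deg_det (hc : IsVBCurve k X) {S : ShortComplex X.Modules} (hS : S.ShortExact)
    (h₁ : FlatMod.IsFinLocFreeOfRank 1 S.X₁) (h₂ : FlatMod.IsFinLocFreeOfRank 2 S.X₂)
    (h₃ : FlatMod.IsFinLocFreeOfRank 1 S.X₃) :
    Nonempty (CohB1.tensorMod S.X₁ S.X₃ ≅ extPow 2 S.X₂) ∧
      Curv2.deg k X (extPow 2 S.X₂) 1 = dg k S.X₂ := by
  obtain ⟨e⟩ := K0Curve.nonempty_det hc hS (a := 1) (b := 1) h₁ h₂ h₃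
  obtain ⟨e₁⟩ := K0Curve.nonempty_det_line h₁
  obtain ⟨e₃⟩ := K0Curve.nonempty_det_line h₃
  let e' : CohB1.tensorMod S.X₁ S.X₃ ≅ extPow 2 S.X₂ :=
    PicGrp.tensorModIso e₁.symm e₃.symm ≪≫ e
  refine ⟨⟨e'⟩, ?_⟩
  have ht := Groth.LocFree.isFinLocFreeOfRank_tensorMod h₁ h₃
  rw [one_mul] at ht
  rw [dg_eq k (K0Curve.isInvertible_det h₂),
    ← dg_eq_of_iso k (Groth.LocFree.isFinLocFree_of_rank ht) e', ← dg_eq k ht,
    Groth.EulerDeg.deg_tensor_invertible k hc.dim.le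
      (Groth.LocFree.isInvertible_iff_ofRank_one.2 h₁) (Groth.LocFree.isInvertible_iff_ofRank_one.2 h₃),
    dg_eq k h₁, dg_eq k h₃,
    dg_add k hS (Groth.LocFree.isFinLocFree_of_rank h₁) (Groth.LocFree.isFinLocFree_of_rank h₃)]

variable [IsAlgClosed k]

/-- Ext¹ between lines of consecutive degrees is one dimensional, Hom vanishes. -/
theorem finrank_ext_line (hc : IsVBCurve k X) {ω : X.Modules} (hω : IsDualizing k ω)
    (hg : Curv2.genus k X = 1) {A Q : X.Modules} (hA : FlatMod.IsFinLocFreeOfRank 1 A)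
    (hQ : FlatMod.IsFinLocFreeOfRank 1 Q) (hd : dg k Q = dg k A + 1) :
    Module.finrank k (Ext Q A 1) = 1 := by
  have h0 : Subsingleton (Q ⟶ A) :=
    subsingleton_of_forall_eq 0 fun f => hom_line_eq_zero hc hQ hA (by omega) f
  have h := HomEuler.hom_sub_ext hc hω (Groth.LocFree.isFinLocFree_of_rank hQ) 1 A
    (Groth.LocFree.isFinLocFree_of_rank hA) (rk_eq hA)
  rw [rk_eq hQ, hd, hg, Module.finrank_zero_of_subsingleton] at h
  push_cast at h
  omega

/-- Existence. -/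
theorem exists_bundle (h : Groth.CurveBridge.IsRegCurve X)
    (hK : FunFld.IsFunctionField k X.functionField) (hc : IsVBCurve k X) {ω : X.Modules}
    (hω : IsDualizing k ω) (hg : Curv2.genus k X = 1) {L : X.Modules} (hL : PicF.IsInvertible L)
    {n : ℤ} (hd : Curv2.deg k X L 1 = 2 * n + 1) :
    ∃ E : X.Modules, FlatMod.IsFinLocFreeOfRank 2 E ∧ Indec E ∧ Nonempty (extPow 2 E ≅ L) := by
  obtain ⟨A, hA, hdA⟩ := GenusOne.exists_line (k := k) h hK n
  have hAi := Groth.LocFree.isInvertible_iff_ofRank_one.2 hA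
  obtain ⟨A', hA', hinv⟩ := Groth.PicAux.exists_isInverseOf hAi
  let Q := CohB1.tensorMod L A'
  have hQi : PicF.IsInvertible Q := Groth.PicAux.isInvertible_tensorMod hL hA'
  have hQ := Groth.LocFree.isInvertible_iff_ofRank_one.1 hQi
  have hdQ : dg k Q = dg k A + 1 := by
    rw [← dg_eq k hQ, ← dg_eq k hA, Groth.EulerDeg.deg_tensor_invertible k hc.dim.le hL hA',
      HomEuler.deg_inverse hc hAi hA' hinv, hd, hdA]
    ring
  have h1 := finrank_ext_line hc hω hg hA hQ hdQ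
  have : Nontrivial (Ext Q A 1) := Module.nontrivial_of_finrank_pos (R := k) (by omega)
  obtain ⟨e, he0⟩ := exists_ne (0 : Ext Q A 1)
  obtain ⟨B, i, p, w, hS, hcl⟩ := Groth.SGA7.Ext1.exists_shortExact_extClass_eq e
  have hA1 := Groth.LocFree.isFinLocFree_of_rank hA
  have hQ1 := Groth.LocFree.isFinLocFree_of_rank hQ
  have hB := Groth.KTheory.LocFree.isFinLocFree_of_shortExact hS hA1 hQ1
  have hns : ¬ IsSplitEpi p := fun hs => he0 <| by
    have h0 := congrArg ((Ext.mk₀ (section_ p)).comp · (zero_add 1)) hS.comp_extClass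
    simp only [Ext.comp_zero] at h0
    rw [Ext.mk₀_comp_mk₀_assoc, IsSplitEpi.id, Ext.mk₀_id_comp] at h0
    rw [← hcl, h0]
  have hr := rk_add hS hA1 hQ1
  dsimp only at hr
  rw [rk_eq hA, rk_eq hQ] at hr
  have hB2 : FlatMod.IsFinLocFreeOfRank 2 B := (show rk B = 2 by omega) ▸ isFinLocFreeOfRank_rk hB
  have hst : St k B := GenusOne.st_ext hc i p w hS hA1 hB hQ1 (by rw [rk_eq hA]; norm_num)
    (by rw [rk_eq hQ]; norm_num) (st_line hA) (st_line hQ)
    (by rw [rk_eq hA, rk_eq hQ, hdQ]; push_cast; ring) hns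
  refine ⟨B, hB2, GenusOne.indec_of_scalar (k := k) (not_isZero_of_rank hB2 (by norm_num))
    (exists_eq_scal hc hB2 (by norm_num) hst), ?_⟩
  obtain ⟨⟨e₂⟩, -⟩ := dg_eq_deg_det hc hS hA hB2 hQ
  obtain ⟨u⟩ := id hinv
  exact ⟨e₂.symm ≪≫ (Groth.PicAux.tensorMod_comm hAi hQi).some ≪≫
    (Groth.PicAux.tensorMod_assoc hL hA' hAi).some ≪≫
    PicGrp.tensorModIso (Iso.refl L) ((Groth.PicAux.tensorMod_comm hA' hAi).some ≪≫ u) ≪≫
    SecTwist.unitorR L⟩

/-- An indecomposable bundle with determinant `L` is an extension by any line of degree `n`. -/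
theorem exists_ext_form (hc : IsVBCurve k X) {ω : X.Modules} (hω : IsDualizing k ω)
    (hg : Curv2.genus k X = 1) {L A A' : X.Modules} (hL : PicF.IsInvertible L)
    {n : ℤ} (hd : Curv2.deg k X L 1 = 2 * n + 1)
    (hA : FlatMod.IsFinLocFreeOfRank 1 A) (hA' : PicF.IsInvertible A')
    (hinv : ClSub.IsInverseOf A A') (hdA : Curv2.deg k X A 1 = n)
    {E : X.Modules} (hE : FlatMod.IsFinLocFreeOfRank 2 E) (hind : Indec E)
    (hdet : Nonempty (extPow 2 E ≅ L)) :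
    ∃ (i : A ⟶ E) (p : E ⟶ CohB1.tensorMod L A') (w : i ≫ p = 0),
      (ShortComplex.mk i p w).ShortExact := by
  have hE' := Groth.LocFree.isFinLocFree_of_rank hE
  have hA1 := Groth.LocFree.isFinLocFree_of_rank hA
  have hAi := Groth.LocFree.isInvertible_iff_ofRank_one.2 hA
  -- the degree
  obtain ⟨G₀, Q₀, i₀, q₀, w₀, hS₀, hG₀, hQ₀, hr₀⟩ :=
    HomEuler.exists_line_ses hc hE' (by rw [rk_eq hE]; norm_num)
  have hQ₀' : FlatMod.IsFinLocFreeOfRank 1 Q₀ :=
    (show rk Q₀ = 1 by rw [rk_eq hE] at hr₀; omega) ▸ isFinLocFreeOfRank_rk hQ₀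
  obtain ⟨-, hdeg⟩ := dg_eq_deg_det hc hS₀ hG₀ hE hQ₀'
  obtain ⟨eL⟩ := id hdet
  have hdE : dg k E = 2 * n + 1 := by
    dsimp only at hdeg
    rw [← hdeg, ← hd, dg_eq k (K0Curve.isInvertible_det hE),
      dg_eq k (Groth.LocFree.isInvertible_iff_ofRank_one.1 hL)]
    exact dg_eq_of_iso k (Groth.LocFree.isFinLocFree_of_rank (K0Curve.isInvertible_det hE)) eL
  have hss := GenusOne.ss_of_indec hc hω hg hE' hind
  have hhom := HomEuler.hom_sub_ext hc hω hA1 2 E hE' (rk_eq hE)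
  rw [rk_eq hA, ← dg_eq k hA, hdA, hdE, hg] at hhom
  push_cast at hhom
  have : Nontrivial (A ⟶ E) := Module.nontrivial_of_finrank_pos (R := k) (by omega)
  obtain ⟨f, hf⟩ := exists_ne (0 : A ⟶ E)
  have hfm : Mono f := by
    obtain ⟨K, I, i, p, j, w, -, -, hp, hj, hfac, hpm, hK', hI, hrk, -, hI0⟩ :=
      exists_image hc hA1 hE' f
    have := hI0 hf
    rw [rk_eq hA] at hrk
    have := hpm (by omega)
    rw [← hfac]; infer_instance
  obtain ⟨G, Q, σ, i, q, w, hS, hσ, hσm, hG, hQ, hrG⟩ := exists_saturation hc hE' hA1 f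
  rw [rk_eq hA] at hrG
  have hr2 := rk_add hS hG hQ
  have hd2 := dg_add k hS hG hQ
  dsimp only at hr2 hd2
  rw [rk_eq hE, hrG] at hr2
  have hG1 : FlatMod.IsFinLocFreeOfRank 1 G := hrG ▸ isFinLocFreeOfRank_rk hG
  have hQ1 : FlatMod.IsFinLocFreeOfRank 1 Q :=
    (show rk Q = 1 by omega) ▸ isFinLocFreeOfRank_rk hQ
  have hle := (dg_le_of_mono k hc.dim.le hA1 hG σ (by rw [rk_eq hA, hrG])).1
  have hge := hss G i hS.mono_f hG (by omega)
  rw [rk_eq hE, hdE, hrG] at hge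
  push_cast at hge
  rw [← dg_eq k hA, hdA] at hle
  have : IsIso σ := isIso_of_mono hc hA1 hG σ (by rw [rk_eq hA, hrG])
    (by rw [← dg_eq k hA, hdA]; omega)
  obtain ⟨⟨e₂⟩, -⟩ := dg_eq_deg_det hc hS hG1 hE hQ1
  obtain ⟨u⟩ := id hinv
  have hQi := Groth.LocFree.isInvertible_iff_ofRank_one.2 hQ1
  let τ : Q ≅ CohB1.tensorMod L A' :=
    (SecTwist.unitorR Q).symm ≪≫ PicGrp.tensorModIso (Iso.refl Q) u.symm ≪≫
      (Groth.PicAux.tensorMod_assoc hQi hAi hA').some.symm ≪≫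
      PicGrp.tensorModIso ((Groth.PicAux.tensorMod_comm hQi hAi).some ≪≫
        PicGrp.tensorModIso (asIso σ) (Iso.refl Q) ≪≫ e₂ ≪≫ eL) (Iso.refl A')
  refine ⟨σ ≫ i, q ≫ τ.hom, by rw [Category.assoc, reassoc_of% w, zero_comp, comp_zero], ?_⟩
  exact ShortComplex.shortExact_of_iso (ShortComplex.isoMk (S₁ := ShortComplex.mk i q w)
    (asIso σ).symm (Iso.refl _) τ (by simp) (by simp)) hS

/-- Uniqueness. -/
theorem bundle_unique (h : Groth.CurveBridge.IsRegCurve X)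
    (hK : FunFld.IsFunctionField k X.functionField) (hc : IsVBCurve k X) {ω : X.Modules}
    (hω : IsDualizing k ω) (hg : Curv2.genus k X = 1) {L : X.Modules} (hL : PicF.IsInvertible L)
    {n : ℤ} (hd : Curv2.deg k X L 1 = 2 * n + 1)
    {E E' : X.Modules} (hE : FlatMod.IsFinLocFreeOfRank 2 E) (hE' : FlatMod.IsFinLocFreeOfRank 2 E')
    (hind : Indec E) (hind' : Indec E')
    (hdet : Nonempty (extPow 2 E ≅ L)) (hdet' : Nonempty (extPow 2 E' ≅ L)) :
    Nonempty (E ≅ E') := by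
  obtain ⟨A, hA, hdA⟩ := GenusOne.exists_line (k := k) h hK n
  have hAi := Groth.LocFree.isInvertible_iff_ofRank_one.2 hA
  obtain ⟨A', hA', hinv⟩ := Groth.PicAux.exists_isInverseOf hAi
  obtain ⟨i, p, w, hS⟩ := exists_ext_form hc hω hg hL hd hA hA' hinv hdA hE hind hdet
  obtain ⟨i', p', w', hS'⟩ := exists_ext_form hc hω hg hL hd hA hA' hinv hdA hE' hind' hdet'
  have hQ := Groth.LocFree.isInvertible_iff_ofRank_one.1 (Groth.PicAux.isInvertible_tensorMod hL hA')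
  have hdQ : dg k (CohB1.tensorMod L A') = dg k A + 1 := by
    rw [← dg_eq k hQ, ← dg_eq k hA, Groth.EulerDeg.deg_tensor_invertible k hc.dim.le hL hA',
      HomEuler.deg_inverse hc hAi hA' hinv, hd, hdA]
    ring
  have hns := not_isSplitEpi_of_indec hS hA hQ hind
  have hns' := not_isSplitEpi_of_indec hS' hA hQ hind'
  obtain ⟨c, hc'⟩ := (finrank_eq_one_iff_of_nonzero' _ (extClass_ne_zero hS hns)).1
    (finrank_ext_line hc hω hg hA hQ hdQ) hS'.extClass
  refine nonempty_iso_of_smul hS hS' hc'.symm (extClass_ne_zero hS' hns') hns fun ψ hψ => ?_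
  exact isIso_of_stable hc (Groth.LocFree.isFinLocFree_of_rank hQ) (st_line hQ) ψ hψ

end Groth.VBCurves.GenusOneOdd
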