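import Groth.Agent.DegMono.LocFree
import Groth.Agent.LocFree.SES
import Groth.Agent.QCohMod.Coherent
import Groth.Agent.CurveBridge.SmoothCurve
import Groth.Agent.EulerDeg.Coherent

/-!
# Subsheaves of vector bundles on regular curves

On a regular integral curve a coherent subsheaf of a vector bundle is a vector bundle; every
morphism of vector bundles factors through a vector bundle, with additive ranks and degrees.
-/

set_option autoImplicit false

universe u

open CategoryTheory CategoryTheory.Limits AlgebraicGeometry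
open Groth.KTheory.LocFree (stalkₗ)

namespace Groth.VBCurves

variable {X : Scheme.{u}}

/-- All local rings are principal ideal rings. -/
def PIDStalks (X : Scheme.{u}) : Prop := ∀ x : X, IsPrincipalIdealRing (X.presheaf.stalk x)

/-- The standing hypotheses of this library: a regular integral curve, proper over `k`. -/
structure IsVBCurve (k : Type u) [Field k] (X : Scheme.{u}) [X.Over (Spec (CommRingCat.of k))] :
    Prop where
  integral : IsIntegral X
  proper : IsProper (X ↘ Spec (CommRingCat.of k))
  dim : topologicalKrullDim X = 1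
  pid : PIDStalks X

section General

variable [IsIntegral X]

/-- The rank of a module at the generic point. -/
noncomputable def rk (M : X.Modules) : ℕ :=
  Module.finrank (X.presheaf.stalk (genericPoint X)) (M.presheaf.stalk (genericPoint X))

theorem rk_eq {M : X.Modules} {n : ℕ} (h : FlatMod.IsFinLocFreeOfRank n M) : rk M = n :=
  Groth.LocFree.finrank_stalk h _

/-- A finite locally free module on an integral scheme has constant rank. -/
theorem isFinLocFreeOfRank_rk {M : X.Modules} (h : FlatMod.IsFinLocFree M) :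
    FlatMod.IsFinLocFreeOfRank (rk M) M := by
  refine Groth.LocFree.isFinLocFreeOfRank_iff_finrank.2 ⟨h, fun x => ?_⟩
  have := Groth.KTheory.LocFree.isQCoh h
  obtain ⟨U, n, s, hx, hs⟩ := Groth.PicAux.exists_basis_of_isFinLocFree h x
  have hη : genericPoint X ∈ U := ((genericPoint_spec X).mem_open_set_iff U.isOpen).2 ⟨x, trivial, hx⟩
  exact (Groth.LocFree.finrank_stalk_of_basis hs hx).trans
    (Groth.LocFree.finrank_stalk_of_basis hs hη).symm

/-- A coherent submodule of a finite locally free module is finite locally free when the local rings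
are principal ideal domains. -/
theorem isFinLocFree_of_mono [IsLocallyNoetherian X] (hpid : PIDStalks X) {F E : X.Modules}
    (i : F ⟶ E) [Mono i] (hF : Coh.IsCoh F) (hE : FlatMod.IsFinLocFree E) :
    FlatMod.IsFinLocFree F := by
  refine Groth.KTheory.LocFree.isFinLocFree_of_free_stalks hF fun x => ?_
  have := hpid x
  have := hF.1
  have := Groth.QCohMod.finite_stalk F hF.2 x
  have := Groth.KTheory.LocFree.free_stalk hE x
  have hinj : Function.Injective (stalkₗ i x) :=
    (Groth.QCohMod.mono_iff_stalk i).1 inferInstance x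
  have : Module.IsTorsionFree (X.presheaf.stalk x) (F.presheaf.stalk x) :=
    hinj.moduleIsTorsionFree _ fun c w => map_smul _ c w
  exact Module.free_of_finite_type_torsion_free'

theorem rk_le_of_mono {F E : X.Modules} (i : F ⟶ E) [Mono i] (hE : FlatMod.IsFinLocFree E) :
    rk F ≤ rk E := by
  have := Groth.LocFree.finite_stalk hE (genericPoint X)
  let : Field (X.presheaf.stalk (genericPoint X)) := inferInstanceAs (Field X.functionField)
  have hinj : Function.Injective (stalkₗ i (genericPoint X)) :=
    (Groth.QCohMod.mono_iff_stalk i).1 inferInstance (genericPoint X)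
  exact LinearMap.finrank_le_finrank_of_injective hinj

theorem isZero_of_rk_eq_zero {M : X.Modules} (h : FlatMod.IsFinLocFree M) (h0 : rk M = 0) :
    IsZero M := by
  have h' := h0 ▸ isFinLocFreeOfRank_rk h
  refine (Groth.QCohMod.isZero_iff_stalk M).2 fun x => @AddCommGrpCat.isZero_of_subsingleton _ ?_
  have := Groth.KTheory.LocFree.free_stalk h x
  have := Groth.LocFree.finite_stalk h x
  exact (Module.finrank_zero_iff.1 (Groth.LocFree.finrank_stalk h' x) :
    Subsingleton (M.presheaf.stalk x))

theorem not_isZero_of_rank {M : X.Modules} {r : ℕ} (h : FlatMod.IsFinLocFreeOfRank r M) (hr : 0 < r) :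
    ¬ IsZero M := by
  intro hz
  have := (Groth.QCohMod.isZero_iff_stalk M).1 hz (genericPoint X)
  have hs : Subsingleton (M.presheaf.stalk (genericPoint X)) :=
    AddCommGrpCat.subsingleton_of_isZero this
  have h1 := rk_eq h
  rw [rk, Module.finrank_zero_of_subsingleton] at h1
  omega

/-- Every morphism of vector bundles factors as an epimorphism onto a vector bundle followed by a
monomorphism, with vector bundle kernel. -/
theorem exists_factor [IsLocallyNoetherian X] (hpid : PIDStalks X) {E F : X.Modules}
    (hE : FlatMod.IsFinLocFree E) (hF : FlatMod.IsFinLocFree F) (f : E ⟶ F) :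
    ∃ (S : ShortComplex X.Modules) (j : S.X₃ ⟶ F) (e : S.X₂ = E), S.ShortExact ∧ Mono j ∧
      S.g ≫ j = eqToHom e ≫ f ∧ S.X₁ = kernel f ∧
      FlatMod.IsFinLocFree S.X₁ ∧ FlatMod.IsFinLocFree S.X₃ := by
  have hcE := Groth.KTheory.LocFree.isCoh hE
  have hcF := Groth.KTheory.LocFree.isCoh hF
  have := hcE.1
  have := hcF.1
  have cK : Coh.IsCoh (kernel f) := Groth.QCohMod.isCoh_kernel f hcE
  have := (Groth.QCohMod.isCoh_cokernel f hcF).1
  have cI : Coh.IsCoh (Abelian.image f) := Groth.QCohMod.isCoh_kernel (cokernel.π f) hcF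
  let S := ShortComplex.mk (kernel.ι f) (Abelian.factorThruImage f) (by
    rw [← cancel_mono (Abelian.image.ι f)]; simp)
  have hS : S.ShortExact :=
    { exact := by
        apply ShortComplex.exact_of_f_is_kernel
        refine KernelFork.IsLimit.ofι' _ _ fun {W'} g h => ⟨kernel.lift f g ?_, kernel.lift_ι _ _ _⟩
        have := h =≫ Abelian.image.ι f
        simpa [S] using this
      mono_f := inferInstanceAs (Mono (kernel.ι f))
      epi_g := inferInstanceAs (Epi (Abelian.factorThruImage f)) }
  exact ⟨S, Abelian.image.ι f, rfl, hS, inferInstance, by simp [S], rfl,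
    isFinLocFree_of_mono hpid (kernel.ι f) cK hE,
    isFinLocFree_of_mono hpid (Abelian.image.ι f) cI hF⟩

theorem rk_add {S : ShortComplex X.Modules} (hS : S.ShortExact) (h₁ : FlatMod.IsFinLocFree S.X₁)
    (h₃ : FlatMod.IsFinLocFree S.X₃) : rk S.X₂ = rk S.X₁ + rk S.X₃ :=
  rk_eq (Groth.LocFree.isFinLocFreeOfRank_of_shortExact hS (isFinLocFreeOfRank_rk h₁)
    (isFinLocFreeOfRank_rk h₃))

end General

variable (k : Type u) [Field k] [X.Over (Spec (CommRingCat.of k))]

/-- The degree of a vector bundle, at its own rank. -/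
noncomputable def dg [IsIntegral X] (M : X.Modules) : ℤ := Curv2.deg k X M (rk M)

theorem dg_eq [IsIntegral X] {M : X.Modules} {n : ℕ} (h : FlatMod.IsFinLocFreeOfRank n M) :
    Curv2.deg k X M n = dg k M := by rw [dg, rk_eq h]

theorem dg_add [IsIntegral X] [IsProper (X ↘ Spec (CommRingCat.of k))]
    {S : ShortComplex X.Modules} (hS : S.ShortExact) (h₁ : FlatMod.IsFinLocFree S.X₁)
    (h₃ : FlatMod.IsFinLocFree S.X₃) : dg k S.X₂ = dg k S.X₁ + dg k S.X₃ := by
  rw [dg, rk_add hS h₁ h₃]
  exact Groth.EulerDeg.deg_add hS (Groth.DegMono.finCoh k (Groth.KTheory.LocFree.isCoh h₁))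
    (Groth.DegMono.finCoh k (Groth.KTheory.LocFree.isCoh h₃)) _ _

/-- A monomorphism of vector bundles of equal rank. -/
theorem dg_le_of_mono [IsIntegral X] [IsProper (X ↘ Spec (CommRingCat.of k))]
    (hdim : topologicalKrullDim X ≤ 1) {E F : X.Modules} (hE : FlatMod.IsFinLocFree E)
    (hF : FlatMod.IsFinLocFree F) (f : E ⟶ F) [Mono f] (hr : rk E = rk F) :
    dg k E ≤ dg k F ∧ (dg k E = dg k F ↔ IsIso f) := by
  have h1 := isFinLocFreeOfRank_rk hE
  have h2 := isFinLocFreeOfRank_rk hF
  rw [hr] at h1
  have := Groth.DegMono.deg_le_of_locFree k hdim h1 h2 f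
  rwa [dg, dg, hr]

theorem dg_eq_of_iso [IsIntegral X] [IsProper (X ↘ Spec (CommRingCat.of k))] {E F : X.Modules}
    (hE : FlatMod.IsFinLocFree E) (e : E ≅ F) : dg k E = dg k F := by
  have h2 := Groth.LocFree.isFinLocFreeOfRank_of_iso e (isFinLocFreeOfRank_rk hE)
  rw [dg, dg, rk_eq h2]
  exact Groth.EulerDeg.deg_congr k e _

theorem rk_eq_of_iso [IsIntegral X] {E F : X.Modules} (hE : FlatMod.IsFinLocFree E) (e : E ≅ F) :
    rk E = rk F :=
  (rk_eq (Groth.LocFree.isFinLocFreeOfRank_of_iso e (isFinLocFreeOfRank_rk hE))).symm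

/-- Degrees of subbundles: `deg F ≤ h⁰(E) - rk F · χ(O)`. -/
theorem dg_le_h0_sub [IsIntegral X] [IsProper (X ↘ Spec (CommRingCat.of k))]
    (hdim : topologicalKrullDim X ≤ 1) {F E : X.Modules} (i : F ⟶ E) [Mono i]
    (hE : Coh.IsCoh E) :
    dg k F ≤ (Module.finrank k (Coh.HH X E 0) : ℤ) -
      (rk F : ℤ) * Curv2.euler k X (Coh.structureModule X) := by
  have := hE.1
  have hS : (ShortComplex.mk i (cokernel.π i) (cokernel.condition i)).ShortExact :=
    { exact := ShortComplex.exact_cokernel i }
  have := Groth.EulerDeg.finite_HH k X hE 0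
  have h1 := LinearMap.finrank_le_finrank_of_injective
    (Groth.EulerDeg.injective_zero k hS)
  rw [dg, Curv2.deg, Groth.EulerDeg.euler_eq_h0_sub_h1 k X hdim F]
  dsimp only at h1
  omega

section Curve

theorem IsVBCurve.of_smooth [IsIntegral X] [IsProper (X ↘ Spec (CommRingCat.of k))]
    [Smooth (X ↘ Spec (CommRingCat.of k))] (hdim : topologicalKrullDim X = 1) : IsVBCurve k X := by
  refine ⟨‹_›, ‹_›, hdim, fun x => ?_⟩
  have h := Groth.CurveBridge.isRegCurve_of_smooth k X hdim
  by_cases hx : IsClosed ({x} : Set X)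
  · have := h.dvr (k := k) ⟨x, hx⟩
    infer_instance
  · obtain rfl := Groth.Curves1.CurveMor.eq_genericPoint_of_not_isClosed
      (X ↘ Spec (CommRingCat.of k)) hdim.le hx
    let : Field (X.presheaf.stalk (genericPoint X)) := inferInstanceAs (Field X.functionField)
    infer_instance

theorem IsVBCurve.of_connected [IsProper (X ↘ Spec (CommRingCat.of k))]
    [Smooth (X ↘ Spec (CommRingCat.of k))] [GeometricallyConnected (X ↘ Spec (CommRingCat.of k))]
    (hdim : topologicalKrullDim X = 1) : IsVBCurve k X := by
  have := GeometricallyConnected.connectedSpace_of_subsingleton (X ↘ Spec (CommRingCat.of k))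
  have := Groth.CurveBridge.isIntegral_of_smooth k X
  exact IsVBCurve.of_smooth k hdim

end Curve

end Groth.VBCurves
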