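import Groth.Agent.KTheory.ExtFiltSheaf
import Groth.Agent.LocFree.ExtFunctor
import Groth.Agent.QCohMod.Coherent

/-!
# The determinant of an extension
-/

set_option autoImplicit false
set_option linter.unusedSectionVars false

universe u

open CategoryTheory CategoryTheory.Limits AlgebraicGeometry TopologicalSpace TensorProduct

namespace Groth.VBCurves.DetExact

open Groth.PicAux Groth.LocFree Groth.KTheory.ExtFilt
open Groth.QCohMod (appₗ)

variable {X : Scheme.{u}}

/-- Exterior powers above the rank vanish. -/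
theorem subsingleton_extPow {E : X.Modules} {r i : ℕ} (hE : FlatMod.IsFinLocFreeOfRank r E)
    (h : r < i) (U : X.Opens) : Subsingleton Γ(extPow i E, U) := by
  have h1 := isFinLocFreeOfRank_extPow hE i
  rw [Nat.choose_eq_zero_of_lt h] at h1
  rw [isFinLocFreeOfRank_iff] at h1
  refine subsingleton_of_forall_eq 0 fun m => ?_
  choose V s hx hs using h1
  refine Groth.PicAux.res_ext (M := extPow i E) (fun x : U => U ⊓ V x.1) (fun x => inf_le_left)
    (fun z hz => Opens.mem_iSup.2 ⟨⟨z, hz⟩, hz, hx z⟩) fun x => ?_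
  obtain ⟨a, ha⟩ := (hs x.1 (U ⊓ V x.1) inf_le_right).2 (res (extPow i E) inf_le_left m)
  obtain ⟨b, hb⟩ := (hs x.1 (U ⊓ V x.1) inf_le_right).2 (res (extPow i E) inf_le_left 0)
  rw [← ha, ← hb, Subsingleton.elim a b]

/-- `det B ≅ det A ⊗ det C`. -/
theorem nonempty_det_iso {S : ShortComplex X.Modules} (hS : S.ShortExact) {a b : ℕ}
    (h₁ : FlatMod.IsFinLocFreeOfRank a S.X₁) (h₂ : FlatMod.IsFinLocFree S.X₂)
    (h₃ : FlatMod.IsFinLocFreeOfRank b S.X₃) :
    ∃ θ : CohB1.tensorMod (extPow a S.X₁) (extPow b S.X₃) ⟶ extPow (a + b) S.X₂, Epi θ := by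
  have h₁' := isFinLocFree_of_rank h₁
  have h₃' := isFinLocFree_of_rank h₃
  have := KTheory.LocFree.isQCoh h₁'
  have := KTheory.LocFree.isQCoh h₂
  have := KTheory.LocFree.isQCoh h₃'
  obtain ⟨φ, hφ⟩ := exists_phi S.f (rfl : a + b = a + b)
  obtain ⟨π, hπ⟩ := exists_piHom (A := S.X₁) S.g a b
  have := isQCoh_extPow a S.X₁
  have := isQCoh_extPow b S.X₂
  have := isQCoh_extPow b S.X₃
  have := isQCoh_extPow (a + b) S.X₂
  have := Groth.QCohMod.isQCoh_tensorMod (M := extPow a S.X₁) (N := extPow b S.X₂)
  have := Groth.QCohMod.isQCoh_tensorMod (M := extPow a S.X₁) (N := extPow b S.X₃)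
  have hπepi : Epi π := Groth.QCohMod.epi_of_affine_surjective π fun U hU y => by
    obtain ⟨-, -, hs⟩ := sections_exact hS hU
    obtain ⟨z, rfl⟩ := (tau a b S.X₁ S.X₃ hU).surjective y
    obtain ⟨w, rfl⟩ := LinearMap.lTensor_surjective (ESec a S.X₁ U)
      (exteriorPower.map_surjective (n := b) hs) z
    exact ⟨_, hπ U hU w⟩
  -- the kernel of the projection dies in the top power
  have hker : kernel.ι π ≫ φ = 0 := hom_ext_affine fun U hU x => by
    have := Groth.LocFree.projective_sections h₃' hU
    obtain ⟨hi, he, hs⟩ := sections_exact hS hU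
    obtain ⟨z, hz⟩ := (tau a b S.X₁ S.X₂ hU).surjective ((kernel.ι π).app U x)
    have h0 : π.app U ((kernel.ι π).app U x) = 0 :=
      congr($(congrArg (fun ψ : kernel π ⟶ _ => ψ.app U) (kernel.condition π)) x)
    rw [← hz, hπ U hU, LinearEquiv.map_eq_zero_iff] at h0
    change φ.app U ((kernel.ι π).app U x) = 0
    rw [← hz, hφ U hU]
    rcases Nat.eq_zero_or_pos b with hb | hb
    · subst hb
      rw [eq_zero_of_pi_eq_zero hi he hs h0, map_zero, map_zero]
    · obtain ⟨q, rfl⟩ : ∃ q, b = q + 1 := ⟨b - 1, by omega⟩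
      obtain ⟨z', hz'⟩ := mu_mem_range_succ hi he hs rfl (show a + 1 + q = a + (q + 1) by omega) h0
      have h0' : z' = 0 := by
        have : Subsingleton (ESec (a + 1) S.X₁ U) :=
          (extEquiv (a + 1) S.X₁ hU).toEquiv.subsingleton_congr.2
            (subsingleton_extPow h₁ (by omega) U)
        induction z' using TensorProduct.induction_on with
        | zero => rfl
        | tmul s t => rw [Subsingleton.elim (α := ESec (a + 1) S.X₁ U) s 0, TensorProduct.zero_tmul]
        | add s t hs ht => exact Subsingleton.elim (α := ESec (a + 1) S.X₁ U ⊗[Γ(X, U)] ESec q S.X₂ U) _ _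
      rw [← hz', h0', map_zero, map_zero]
  refine ⟨Abelian.epiDesc π φ hker, ?_⟩
  have hφepi : Epi φ := Groth.QCohMod.epi_of_affine_surjective φ fun U hU y => by
    have := Groth.LocFree.projective_sections h₃' hU
    obtain ⟨hi, he, hs⟩ := sections_exact hS hU
    obtain ⟨y', rfl⟩ := (extEquiv (a + b) S.X₂ hU).surjective y
    have key : ∀ (p q : ℕ) (h : p + q = a + b), p ≤ a →
        Function.Surjective (mu (appₗ S.f U) h) := by
      intro p
      induction p with
      | zero => exact fun q h _ => mu_surjective h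
      | succ p ih =>
        intro q h hp y
        obtain ⟨z, rfl⟩ := ih (q + 1) (by omega) (by omega) y
        refine mu_mem_range_succ hi he hs _ h ?_
        have : Subsingleton (ESec (q + 1) S.X₃ U) :=
          (extEquiv (q + 1) S.X₃ hU).toEquiv.subsingleton_congr.2
            (subsingleton_extPow h₃ (by omega) U)
        generalize pi (appₗ S.g U) z = w
        induction w using TensorProduct.induction_on with
        | zero => rfl
        | tmul s t => rw [Subsingleton.elim (α := ESec (q + 1) S.X₃ U) t 0, TensorProduct.tmul_zero]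
        | add s t hs ht => rw [hs, ht, add_zero]
    obtain ⟨z, rfl⟩ := key a b rfl le_rfl y'
    exact ⟨_, hφ U hU z⟩
  have : Epi (π ≫ Abelian.epiDesc π φ hker) := by rw [Abelian.comp_epiDesc]; exact hφepi
  exact epi_of_epi π _

end Groth.VBCurves.DetExact
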