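import Groth.Agent.VBCurves.Duality
import Groth.Agent.VBCurves.Split
import Groth.Agent.PnCoh.TwistSplit
import Groth.Agent.Duality.PnStalk
import Groth.Agent.Variety2.ProjBasics
import Groth.Agent.Variety2.ProjDim
import Groth.Agent.SerreH0.Basic

/-!
# Vector bundles on the projective line
-/

set_option autoImplicit false
set_option linter.unusedSectionVars false

universe u

open CategoryTheory CategoryTheory.Limits AlgebraicGeometry TopologicalSpace
open Groth.PicAux

namespace Groth.VBCurves.P1Split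

variable {k : Type u} [Field k]

local notation "ℙ" => CohB1.ProjSpace 1 k
local notation "O(" a ")" => Twist.twistProjSpace 1 k a

instance instIntegral : IsIntegral ℙ := Groth.SerreH0.isIntegral_projSpace 1 k

instance instProper : IsProper (ℙ ↘ Spec (CommRingCat.of k)) :=
  Groth.Variety2.isProper_projSpace_toSpec 1 k

instance instSmooth : Smooth (ℙ ↘ Spec (CommRingCat.of k)) := Groth.Duality.Pn.smooth_toSpec 1 k

theorem isVBCurve : IsVBCurve k ℙ :=
  IsVBCurve.of_smooth k (by rw [Groth.Variety2.PSpace.dim_projSpace]; rfl)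

theorem twist_inv (a : ℤ) : PicF.IsInvertible O(a) := Groth.PnCoh.isInvertible_twist 1 k a

theorem twist_rank (a : ℤ) : FlatMod.IsFinLocFreeOfRank 1 O(a) :=
  Groth.LocFree.isInvertible_iff_ofRank_one.1 (twist_inv a)

theorem isFinLocFreeOfRank_zero {X : Scheme.{u}} {M : X.Modules} (h : IsZero M) :
    FlatMod.IsFinLocFreeOfRank 0 M := by
  have hz : IsZero (FlatMod.freeMod X 0) :=
    (IsZero.iff_id_eq_zero _).2 (Sigma.hom_ext _ _ fun i => i.elim0)
  exact Groth.LocFree.isFinLocFreeOfRank_of_iso (hz.iso h)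
    (Groth.LocFree.isFinLocFreeOfRank_freeMod X 0)

/-- Splitting off the first summand. -/
noncomputable def consIso {X : Scheme.{u}} {m : ℕ} (M : Fin (m + 1) → X.Modules) :
    M 0 ⊞ (∐ fun i : Fin m => M i.succ) ≅ ∐ M where
  hom := biprod.desc (Sigma.ι M 0) (Sigma.desc fun i => Sigma.ι M i.succ)
  inv := Sigma.desc fun i =>
    Fin.cases (motive := fun i => M i ⟶ M 0 ⊞ (∐ fun i : Fin m => M i.succ)) biprod.inl
      (fun j => Sigma.ι (fun i : Fin m => M i.succ) j ≫ biprod.inr) i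
  hom_inv_id := by
    refine biprod.hom_ext' _ _ ?_ (Sigma.hom_ext _ _ fun j => ?_) <;> simp
  inv_hom_id := by
    refine Sigma.hom_ext _ _ fun i => ?_
    induction i using Fin.cases <;> simp

theorem coprod_rank {X : Scheme.{u}} : ∀ {m : ℕ} (M : Fin m → X.Modules),
    (∀ i, FlatMod.IsFinLocFreeOfRank 1 (M i)) → FlatMod.IsFinLocFreeOfRank m (∐ M)
  | 0, M, _ => isFinLocFreeOfRank_zero
      ((IsZero.iff_id_eq_zero _).2 (Sigma.hom_ext _ _ fun i => i.elim0))
  | m + 1, M, h => by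
    have := Groth.LocFree.isFinLocFreeOfRank_of_iso (consIso M)
      (Groth.LocFree.isFinLocFreeOfRank_biprod (h 0) (coprod_rank _ fun i => h i.succ))
    rwa [Nat.add_comm 1 m] at this

theorem coprod_rank_fintype {X : Scheme.{u}} {ι : Type} [Fintype ι] (M : ι → X.Modules)
    (h : ∀ i, FlatMod.IsFinLocFreeOfRank 1 (M i)) :
    FlatMod.IsFinLocFreeOfRank (Fintype.card ι) (∐ M) :=
  Groth.LocFree.isFinLocFreeOfRank_of_iso (Sigma.reindex (Fintype.equivFin ι).symm M)
    (coprod_rank _ fun _ => h _)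

/-- No maps `O(a) → O(b)` for `b < a`. -/
theorem hom_twist_eq_zero {a b : ℤ} (h : b < a) (f : O(a) ⟶ O(b)) : f = 0 := by
  have hgen := Groth.PnCoh.irrelevant_le_span_one 1 k
  obtain ⟨t₁⟩ : Nonempty ((tw O(-a)).obj O(a) ≅ O(a + -a)) :=
    Ega2Proj.nonempty_tensor_iso hgen a (-a)
  obtain ⟨t₂⟩ : Nonempty ((tw O(-a)).obj O(b) ≅ O(b + -a)) :=
    Ega2Proj.nonempty_tensor_iso hgen b (-a)
  obtain ⟨z⟩ : Nonempty (O(0) ≅ Coh.structureModule ℙ) :=
    Groth.PnCoh.nonempty_twist_zero_iso (CohB1.polyGrading 1 k)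
  have hL : PicF.IsInvertible O(-a) := twist_inv (-a)
  have := isEquivalence_tensorRightMod_of_isInvertible hL
  have : PreservesBinaryBiproducts (tw O(-a)) :=
    preservesBinaryBiproducts_of_preservesBinaryProducts (tw O(-a))
  have := Functor.additive_of_preservesBinaryBiproducts (tw O(-a))
  let i₁ : Coh.structureModule ℙ ≅ (tw O(-a)).obj O(a) :=
    z.symm ≪≫ eqToIso (by rw [add_neg_cancel]) ≪≫ t₁.symm
  have h0 : i₁.hom ≫ (tw O(-a)).map f ≫ t₂.hom = 0 := by
    refine hom_structure_ext ?_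
    have : Subsingleton (Coh.HH ℙ O(b + -a) 0) :=
      (Groth.SerreH0.subsingleton_twist_zero_iff le_rfl _).2 (by omega)
    have : Subsingleton Γ(O(b + -a), ⊤) :=
      (Groth.EulerDeg.h0Equiv k O(b + -a)).symm.toEquiv.subsingleton
    exact Subsingleton.elim _ _
  exact (tw O(-a)).map_injective
    ((zero_of_comp_mono t₂.hom (zero_of_epi_comp i₁.hom h0)).trans ((tw O(-a)).map_zero _ _).symm)

theorem ne_zero_of_mono {X : Scheme.{u}} [IsIntegral X] {L E : X.Modules}
    (hL : FlatMod.IsFinLocFreeOfRank 1 L) (f : L ⟶ E) (hf : Mono f) : f ≠ 0 := fun h =>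
  not_isZero_of_rank hL one_pos ((IsZero.iff_id_eq_zero L).2 (by rw [← cancel_mono f, h]; simp))

theorem hom_coprod_eq_zero {X : Scheme.{u}} {ι : Type} [Fintype ι] {A : X.Modules}
    (M : ι → X.Modules) (f : A ⟶ ∐ M) (h : ∀ i, ∀ g : A ⟶ M i, g = 0) : f = 0 := by
  classical
  rw [← Category.comp_id f, ← sum_proj_ι M, Preadditive.comp_sum]
  refine Finset.sum_eq_zero fun i _ => ?_
  rw [← Category.assoc, h i (f ≫ _), zero_comp]

/-- A nonzero map between twists in increasing order. -/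
theorem exists_hom_twist_ne_zero {a b : ℤ} (h : a ≤ b) : ∃ u : O(a) ⟶ O(b), u ≠ 0 := by
  have hgen := Groth.PnCoh.irrelevant_le_span_one 1 k
  obtain ⟨t₁⟩ : Nonempty ((tw O(-a)).obj O(a) ≅ O(a + -a)) :=
    Ega2Proj.nonempty_tensor_iso hgen a (-a)
  obtain ⟨t₂⟩ : Nonempty ((tw O(-a)).obj O(b) ≅ O(b + -a)) :=
    Ega2Proj.nonempty_tensor_iso hgen b (-a)
  obtain ⟨z⟩ : Nonempty (O(0) ≅ Coh.structureModule ℙ) :=
    Groth.PnCoh.nonempty_twist_zero_iso (CohB1.polyGrading 1 k)
  have hL : PicF.IsInvertible O(-a) := twist_inv (-a)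
  have := isEquivalence_tensorRightMod_of_isInvertible hL
  have : PreservesBinaryBiproducts (tw O(-a)) :=
    preservesBinaryBiproducts_of_preservesBinaryProducts (tw O(-a))
  have := Functor.additive_of_preservesBinaryBiproducts (tw O(-a))
  obtain ⟨σ, hσ⟩ := (Groth.SerreH0.sections_ne_zero_iff O(b + -a)).1 fun hsub => by
    have := (Groth.SerreH0.subsingleton_twist_zero_iff le_rfl _).1 hsub
    omega
  let i₁ : Coh.structureModule ℙ ≅ (tw O(-a)).obj O(a) :=
    z.symm ≪≫ eqToIso (by rw [add_neg_cancel]) ≪≫ t₁.symm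
  refine ⟨(tw O(-a)).preimage (i₁.inv ≫ σ ≫ t₂.inv), fun h0 => hσ ?_⟩
  have h1 := congrArg (tw O(-a)).map h0
  rw [Functor.map_preimage, Functor.map_zero] at h1
  exact zero_of_comp_mono t₂.inv (zero_of_epi_comp i₁.inv h1)

/-- Lifting maps from a twist through an extension by a twist. -/
theorem exists_lift {S : ShortComplex (CohB1.ProjSpace 1 k).Modules} (hS : S.ShortExact) {a e : ℤ}
    (α : S.X₁ ≅ O(a)) (hae : e ≤ a + 1) (v : O(e) ⟶ S.X₃) : ∃ w : O(e) ⟶ S.X₂, w ≫ S.g = v := by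
  have hgen := Groth.PnCoh.irrelevant_le_span_one 1 k
  obtain ⟨t₁⟩ : Nonempty ((tw O(-e)).obj O(a) ≅ O(a + -e)) :=
    Ega2Proj.nonempty_tensor_iso hgen a (-e)
  obtain ⟨t₂⟩ : Nonempty ((tw O(-e)).obj O(e) ≅ O(e + -e)) :=
    Ega2Proj.nonempty_tensor_iso hgen e (-e)
  obtain ⟨z⟩ : Nonempty (O(0) ≅ Coh.structureModule ℙ) :=
    Groth.PnCoh.nonempty_twist_zero_iso (CohB1.polyGrading 1 k)
  have hL : PicF.IsInvertible O(-e) := twist_inv (-e)
  have := isEquivalence_tensorRightMod_of_isInvertible hL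
  have : PreservesBinaryBiproducts (tw O(-e)) :=
    preservesBinaryBiproducts_of_preservesBinaryProducts (tw O(-e))
  have := Functor.additive_of_preservesBinaryBiproducts (tw O(-e))
  let F := tw O(-e)
  have hT : (S.map F).ShortExact := shortExact_tensorRightMod hL hS
  have h1 : Subsingleton (Coh.HH ℙ (S.map F).X₁ 1) :=
    (Groth.EulerDeg.hEquiv k (F.mapIso α ≪≫ t₁) 1).toEquiv.subsingleton_congr.2
      (Groth.PnCoh.subsingleton_HH_twist (n := 1) (R := k) (a + -e) 1 (by omega) (by omega))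
  let i₂ : Coh.structureModule ℙ ≅ F.obj O(e) :=
    z.symm ≪≫ eqToIso (by rw [add_neg_cancel]) ≪≫ t₂.symm
  obtain ⟨x, hx⟩ := surjective_app_top k hT h1 ((i₂.hom ≫ F.map v).app ⊤ (oneSec _ ⊤))
  have hσ : homOfSection x ≫ F.map S.g = i₂.hom ≫ F.map v := hom_structure_ext (by
    change (F.map S.g).app ⊤ ((homOfSection x).app ⊤ (oneSec _ ⊤)) = _
    rw [homOfSection_one]
    exact hx)
  refine ⟨F.preimage (i₂.inv ≫ homOfSection x), F.map_injective ?_⟩
  rw [F.map_comp, F.map_preimage, Category.assoc]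
  exact (congrArg (i₂.inv ≫ ·) hσ).trans (Iso.inv_hom_id_assoc _ _)

/-- Existence of the splitting, with the degrees in decreasing order. -/
theorem exists_split : ∀ (r : ℕ) (E : (CohB1.ProjSpace 1 k).Modules),
    FlatMod.IsFinLocFreeOfRank r E →
    ∃ d : Fin r → ℤ, Antitone d ∧ Nonempty (E ≅ ∐ fun i : Fin r => O(d i))
  | 0, E, hE => by
    refine ⟨Fin.elim0, fun i => i.elim0, ⟨IsZero.iso ?_ ?_⟩⟩
    · exact isZero_of_rk_eq_zero (Groth.LocFree.isFinLocFree_of_rank hE) (rk_eq hE)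
    · exact (IsZero.iff_id_eq_zero _).2 (Sigma.hom_ext _ _ fun i => i.elim0)
  | r + 1, E, hE => by
    classical
    have hc := isVBCurve (k := k)
    have hE' := Groth.LocFree.isFinLocFree_of_rank hE
    -- saturated line subbundles
    have hsat : ∀ {L : (CohB1.ProjSpace 1 k).Modules} (_ : PicF.IsInvertible L) (f : L ⟶ E), f ≠ 0 →
        ∃ (a : ℤ) (S : ShortComplex (CohB1.ProjSpace 1 k).Modules), S.ShortExact ∧
          S.X₂ = E ∧ Nonempty (S.X₁ ≅ O(a)) ∧ FlatMod.IsFinLocFreeOfRank r S.X₃ ∧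
          ∃ g : L ⟶ O(a), g ≠ 0 := by
      intro L hL f hf
      have hL1 := Groth.LocFree.isInvertible_iff_ofRank_one.1 hL
      obtain ⟨K, I, i, p, j, w, -, hi, hp, hj, hpj, -, hK, hI, hr, -, hpos⟩ :=
        exists_image hc (Groth.LocFree.isFinLocFree_of_rank hL1) hE' f
      rw [rk_eq hL1] at hr
      have := hpos hf
      obtain ⟨G', Q, σ, i', q, w', hS', hσi, hσ, hG', hQ, hrG⟩ := exists_saturation hc hE' hI j
      have hG1 : FlatMod.IsFinLocFreeOfRank 1 G' := by
        have := isFinLocFreeOfRank_rk hG'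
        rwa [show rk G' = 1 by omega] at this
      obtain ⟨a, ⟨α⟩⟩ : ∃ a : ℤ, Nonempty (G' ≅ O(a)) :=
        Groth.PnCoh.exists_iso_twist_of_isInvertible le_rfl G'
        (Groth.LocFree.isInvertible_iff_ofRank_one.2 hG1)
      have hQr : FlatMod.IsFinLocFreeOfRank r Q := by
        have := isFinLocFreeOfRank_rk hQ
        have h2 := rk_add hS' hG' hQ
        dsimp only at h2
        rw [rk_eq hE, rk_eq hG1] at h2
        rwa [show rk Q = r by omega] at this
      refine ⟨a, ShortComplex.mk i' q w', hS', rfl, ⟨α⟩, hQr, p ≫ σ ≫ α.hom, fun h0 => ?_⟩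
      have h0' : (p ≫ σ) ≫ α.hom = 0 := (Category.assoc p σ α.hom).trans h0
      exact hf (by rw [← hpj, ← hσi, ← Category.assoc,
        zero_of_comp_mono α.hom h0', zero_comp])
    obtain ⟨N, m, p, hN, hp⟩ := exists_epi_of_line hc hE'
    obtain ⟨i, hi⟩ : ∃ i, (tw N).map (Sigma.ι (fun _ : Fin m => Coh.structureModule ℙ) i) ≫ p ≠ 0 := by
      by_contra hall
      push Not at hall
      have : p = 0 := by
        have := isEquivalence_tensorRightMod_of_isInvertible hN
        have : PreservesBinaryBiproducts (tw N) :=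
          preservesBinaryBiproducts_of_preservesBinaryProducts (tw N)
        have := Functor.additive_of_preservesBinaryBiproducts (tw N)
        have hid := sum_proj_ι (fun _ : Fin m => Coh.structureModule ℙ)
        have h2 : (tw N).map (𝟙 (FlatMod.freeMod ℙ m)) ≫ p = 0 := by
          rw [show 𝟙 (FlatMod.freeMod ℙ m) = _ from hid.symm]
          simp only [Functor.map_sum, Preadditive.sum_comp, Functor.map_comp, Category.assoc, hall,
            comp_zero, Finset.sum_const_zero]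
        rw [CategoryTheory.Functor.map_id] at h2
        exact (Category.id_comp p).symm.trans h2
      have hz : IsZero E := (IsZero.iff_id_eq_zero E).2 (by rw [← cancel_epi p, this]; simp)
      exact not_isZero_of_rank hE (Nat.succ_pos r) hz
    obtain ⟨a₀, S₀, hS₀, hS₀2, ⟨α₀⟩, hQ₀, g₀, hg₀⟩ :=
      hsat (Groth.PicAux.isInvertible_tensorMod (Groth.EulerDeg.isInvertible_structureModule ℙ) hN) _ hi
    obtain ⟨e₀, he₀, ⟨β₀⟩⟩ := exists_split r S₀.X₃ hQ₀
    subst hS₀2
    obtain ⟨B, hB⟩ : ∃ B : ℤ, a₀ ≤ B ∧ ∀ i, e₀ i ≤ B :=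
      ⟨max a₀ (∑ i, |e₀ i|), le_max_left _ _, fun i => (le_abs_self _).trans
        ((Finset.single_le_sum (fun j _ => abs_nonneg (e₀ j)) (Finset.mem_univ i)).trans
          (le_max_right _ _))⟩
    have hbd : ∀ d, B < d → ∀ f : O(d) ⟶ S₀.X₂, f = 0 := by
      intro d hd f
      have h3 : f ≫ S₀.g = 0 := by
        exact zero_of_comp_mono β₀.hom
          (hom_coprod_eq_zero _ _ fun i _ => hom_twist_eq_zero ((hB.2 i).trans_lt hd) _)
      have := hS₀.mono_f
      obtain ⟨l, hl⟩ : ∃ l, l ≫ S₀.f = f := ⟨hS₀.exact.lift f h3, hS₀.exact.lift_f f h3⟩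
      have : l = 0 := by
        exact zero_of_comp_mono α₀.hom (hom_twist_eq_zero (hB.1.trans_lt hd) _)
      rw [← hl, this, zero_comp]
    obtain ⟨d, ⟨f, hf⟩, hmax⟩ := Int.exists_greatest_of_bdd
      (P := fun d => ∃ f : O(d) ⟶ S₀.X₂, f ≠ 0)
      ⟨B, fun z hz => not_lt.1 fun h => hz.elim fun f hf => hf (hbd z h f)⟩
      ⟨a₀, α₀.inv ≫ S₀.f, ne_zero_of_mono (twist_rank a₀) _
        (have := hS₀.mono_f; mono_comp _ _)⟩
    obtain ⟨a, S, hS, hS2, ⟨α⟩, hQ, g, hg⟩ := hsat (twist_inv d) f hf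
    obtain ⟨e, he, ⟨β⟩⟩ := exists_split r S.X₃ hQ
    have had : a ≤ d := by
      refine hmax a ⟨α.inv ≫ S.f ≫ eqToHom hS2, ne_zero_of_mono (twist_rank a) _ ?_⟩
      have := hS.mono_f
      exact mono_comp _ _
    have hda : d ≤ a := not_lt.1 fun h => hg (hom_twist_eq_zero h g)
    obtain rfl : a = d := le_antisymm had hda
    have hea : ∀ i, e i ≤ a := fun i => by
      by_contra hlt
      push Not at hlt
      obtain ⟨u, hu⟩ : ∃ u : O(a + 1) ⟶ O(e i), u ≠ 0 := exists_hom_twist_ne_zero (by omega)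
      obtain ⟨w, hw⟩ := exists_lift hS α le_rfl
        (u ≫ Sigma.ι (fun j => O(e j)) i ≫ β.inv)
      have := hmax (a + 1) ⟨w ≫ eqToHom hS2, fun h => hu ?_⟩
      · omega
      · rw [zero_of_comp_mono (eqToHom hS2) h, zero_comp] at hw
        have h2 := hw.symm =≫ (β.hom ≫ Sigma.desc fun j =>
          if hj : j = i then eqToHom (by rw [hj]) else 0)
        simpa using h2
    choose w hw using fun i : Fin r => exists_lift hS α (by have := hea i; omega)
      (Sigma.ι (fun j => O(e j)) i ≫ β.inv)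
    let sp : ShortComplex.Splitting S :=
      ShortComplex.Splitting.ofExactOfSection S hS.exact (β.hom ≫ Sigma.desc w)
        (by rw [← cancel_epi β.inv, Category.assoc, Category.comp_id]
            refine Sigma.hom_ext _ _ fun i => ?_
            rw [Iso.inv_hom_id_assoc, Sigma.ι_desc_assoc]
            exact hw i) hS.mono_f
    refine ⟨Fin.cons a e, ?_, ⟨(eqToIso hS2.symm) ≪≫ sp.isoBinaryBiproduct ≪≫
      biprod.mapIso α β ≪≫ consIso (fun i : Fin (r + 1) => O((Fin.cons a e : Fin (r + 1) → ℤ) i))⟩⟩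
    intro i j hij
    induction i using Fin.cases with
    | zero => induction j using Fin.cases with
      | zero => exact le_rfl
      | succ j => simpa using hea j
    | succ i => induction j using Fin.cases with
      | zero => exact absurd hij (by simp)
      | succ j => simpa using he (Fin.succ_le_succ_iff.1 hij)

/-- The multiset of degrees is an invariant. -/
theorem card_le {r : ℕ} {d d' : Fin r → ℤ}
    (φ : (∐ fun i : Fin r => O(d i)) ≅ ∐ fun i : Fin r => O(d' i)) (a : ℤ) :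
    (Finset.univ.filter fun i => a ≤ d i).card ≤ (Finset.univ.filter fun i => a ≤ d' i).card := by
  classical
  let s : (∐ fun i : {i : Fin r // a ≤ d i} => O(d i.1)) ⟶ ∐ fun i : Fin r => O(d i) :=
    Sigma.desc fun i => Sigma.ι (fun i : Fin r => O(d i)) i.1
  let t : (∐ fun i : {i : Fin r // a ≤ d' i} => O(d' i.1)) ⟶ ∐ fun i : Fin r => O(d' i) :=
    Sigma.desc fun i => Sigma.ι (fun i : Fin r => O(d' i)) i.1
  let q : (∐ fun i : Fin r => O(d i)) ⟶ ∐ fun i : {i : Fin r // a ≤ d i} => O(d i.1) :=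
    Sigma.desc fun i => if h : a ≤ d i then
      Sigma.ι (fun i : {i : Fin r // a ≤ d i} => O(d i.1)) ⟨i, h⟩ else 0
  let q' : (∐ fun i : Fin r => O(d' i)) ⟶ ∐ fun i : {i : Fin r // a ≤ d' i} => O(d' i.1) :=
    Sigma.desc fun i => if h : a ≤ d' i then
      Sigma.ι (fun i : {i : Fin r // a ≤ d' i} => O(d' i.1)) ⟨i, h⟩ else 0
  have hsq : s ≫ q = 𝟙 _ := Sigma.hom_ext _ _ fun i => by simp [s, q, i.2]
  have hfac : s ≫ φ.hom = (s ≫ φ.hom ≫ q') ≫ t := by
    refine Sigma.hom_ext _ _ fun i => ?_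
    simp only [s, Sigma.ι_desc_assoc, Category.assoc]
    have hid := sum_proj_ι fun j : Fin r => O(d' j)
    conv_lhs => rw [← Category.comp_id φ.hom, ← hid]
    conv_rhs => rw [← Category.id_comp (q' ≫ t), ← hid]
    simp only [Preadditive.comp_sum, Preadditive.sum_comp]
    refine Finset.sum_congr rfl fun j _ => ?_
    by_cases hj : a ≤ d' j
    · simp [q', t, hj]
    · simp only [← Category.assoc]
      rw [hom_twist_eq_zero (lt_of_lt_of_le (not_le.1 hj) i.2) ((Sigma.ι (fun i : Fin r => O(d i)) i.1 ≫ φ.hom) ≫ _)]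
      simp
  have : IsSplitMono s := ⟨⟨q, hsq⟩⟩
  have : Mono (s ≫ φ.hom) := mono_comp _ _
  have : Mono (s ≫ φ.hom ≫ q') := by
    rw [hfac] at this
    exact mono_of_mono _ t
  have h := rk_le_of_mono (s ≫ φ.hom ≫ q')
    (Groth.LocFree.isFinLocFree_of_rank (coprod_rank_fintype _ fun i => twist_rank _))
  rwa [rk_eq (coprod_rank_fintype _ fun i => twist_rank _),
    rk_eq (coprod_rank_fintype _ fun i => twist_rank _), Fintype.card_subtype,
    Fintype.card_subtype] at h

/-- Decreasing sequences are determined by their counting functions. -/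
theorem eq_of_card {r : ℕ} {d d' : Fin r → ℤ} (hd : Antitone d) (hd' : Antitone d')
    (h : ∀ a, (Finset.univ.filter fun i => a ≤ d i).card ≤ (Finset.univ.filter fun i => a ≤ d' i).card)
    : d ≤ d' := fun i => by
  by_contra hlt
  rw [not_le] at hlt
  have h1 : i.1 + 1 ≤ (Finset.univ.filter fun j => d i ≤ d j).card := by
    rw [← Fin.card_Iic i]
    exact Finset.card_le_card fun j hj => Finset.mem_filter.2 ⟨Finset.mem_univ _, hd (Finset.mem_Iic.1 hj)⟩
  have h2 : (Finset.univ.filter fun j => d i ≤ d' j).card ≤ i.1 := by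
    rw [← Fin.card_Iio i]
    refine Finset.card_le_card fun j hj => Finset.mem_Iio.2 ?_
    by_contra hji
    exact absurd ((Finset.mem_filter.1 hj).2.trans (hd' (not_lt.1 hji))) (not_le.2 hlt)
  have := h (d i)
  omega

end Groth.VBCurves.P1Split
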