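import Groth.Agent.VBCurves.Point
import Groth.Agent.PicAux.Powers
import Groth.Agent.CurveBridge.Main

/-!
# Gap values at a point
-/

set_option autoImplicit false

universe u

open CategoryTheory CategoryTheory.Limits AlgebraicGeometry TopologicalSpace

namespace Groth.VBCurves

/-- A counting lemma for gap values. -/
theorem ncard_gaps {f : ℕ → ℕ} {g : ℕ} (h0 : f 0 = 1) (h1 : ∀ n, f n ≤ f (n + 1))
    (h2 : ∀ n, f (n + 1) ≤ f n + 1) (h3 : ∀ n, 2 * g ≤ n + 1 → (f n : ℤ) = n + 1 - g) :
    {n : ℕ | 1 ≤ n ∧ f n = f (n - 1)}.Finite ∧ {n : ℕ | 1 ≤ n ∧ f n = f (n - 1)}.ncard = g := by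
  classical
  have key : ∀ m, ((Finset.Icc 1 m).filter fun n => f n = f (n - 1)).card + f m = m + 1 := by
    intro m
    induction m with
    | zero => simp [h0]
    | succ m ih =>
      rw [show Finset.Icc 1 (m + 1) = insert (m + 1) (Finset.Icc 1 m) by
        ext; simp only [Finset.mem_Icc, Finset.mem_insert]; omega, Finset.filter_insert]
      have := h1 m
      have := h2 m
      by_cases h : f (m + 1) = f (m + 1 - 1)
      · rw [if_pos h, Finset.card_insert_of_notMem (by simp)]
        simp only [Nat.add_sub_cancel] at h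
        omega
      · rw [if_neg h]
        simp only [Nat.add_sub_cancel] at h
        omega
  have heq : {n : ℕ | 1 ≤ n ∧ f n = f (n - 1)} =
      ↑((Finset.Icc 1 (2 * g)).filter fun n => f n = f (n - 1)) := by
    ext n
    simp only [Set.mem_ofPred_eq, Finset.coe_filter, Finset.mem_Icc]
    refine ⟨fun ⟨a, b⟩ => ⟨⟨a, ?_⟩, b⟩, fun ⟨⟨a, _⟩, b⟩ => ⟨a, b⟩⟩
    by_contra hlt
    have e1 := h3 n (by omega)
    have e2 := h3 (n - 1) (by omega)
    rw [b] at e1
    omega
  rw [heq]
  refine ⟨Finset.finite_toSet _, ?_⟩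
  rw [Set.ncard_coe_finset]
  have := key (2 * g)
  have := h3 (2 * g) (by omega)
  omega

variable {k : Type u} [Field k] {X : Scheme.{u}} [X.Over (Spec (CommRingCat.of k))] [IsIntegral X]
  [IsProper (X ↘ Spec (CommRingCat.of k))]

/-- A monomorphism of bundles of the same rank changes `h⁰` by at most the change of the degree. -/
theorem h0_mono_step (hdim : topologicalKrullDim X ≤ 1) {E F : X.Modules} {n : ℕ}
    (hE : FlatMod.IsFinLocFreeOfRank n E) (hF : FlatMod.IsFinLocFreeOfRank n F) (f : E ⟶ F) [Mono f] :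
    Module.finrank k (Coh.HH X E 0) ≤ Module.finrank k (Coh.HH X F 0) ∧
      (Module.finrank k (Coh.HH X F 0) : ℤ) + Curv2.deg k X E n ≤
        Module.finrank k (Coh.HH X E 0) + Curv2.deg k X F n := by
  have hcE := Groth.KTheory.LocFree.isCoh (Groth.LocFree.isFinLocFree_of_rank hE)
  have hcF := Groth.KTheory.LocFree.isCoh (Groth.LocFree.isFinLocFree_of_rank hF)
  have := hcE.1
  have hcQ := Groth.QCohMod.isCoh_cokernel f hcF
  have hS : (ShortComplex.mk f (cokernel.π f) (cokernel.condition f)).ShortExact :=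
    { exact := ShortComplex.exact_cokernel f }
  have hd := Groth.DegMono.deg_eq_add k hdim hcE hcF n f
    (Groth.DegMono.subsingleton_stalk_cokernel hE hF f)
  have := Groth.EulerDeg.finite_HH k X hcF 0
  have := Groth.EulerDeg.finite_HH k X hcQ 0
  have hi := Groth.EulerDeg.injective_zero k hS
  have h1 := LinearMap.finrank_le_finrank_of_injective hi
  have h2 := LinearMap.finrank_range_add_finrank_ker (Groth.EulerDeg.hMap k (cokernel.π f) 0)
  have h3 := Submodule.finrank_le (LinearMap.range (Groth.EulerDeg.hMap k (cokernel.π f) 0))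
  have h4 : LinearMap.ker (Groth.EulerDeg.hMap k (cokernel.π f) 0) =
      LinearMap.range (Groth.EulerDeg.hMap k f 0) :=
    LinearMap.exact_iff.1 (Groth.EulerDeg.exact_mid k hS 0)
  rw [h4, LinearMap.finrank_range_of_inj hi] at h2
  dsimp only at h1 h2 h3
  exact ⟨h1, by omega⟩

variable [IsAlgClosed k]

theorem gaps_point (h : Groth.CurveBridge.IsRegCurve X) (p : X) (hp : IsClosed ({p} : Set X))
    {L : X.Modules} (hL : PicF.IsInvertible L)
    (hLp : ClSub.IsInverseOf L (ClSub.idealMod (Scheme.IdealSheafData.vanishingIdeal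
      (⟨{p}, hp⟩ : Closeds X)))) :
    {n : ℕ | 1 ≤ n ∧ Module.finrank k (Coh.HH X (CohB1.tensorPow L n) 0) =
        Module.finrank k (Coh.HH X (CohB1.tensorPow L (n - 1)) 0)}.Finite ∧
      {n : ℕ | 1 ≤ n ∧ Module.finrank k (Coh.HH X (CohB1.tensorPow L n) 0) =
        Module.finrank k (Coh.HH X (CohB1.tensorPow L (n - 1)) 0)}.ncard = Curv2.genus k X := by
  have hdim := h.dim.le
  have hK := Groth.CurveBridge.isFunctionField (k := k) (X := X) h.dim
  obtain ⟨hD, hdeg⟩ := deg_point k hdim p hp hL hLp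
  set D := Scheme.IdealSheafData.vanishingIdeal (⟨{p}, hp⟩ : Closeds X) with hDdef
  have hI := Groth.PicAux.isInvertible_idealMod hD
  have hinv := fun n => Groth.PicAux.isInvertible_tensorPow hL n
  have hd : ∀ n : ℕ, Curv2.deg k X (CohB1.tensorPow L n) 1 = (n : ℤ) := by
    intro n
    induction n with
    | zero => exact Groth.EulerDeg.deg_structure k
    | succ n ih =>
      show Curv2.deg k X (CohB1.tensorMod (CohB1.tensorPow L n) L) 1 = _
      rw [Groth.EulerDeg.deg_tensor_invertible k hdim (hinv n) hL, ih, hdeg]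
      push_cast; ring
  have step : ∀ n, ∃ f : CohB1.tensorPow L n ⟶ CohB1.tensorPow L (n + 1), Mono f := by
    intro n
    have hS := Groth.PicAux.shortExact_idealMod_twist D (hinv (n + 1))
    obtain ⟨b, -⟩ := Groth.PicAux.exists_braiding (ClSub.idealMod D) (CohB1.tensorPow L (n + 1))
    obtain ⟨a⟩ := Groth.PicAux.tensorMod_assoc (hinv n) hL hI
    obtain ⟨e⟩ := hLp
    obtain ⟨l, -⟩ := Groth.PicAux.exists_leftUnitor (CohB1.tensorPow L (n + 1))
    obtain ⟨l', -⟩ := Groth.PicAux.exists_leftUnitor (CohB1.tensorPow L n)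
    obtain ⟨b', -⟩ := Groth.PicAux.exists_braiding (CohB1.tensorPow L n) (Coh.structureModule X)
    let i : CohB1.tensorPow L n ≅ CohB1.tensorMod (ClSub.idealMod D) (CohB1.tensorPow L (n + 1)) :=
      (b ≪≫ a ≪≫ PicGrp.tensorModIso (Iso.refl _) e ≪≫ b' ≪≫ l').symm
    have := hS.mono_f
    exact ⟨i.hom ≫ _ ≫ l.hom, mono_comp' inferInstance (mono_comp' hS.mono_f inferInstance)⟩
  refine ncard_gaps (f := fun n => Module.finrank k (Coh.HH X (CohB1.tensorPow L n) 0))
    (Groth.CurveBridge.finrank_h0_structure h hK) (fun n => ?_) (fun n => ?_) (fun n hn => ?_)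
  · obtain ⟨f, hf⟩ := step n
    exact (h0_mono_step (k := k) hdim (Groth.LocFree.isInvertible_iff_ofRank_one.1 (hinv n))
      (Groth.LocFree.isInvertible_iff_ofRank_one.1 (hinv (n + 1))) f).1
  · obtain ⟨f, hf⟩ := step n
    have := (h0_mono_step (k := k) hdim (Groth.LocFree.isInvertible_iff_ofRank_one.1 (hinv n))
      (Groth.LocFree.isInvertible_iff_ofRank_one.1 (hinv (n + 1))) f).2
    rw [hd, hd] at this
    push_cast at this
    omega
  · have := Groth.CurveBridge.subsingleton_h1_of_deg_gt h hK (hinv n) (by rw [hd]; omega)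
    have h' := Groth.CurveBridge.riemann_roch h hK (hinv n)
    rw [Module.finrank_zero_of_subsingleton (M := Coh.HH X (CohB1.tensorPow L n) 1), hd] at h'
    push_cast at h'
    omega

end Groth.VBCurves
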