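import Groth.Agent.VBCurves.Slope
import Groth.Agent.EulerDeg.CartierDegree
import Groth.Agent.ModelsGraphs.InterPair
import Groth.Agent.VectorBundles.LineBundleHom
import Groth.Agent.PicAux.PicLaw
import Groth.Agent.PropsBasic2.Reduced
import Groth.Agent.PicAux.Powers

/-!
# The line bundle of a closed point
-/

set_option autoImplicit false

universe u

open CategoryTheory CategoryTheory.Limits AlgebraicGeometry TopologicalSpace

namespace Groth.VBCurves

variable (k : Type u) [Field k] [IsAlgClosed k] {X : Scheme.{u}}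
  [X.Over (Spec (CommRingCat.of k))] [IsProper (X ↘ Spec (CommRingCat.of k))]

/-- A reduced closed point has a one-dimensional space of functions. -/
theorem finrank_quotMod_point (p : X) (hp : IsClosed ({p} : Set X)) :
    Module.finrank k (Coh.HH X (ClSub.quotMod (Scheme.IdealSheafData.vanishingIdeal
      (⟨{p}, hp⟩ : Closeds X))) 0) = 1 := by
  rw [Groth.ModelsGraphs.InterPair.finrank_quotMod]
  set I := Scheme.IdealSheafData.vanishingIdeal (⟨{p}, hp⟩ : Closeds X) with hI
  have hr : IsReduced I.subscheme := Groth.PropsBasic2.isReduced_vanishingIdeal_subscheme _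
  have hrange : Set.range I.subschemeι = {p} := by
    rw [hI, Groth.PropsBasic2.range_vanishingIdeal_subschemeι]
    rfl
  have hsub : Subsingleton I.subscheme := ⟨fun a b => by
    have ha : I.subschemeι a ∈ ({p} : Set X) := hrange ▸ ⟨a, rfl⟩
    have hb : I.subschemeι b ∈ ({p} : Set X) := hrange ▸ ⟨b, rfl⟩
    exact I.subschemeι.isClosedEmbedding.injective (ha.trans hb.symm)⟩
  have hne : Nonempty I.subscheme := by
    obtain ⟨a, -⟩ := (hrange.symm ▸ Set.mem_singleton p : p ∈ Set.range I.subschemeι)
    exact ⟨a⟩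
  have : IrreducibleSpace I.subscheme := by
    have : PreirreducibleSpace I.subscheme := ⟨(Set.subsingleton_of_subsingleton).isPreirreducible⟩
    exact ⟨hne⟩
  have : IsIntegral I.subscheme := isIntegral_of_irreducibleSpace_of_isReduced _
  let g := I.subschemeι ≫ (X ↘ Spec (CommRingCat.of k))
  have hsurj := Groth.VectorBundles.toGlobal_surjective k g
  show Groth.ModelsGraphs.InterPair.dimGl g = 1
  unfold Groth.ModelsGraphs.InterPair.dimGl
  let _ := (g.appTop.hom.comp (Scheme.ΓSpecIso (CommRingCat.of k)).inv.hom).toAlgebra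
  have : Nontrivial Γ(I.subscheme, ⊤) := inferInstance
  exact (LinearEquiv.finrank_eq (LinearEquiv.ofBijective (Algebra.linearMap k Γ(I.subscheme, ⊤))
    ⟨(algebraMap k Γ(I.subscheme, ⊤)).injective, hsurj⟩)).symm.trans (Module.finrank_self k)

/-- `O(p)` has degree one. -/
theorem deg_point (hdim : topologicalKrullDim X ≤ 1) (p : X) (hp : IsClosed ({p} : Set X))
    {L : X.Modules} (hL : PicF.IsInvertible L)
    (hLp : ClSub.IsInverseOf L (ClSub.idealMod (Scheme.IdealSheafData.vanishingIdeal
      (⟨{p}, hp⟩ : Closeds X)))) :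
    BlowUp.IsEffCartierIdeal (Scheme.IdealSheafData.vanishingIdeal (⟨{p}, hp⟩ : Closeds X)) ∧
      Curv2.deg k X L 1 = 1 := by
  have hD : BlowUp.IsEffCartierIdeal
      (Scheme.IdealSheafData.vanishingIdeal (⟨{p}, hp⟩ : Closeds X)) :=
    Groth.PicAux.isInvertible_idealMod_iff.1
      (Groth.PicAux.isInvertible_of_isInverseOf hL hLp)
  refine ⟨hD, ?_⟩
  rw [Groth.EulerDeg.deg_inverse_idealMod k hdim hD hL hLp, finrank_quotMod_point k p hp]
  rfl

end Groth.VBCurves
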