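import Groth.Agent.VBCurves.Duality
import Groth.Agent.VBCurves.Point
import Groth.Agent.VBCurves.Gaps
import Groth.Agent.EulerDeg.FiniteSupport
import Groth.Agent.Curves1.RR.GlobGen

/-!
# Vanishing and global generation for semistable bundles on curves
-/

set_option autoImplicit false
set_option linter.unusedSectionVars false

universe u

open CategoryTheory CategoryTheory.Limits AlgebraicGeometry TopologicalSpace
open scoped Groth.CurveBridge

attribute [local instance] Groth.EulerDeg.secModule

namespace Groth.VBCurves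

variable {k : Type u} [Field k] {X : Scheme.{u}} [X.Over (Spec (CommRingCat.of k))]
  [IsIntegral X] [IsProper (X ↘ Spec (CommRingCat.of k))]

/-- A nonzero finite module over a local ring maps nonzero to the residue field. -/
theorem exists_ne_zero_residue (A : Type*) [CommRing A] [IsLocalRing A] (M : Type*) [AddCommGroup M]
    [Module A M] [Module.Finite A M] [Nontrivial M] :
    ∃ lam : M →ₗ[A] IsLocalRing.ResidueField A, lam ≠ 0 := by
  have : Nontrivial (TensorProduct A (IsLocalRing.ResidueField A) M) :=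
    not_subsingleton_iff_nontrivial.1 fun h =>
      not_subsingleton M ((IsLocalRing.subsingleton_tensorProduct (R := A) (M := M)).1 h)
  obtain ⟨v, hv⟩ := exists_ne (0 : TensorProduct A (IsLocalRing.ResidueField A) M)
  obtain ⟨φ, hφ⟩ := exists_dual_apply_ne_zero (k := IsLocalRing.ResidueField A) hv
  refine ⟨(φ.restrictScalars A).comp
    (TensorProduct.mk A (IsLocalRing.ResidueField A) M 1), fun h0 => hφ ?_⟩
  clear hv
  induction v using TensorProduct.induction_on with
  | zero => rw [map_zero]
  | tmul c m =>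
    rw [show c ⊗ₜ[A] m = c • ((1 : IsLocalRing.ResidueField A) ⊗ₜ[A] m) by
      rw [TensorProduct.smul_tmul', smul_eq_mul, mul_one], map_smul]
    exact (congrArg (c • ·) (LinearMap.congr_fun h0 m)).trans (smul_zero c)
  | add a b ha hb =>
    by_cases h : φ a = 0
    · rw [map_add, h, zero_add] at hφ ⊢
      exact hb hφ
    · exact absurd (ha h) h

/-- A dualizing module exists on a smooth curve with geometrically connected fibre. -/
theorem exists_isDualizing_of_smooth [Smooth (X ↘ Spec (CommRingCat.of k))]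
    (hdim : topologicalKrullDim X = 1)
    (hK : FunFld.IsFunctionField k X.functionField) : ∃ ω : X.Modules, IsDualizing k ω :=
  exists_isDualizing (Groth.CurveBridge.isRegCurve_of_smooth k X hdim) hK
    (IsVBCurve.of_smooth k hdim)

/-- Nonvanishing `H¹`: a corank one subbundle of degree at least `deg E - (2g - 2)`. -/
theorem exists_corank_one (hc : IsVBCurve k X) {ω : X.Modules} (hω : IsDualizing k ω)
    {E : X.Modules} (hE : FlatMod.IsFinLocFree E) (h1 : ¬ Subsingleton (Coh.HH X E 1)) :
    ∃ (G : X.Modules) (j : G ⟶ E), Mono j ∧ FlatMod.IsFinLocFree G ∧ rk G + 1 = rk E ∧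
      dg k E ≤ dg k G + (2 * (Curv2.genus k X : ℤ) - 2) := by
  obtain ⟨f, hf⟩ := hω.exists_ne_zero hc hE h1
  obtain ⟨K, I, i, p, j, w, -, hi, -, hj, -, -, hK, hI, hr, hd, hpos⟩ :=
    exists_image hc hE hω.isFinLocFree f
  have hr1 := rk_eq (Groth.LocFree.isInvertible_iff_ofRank_one.1 hω.inv)
  have hI1 : rk I = 1 := le_antisymm ((rk_le_of_mono j hω.isFinLocFree).trans hr1.le) (hpos hf)
  have hle := (dg_le_of_mono k hc.dim.le hI hω.isFinLocFree j (hI1.trans hr1.symm)).1
  rw [← dg_eq k (Groth.LocFree.isInvertible_iff_ofRank_one.1 hω.inv), hω.deg] at hle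
  exact ⟨K, i, hi, hK, by omega, by linarith⟩

/-- Bounded subbundles force `H¹ = 0` in large degree. -/
theorem subsingleton_h1_of_bnd (hc : IsVBCurve k X) {ω : X.Modules} (hω : IsDualizing k ω)
    {E : X.Modules} (hE : FlatMod.IsFinLocFree E) {d : ℤ} {r : ℕ} (hb : Bnd k E d r)
    (hnum : d * ((rk E : ℤ) - 1) < (dg k E - (2 * (Curv2.genus k X : ℤ) - 2)) * (r : ℤ)) :
    Subsingleton (Coh.HH X E 1) := by
  by_contra h1
  obtain ⟨G, j, hj, hG, hr, hd⟩ := exists_corank_one hc hω hE h1
  have hr' : (rk E : ℤ) - 1 = rk G := by omega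
  rw [hr'] at hnum
  have hle : (dg k E - (2 * (Curv2.genus k X : ℤ) - 2)) * (r : ℤ) ≤ dg k G * (r : ℤ) :=
    mul_le_mul_of_nonneg_right (by linarith) (Int.natCast_nonneg r)
  rcases Nat.eq_zero_or_pos (rk G) with h0 | h0
  · rw [dg_of_rk_zero k hG h0] at hle
    rw [h0, Nat.cast_zero, mul_zero] at hnum
    linarith
  · linarith [hb G j hj hG h0]

/-- Semistable bundles of slope above `2g - 2` have no `H¹`. -/
theorem subsingleton_h1_of_ss (hc : IsVBCurve k X) {ω : X.Modules} (hω : IsDualizing k ω)
    {E : X.Modules} (hE : FlatMod.IsFinLocFree E) (hss : SS k E)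
    (hdeg : (rk E : ℤ) * (2 * (Curv2.genus k X : ℤ) - 2) < dg k E) :
    Subsingleton (Coh.HH X E 1) :=
  subsingleton_h1_of_bnd hc hω hE hss (by linarith)

/-- Stable bundles of rank at least two and slope at least `2g - 2` have no `H¹`. -/
theorem subsingleton_h1_of_st (hc : IsVBCurve k X) {ω : X.Modules} (hω : IsDualizing k ω)
    {E : X.Modules} (hE : FlatMod.IsFinLocFree E) (hst : St k E) (hr : 2 ≤ rk E)
    (hdeg : (rk E : ℤ) * (2 * (Curv2.genus k X : ℤ) - 2) ≤ dg k E) :
    Subsingleton (Coh.HH X E 1) := by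
  by_contra h1
  obtain ⟨G, j, hj, hG, hr', hd⟩ := exists_corank_one hc hω hE h1
  have h := hst G j hj hG (by omega) (by omega)
  have hle : (dg k E - (2 * (Curv2.genus k X : ℤ) - 2)) * (rk E : ℤ) ≤ dg k G * (rk E : ℤ) :=
    mul_le_mul_of_nonneg_right (by linarith) (Int.natCast_nonneg _)
  have hr'' : (rk G : ℤ) = (rk E : ℤ) - 1 := by omega
  rw [hr'', mul_sub] at h
  linarith

/-- Twisting shifts slope bounds. -/
theorem Bnd.twist (hc : IsVBCurve k X) {N : X.Modules} (hN : PicF.IsInvertible N)
    {E : X.Modules} {d : ℤ} {r : ℕ} (h : Bnd k E d r) :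
    Bnd k ((tw N).obj E) (d + (r : ℤ) * Curv2.deg k X N 1) r := by
  obtain ⟨N', hN', hinv⟩ := Groth.PicAux.exists_isInverseOf hN
  intro G j hj hG hpos
  have hinv' := Groth.PicAux.isInverseOf_symm hinv
  have : (tw N').IsEquivalence := Groth.PicAux.isEquivalence_tensorRightMod hinv'
  obtain ⟨a, -⟩ := Groth.PicAux.exists_associator E N N'
  obtain ⟨i⟩ := hinv
  have hdN : Curv2.deg k X N' 1 = -Curv2.deg k X N 1 := by
    have h2 := Groth.EulerDeg.deg_tensor_invertible k hc.dim.le hN hN'
    have h3 : Curv2.deg k X (CohB1.tensorMod N N') 1 = 0 := by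
      rw [Groth.EulerDeg.deg_congr k i 1]
      exact Groth.EulerDeg.deg_structure k
    linarith
  let e : (tw N').obj ((tw N).obj E) ≅ E :=
    a ≪≫ PicGrp.tensorModIso (Iso.refl E) i ≪≫ SecTwist.unitorR E
  have : Mono ((tw N').map j) := (tw N').map_mono j
  have hmono : Mono ((tw N').map j ≫ e.hom) := mono_comp _ _
  obtain ⟨hr1, hd1⟩ := tw_numerics (k := k) hc hN' hG
  have h4 := h ((tw N').obj G) _ hmono (isFinLocFree_tw hN' hG) (by omega)
  rw [hr1, hd1, hdN, add_mul] at h4
  linarith

/-- The residue field skyscraper at a point is quasi-coherent. -/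
theorem isQCoh_sky_residue (x : X) :
    (Groth.QCohMod.sky x (IsLocalRing.ResidueField (X.presheaf.stalk x))).IsQuasicoherent := by
  classical
  refine Groth.QCohMod.isQCoh_of_forall_affine _ (fun U _ f s => ?_) fun U _ f t ht => ?_
  · by_cases h : x ∈ X.basicOpen f
    · refine ⟨0, fun _ => s ⟨h⟩, ?_⟩
      rw [pow_zero, one_smul]
      exact funext fun _ => rfl
    · exact ⟨0, 0, funext fun hx => absurd hx.down h⟩
  · by_cases h : x ∈ X.basicOpen f
    · refine ⟨0, funext fun hx => ?_⟩
      rw [pow_zero, one_smul]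
      exact congrFun ht ⟨h⟩
    · refine ⟨1, funext fun hx => ?_⟩
      change X.presheaf.germ U x hx.down (f ^ 1) • t hx = 0
      have hmem : X.presheaf.germ U x hx.down f ∈ IsLocalRing.maximalIdeal (X.presheaf.stalk x) :=
        (IsLocalRing.mem_maximalIdeal _).2 fun hu => h ((X.mem_basicOpen f x hx.down).2 hu)
      rw [pow_one, Algebra.smul_def, IsLocalRing.ResidueField.algebraMap_eq,
        (IsLocalRing.residue_eq_zero_iff _).2 hmem, zero_mul]

/-- A proper subsheaf of colength one containing the image of a map. -/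
theorem exists_colength_one [IsAlgClosed k] (hc : IsVBCurve k X) {P E : X.Modules}
    (hE : FlatMod.IsFinLocFree E) (hP : Coh.IsCoh P) (f : P ⟶ E) (hf : ¬ Epi f) :
    ∃ (K : X.Modules) (j : K ⟶ E) (g : P ⟶ K), Mono j ∧ g ≫ j = f ∧ FlatMod.IsFinLocFree K ∧
      rk K = rk E ∧ dg k K + 1 = dg k E := by
  classical
  have : IsNoetherian X := Groth.EulerDeg.isNoetherian_of_proper k X
  have : NoetherianSpace X := inferInstance
  have hEc := Groth.KTheory.LocFree.isCoh hE
  have := hP.1
  have := hEc.1
  have hQc := Groth.QCohMod.isCoh_cokernel f hEc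
  have := hQc.1
  have hne : (CohB1.support (cokernel f)).Nonempty := by
    rw [Set.nonempty_iff_ne_empty]
    intro h0
    exact hf (Abelian.epi_of_cokernel_π_eq_zero f
      (((Groth.QCohMod.isZero_iff_support_eq_empty _).2 h0).eq_of_tgt _ 0))
  obtain ⟨x, hxS, hx⟩ := (Groth.CohC3.isClosed_support_of_isCoh _ hQc).exists_closed_singleton hne
  let A := X.presheaf.stalk x
  let N := IsLocalRing.ResidueField A
  have := Groth.QCohMod.finite_stalk (cokernel f) hQc.2 x
  have : Nontrivial ((cokernel f).presheaf.stalk x) := not_subsingleton_iff_nontrivial.1 hxS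
  obtain ⟨lam, hlam⟩ : ∃ lam : (cokernel f).presheaf.stalk x →ₗ[A] N, lam ≠ 0 :=
    exists_ne_zero_residue A _
  let t : ∀ U : X.Opens, x ∈ U → (Γ(E, U) →+ N) := fun U hx' =>
    (lam.toAddMonoidHom.comp ((Groth.QCohMod.stalk x).map (cokernel.π f)).hom).comp
      (Groth.QCohMod.germ E x hx')
  let η : E ⟶ Groth.QCohMod.sky x N := Groth.QCohMod.toSky E t
    (fun U V hVU hxV m => congrArg
      (fun e => lam (Groth.KTheory.LocFree.stalkₗ (cokernel.π f) x e))
      (Groth.QCohMod.germ_res E hVU x hxV m))
    (fun U hxU r m => ((congrArg (fun e => lam (Groth.KTheory.LocFree.stalkₗ (cokernel.π f) x e))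
      (Groth.QCohMod.germ_smul E x hxU r m)).trans (congrArg lam
        ((Groth.KTheory.LocFree.stalkₗ (cokernel.π f) x).map_smul _ _))).trans (lam.map_smul _ _))
  have hη : ∀ (U : X.Opens) (hxU : x ∈ U) (m : Γ(E, U)),
      (show Groth.QCohMod.SkyObj x N U from η.app U m) ⟨hxU⟩ =
        lam ((cokernel f).presheaf.germ U x hxU ((cokernel.π f).app U m)) := fun U hxU m =>
    congrArg lam (Groth.QCohMod.stalk_map_germ (cokernel.π f) x hxU m)
  have hfη : f ≫ η = 0 := Groth.CohTwo.hom_ext_app fun U s => funext fun hxU => by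
    refine (hη U hxU.down (f.app U s)).trans ?_
    have h2 : (cokernel.π f).app U (f.app U s) = 0 := by
      have := congrArg (fun φ => φ.app U s) (cokernel.condition f)
      exact this
    rw [h2, map_zero, map_zero]
    rfl
  have hη0 : η ≠ 0 := fun h0 => hlam (LinearMap.ext fun q => by
    obtain ⟨e, rfl⟩ := (Groth.QCohMod.epi_iff_stalk (cokernel.π f)).1 inferInstance x q
    obtain ⟨U, hxU, m, rfl⟩ := Groth.QCohMod.exists_germ E x e
    rw [Groth.QCohMod.stalk_map_germ]
    refine (hη U hxU m).symm.trans ?_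
    rw [h0]
    rfl)
  let ι := kernel.ι η
  let C := cokernel ι
  let δ : C ⟶ Groth.QCohMod.sky x N := cokernel.desc ι η (kernel.condition η)
  have hδ : Mono δ := inferInstanceAs (Mono (Abelian.factorThruCoimage η))
  have hsky : ∀ y : X, y ≠ x → Subsingleton ((Groth.QCohMod.sky x N).presheaf.stalk y) :=
    fun y hy => subsingleton_of_forall_eq 0 fun s => by
      obtain ⟨U, hU, m, rfl⟩ := Groth.QCohMod.exists_germ (Groth.QCohMod.sky x N) y s
      let W : X.Opens := U ⊓ ⟨({x} : Set X)ᶜ, hx.isOpen_compl⟩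
      rw [← Groth.QCohMod.germ_res _ (inf_le_left : W ≤ U) y ⟨hU, hy⟩ m]
      refine (congrArg _ ?_).trans (map_zero _)
      exact funext fun h => absurd rfl h.down.2
  have hCsupp : ∀ y : X, y ≠ x → Subsingleton (C.presheaf.stalk y) := fun y hy =>
    @Function.Injective.subsingleton _ _ _ ((Groth.QCohMod.mono_iff_stalk δ).1 hδ y) (hsky y hy)
  have hclosed : Groth.EulerDeg.SupportedAtClosed C := fun y hy => by
    rcases eq_or_ne y x with rfl | hne
    · exact hx
    · exact absurd (hCsupp y hne) hy
  have hskyq : (Groth.QCohMod.sky x N).IsQuasicoherent := isQCoh_sky_residue x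
  have hηx : Coh.IsCoh (kernel η) := Groth.QCohMod.isCoh_kernel η hEc
  have hK : FlatMod.IsFinLocFree (kernel η) :=
    isFinLocFree_of_mono hc.pid ι hηx hE
  have hS : (ShortComplex.mk ι (cokernel.π ι) (cokernel.condition ι)).ShortExact :=
    { exact := ShortComplex.exact_cokernel ι }
  have hgen : genericPoint X ≠ x := fun h => by
    have h2 := (Groth.CurveBridge.isClosed_singleton_iff X hc.dim x).1 hx
    exact h2 h.symm
  have hrk : rk (kernel η) = rk E := by
    have := hCsupp _ hgen
    refine (LinearEquiv.ofBijective (Groth.KTheory.LocFree.stalkₗ ι (genericPoint X))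
      ⟨(Groth.QCohMod.mono_iff_stalk ι).1 inferInstance _, fun e => ?_⟩).finrank_eq
    have hex : ((ShortComplex.mk ι (cokernel.π ι) (cokernel.condition ι)).map
        (Groth.QCohMod.stalk (genericPoint X))).Exact := hS.exact.map _
    rw [ShortComplex.ab_exact_iff] at hex
    exact hex e (Subsingleton.elim (α := C.presheaf.stalk (genericPoint X)) _ _)
  have := hηx.1
  have hCc := Groth.QCohMod.isCoh_cokernel ι hEc
  have h0C : Module.finrank k (Coh.HH X C 0) = 1 := by
    have := Groth.EulerDeg.finite_HH k X hCc 0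
    refine le_antisymm ?_ (Nat.one_le_iff_ne_zero.2 fun h0 => hη0 ?_)
    · let _ : Algebra k N := Curv2.resAlgebra k X x
      have hsurj : Function.Surjective (algebraMap k N) := by
        let _ : Algebra k (X.residueField x) := Curv2.resAlgebra k X x
        have := Groth.Curves1.CurveMor.finite_residueField_of_isClosed (k := k) hx
        exact (IsAlgClosed.algebraMap_bijective_of_isIntegral (k := k) (K := X.residueField x)).2
      have hNf : Module.Finite k N := Module.Finite.of_surjective (Algebra.linearMap k N) hsurj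
      let μ : Coh.HH X C 0 →ₗ[k] N :=
        { toFun := fun z => (show Groth.QCohMod.SkyObj x N ⊤ from
            δ.app ⊤ (Groth.EulerDeg.h0Equiv k C z)) ⟨trivial⟩
          map_add' := fun a b => by rw [map_add, map_add]; rfl
          map_smul' := fun a z => by
            rw [map_smul, Groth.EulerDeg.smul_sec, Scheme.Modules.Hom.app_smul, RingHom.id_apply,
              Algebra.smul_def]
            change (IsLocalRing.residue A) (X.presheaf.germ ⊤ x trivial (Groth.EulerDeg.toSec k ⊤ a)) *
              _ = _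
            exact congrArg (· * _) (congrArg (IsLocalRing.residue A)
              (TopCat.Presheaf.germ_res_apply X.presheaf (homOfLE le_top) x (Opens.mem_top x) _)) }
      have hμ : Function.Injective μ := fun a b hab => by
        refine (Groth.EulerDeg.h0Equiv k C).injective (Groth.CurveBridge.app_injective_of_mono δ ⊤ ?_)
        exact funext fun _ => hab
      refine (LinearMap.finrank_le_finrank_of_injective hμ).trans_eq ?_
      exact (LinearEquiv.finrank_eq (LinearEquiv.ofBijective (Algebra.linearMap k N)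
        ⟨(algebraMap k N).injective, hsurj⟩)).symm.trans (Module.finrank_self k)
    · have : Subsingleton (Coh.HH X C 0) := Module.finrank_zero_iff.1 h0
      have hz := Groth.EulerDeg.isZero_of_subsingleton_H0 hclosed this
      rw [show η = cokernel.π ι ≫ δ from (cokernel.π_desc ι η (kernel.condition η)).symm,
        hz.eq_of_src δ 0, comp_zero]
  refine ⟨kernel η, ι, kernel.lift η f hfη, inferInstance, kernel.lift_ι _ _ _, hK, hrk, ?_⟩
  have hd := Groth.EulerDeg.deg_add hS (Groth.EulerDeg.finCoh k X (Groth.KTheory.LocFree.isCoh hK))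
    (Groth.EulerDeg.finCoh k X hCc) (rk E) 0
  dsimp only at hd
  rw [show dg k E = Curv2.deg k X E (rk E) from rfl, show dg k (kernel η) = Curv2.deg k X (kernel η) (rk E)
    by rw [dg, hrk], show rk E + 0 = rk E from rfl] at *
  rw [hd]
  have : Curv2.deg k X C 0 = 1 := by
    unfold Curv2.deg
    rw [Groth.EulerDeg.euler_eq_h0 k hclosed, h0C]
    simp
  rw [this]

/-- Vanishing of `H¹` on all colength one subsheaves gives global generation. -/
theorem isGloballyGenerated_of_h1 [IsAlgClosed k] (hc : IsVBCurve k X) {E : X.Modules}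
    (hE : FlatMod.IsFinLocFree E)
    (h : ∀ (K : X.Modules) (j : K ⟶ E), Mono j → FlatMod.IsFinLocFree K → rk K = rk E →
      dg k K + 1 = dg k E → Subsingleton (Coh.HH X K 1)) :
    Curv2.IsGloballyGenerated E := by
  have : IsNoetherian X := Groth.EulerDeg.isNoetherian_of_proper k X
  have hEc := Groth.KTheory.LocFree.isCoh hE
  have := Groth.EulerDeg.finite_HH k X hEc 0
  let b := Module.finBasis k (Coh.HH X E 0)
  let ev : FlatMod.freeMod X (Module.finrank k (Coh.HH X E 0)) ⟶ E :=
    Sigma.desc fun i => Groth.PicAux.homOfSection (Groth.EulerDeg.h0Equiv k E (b i))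
  have hfree := Groth.KTheory.LocFree.isCoh (Groth.LocFree.isFinLocFree_of_rank
    (Groth.LocFree.isFinLocFreeOfRank_freeMod X (Module.finrank k (Coh.HH X E 0))))
  suffices hev : Epi ev from Groth.Ega2Proj.SpansStalks.isGloballyGenerated
    (Groth.Ega2Proj.spansStalks_of_epi_free ev)
  by_contra hev
  obtain ⟨K, j, g, hj, hgj, hK, hr, hd⟩ := exists_colength_one (k := k) hc hE hfree ev hev
  have h1 := h K j hj hK hr hd
  have hKc := Groth.KTheory.LocFree.isCoh hK
  have := Groth.EulerDeg.finite_HH k X hKc 0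
  have hle : Module.finrank k (Coh.HH X E 0) ≤ Module.finrank k (Coh.HH X K 0) := by
    refine LinearMap.finrank_le_finrank_of_surjective (f := Groth.EulerDeg.hMap k j 0) ?_
    rw [← LinearMap.range_eq_top, ← top_le_iff, ← b.span_eq, Submodule.span_le]
    rintro _ ⟨i, rfl⟩
    refine ⟨(Groth.EulerDeg.h0Equiv k K).symm ((Sigma.ι (fun _ : Fin _ => Coh.structureModule X) i
      ≫ g).app ⊤ (Groth.PicAux.oneSec X ⊤)), (Groth.EulerDeg.h0Equiv k E).injective ?_⟩
    rw [Groth.Curves1.RR.h0Equiv_hMap, LinearEquiv.apply_symm_apply]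
    change (((Sigma.ι (fun _ : Fin _ => Coh.structureModule X) i ≫ g) ≫ j).app ⊤)
      (Groth.PicAux.oneSec X ⊤) = _
    rw [Category.assoc, hgj, Sigma.ι_desc, Groth.PicAux.homOfSection_one]
  have hE1 := Groth.EulerDeg.euler_eq_sub (k := k) (M := E) fun n hn =>
    Groth.EulerDeg.subsingleton_HH_of_dim_le_one X hc.dim.le E n hn
  have hK1 := Groth.EulerDeg.euler_eq_sub (k := k) (M := K) fun n hn =>
    Groth.EulerDeg.subsingleton_HH_of_dim_le_one X hc.dim.le K n hn
  rw [Groth.EulerDeg.finrank_eq_zero_of_subsingleton h1] at hK1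
  have hd' : Curv2.euler k X K + 1 = Curv2.euler k X E := by
    rw [dg, dg, hr] at hd
    unfold Curv2.deg at hd
    linarith
  have : (Module.finrank k (Coh.HH X E 0) : ℤ) ≤ Module.finrank k (Coh.HH X K 0) := by
    exact_mod_cast hle
  have := Int.natCast_nonneg (Module.finrank k (Coh.HH X E 1))
  push_cast at hK1
  linarith

end Groth.VBCurves
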