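import Groth.Agent.VBCurves.Sub
import Groth.Agent.RefRank.Ext

/-!
# Images and saturations of subbundles
-/

set_option autoImplicit false

universe u

open CategoryTheory CategoryTheory.Limits AlgebraicGeometry
open Groth.KTheory.LocFree (stalkₗ)

namespace Groth.VBCurves

variable (k : Type u) [Field k] {X : Scheme.{u}} [X.Over (Spec (CommRingCat.of k))]
  [IsIntegral X] [IsProper (X ↘ Spec (CommRingCat.of k))]

omit [IsProper (X ↘ Spec (CommRingCat.of k))] in
theorem dg_of_rk_zero {M : X.Modules}
    (hM : FlatMod.IsFinLocFree M) (h0 : rk M = 0) : dg k M = 0 := by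
  have hz := isZero_of_rk_eq_zero hM h0
  rw [dg, h0, Curv2.deg, Nat.cast_zero, zero_mul, sub_zero]
  refine Groth.EulerDeg.euler_of_isZero fun n => ?_
  have hz' : IsZero (Coh.toAb M) := Functor.map_isZero _ hz
  refine subsingleton_of_forall_eq 0 fun x => ?_
  have h1 := CategoryTheory.Abelian.Ext.comp_mk₀_id x
  rw [show 𝟙 (Coh.toAb M) = 0 from hz'.eq_of_src _ _, CategoryTheory.Abelian.Ext.mk₀_zero,
    CategoryTheory.Abelian.Ext.comp_zero] at h1
  exact h1.symm

variable {k}

/-- The image of a morphism of vector bundles, with its numerical invariants. -/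
theorem exists_image (h : IsVBCurve k X) {E F : X.Modules} (hE : FlatMod.IsFinLocFree E)
    (hF : FlatMod.IsFinLocFree F) (f : E ⟶ F) :
    ∃ (K I : X.Modules) (i : K ⟶ E) (p : E ⟶ I) (j : I ⟶ F) (w : i ≫ p = 0),
      (ShortComplex.mk i p w).ShortExact ∧ Mono i ∧ Epi p ∧ Mono j ∧
      p ≫ j = f ∧ (rk K = 0 → Mono p) ∧
      FlatMod.IsFinLocFree K ∧ FlatMod.IsFinLocFree I ∧
      rk E = rk K + rk I ∧ dg k E = dg k K + dg k I ∧ (f ≠ 0 → 0 < rk I) := by
  have : IsLocallyNoetherian X :=
    LocallyOfFiniteType.isLocallyNoetherian (X ↘ Spec (CommRingCat.of k))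
  obtain ⟨S, j, e, hS, hj, hf, -, hK, hI⟩ := exists_factor h.pid hE hF f
  subst e
  rw [eqToHom_refl, Category.id_comp] at hf
  have := hS.mono_f
  refine ⟨S.X₁, S.X₃, S.f, S.g, j, S.zero, hS, hS.mono_f, hS.epi_g, hj, hf, fun h0 => ?_, hK, hI, rk_add hS hK hI,
    dg_add k hS hK hI, fun hne => ?_⟩
  · exact hS.exact.mono_g ((isZero_of_rk_eq_zero hK h0).eq_of_src _ _)
  · refine Nat.pos_of_ne_zero fun h0 => hne ?_
    rw [← hf, (isZero_of_rk_eq_zero hI h0).eq_of_tgt S.g 0, zero_comp]

/-- Every coherent subsheaf of a vector bundle lies in a saturated one of the same rank. -/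
theorem exists_saturation (h : IsVBCurve k X) {E G : X.Modules} (hE : FlatMod.IsFinLocFree E)
    (hG : FlatMod.IsFinLocFree G) (i : G ⟶ E) [Mono i] :
    ∃ (G' Q : X.Modules) (s : G ⟶ G') (i' : G' ⟶ E) (q : E ⟶ Q) (w : i' ≫ q = 0),
      (ShortComplex.mk i' q w).ShortExact ∧ s ≫ i' = i ∧ Mono s ∧
      FlatMod.IsFinLocFree G' ∧ FlatMod.IsFinLocFree Q ∧ rk G' = rk G := by
  have : IsLocallyNoetherian X :=
    LocallyOfFiniteType.isLocallyNoetherian (X ↘ Spec (CommRingCat.of k))
  have hcE := Groth.KTheory.LocFree.isCoh hE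
  have := (Groth.KTheory.LocFree.isCoh hG).1
  have := hcE.1
  have hQ := Groth.QCohMod.isCoh_cokernel i hcE
  have := hQ.1
  have hD := Groth.RefRank.isCoh_ddual hQ
  have := hD.1
  have htf : TorSh.IsTorsionFree (RefHull.ddual (cokernel i)) := by
    have hd : Coh.IsCoh (RefHull.dual (cokernel i)) := Groth.RefRank.isCoh_dual hQ
    have := hd.1
    refine Groth.RefRank.isTorsionFree_homSh hd.2 fun x => ?_
    exact Function.Injective.moduleIsTorsionFree (Groth.RefRank.oneEquiv x).symm
      (Groth.RefRank.oneEquiv x).symm.injective (map_smul _)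
  have hDf : FlatMod.IsFinLocFree (RefHull.ddual (cokernel i)) := by
    refine Groth.KTheory.LocFree.isFinLocFree_of_free_stalks hD fun x => ?_
    have := h.pid x
    have := Groth.QCohMod.finite_stalk _ hD.2 x
    have := htf x
    exact Module.free_of_finite_type_torsion_free'
  let g : E ⟶ RefHull.ddual (cokernel i) := cokernel.π i ≫ RefHull.bidualMap (cokernel i)
  obtain ⟨K, I, i', p, j, w, hex, hi', hp, hj, hg, -, hK, hI, -, -, -⟩ := exists_image h hE hDf g
  have hiw : i ≫ p = 0 := by
    rw [← cancel_mono j, Category.assoc, hg, zero_comp]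
    simp [g]
  let s : G ⟶ K := hex.exact.lift i hiw
  have hs : s ≫ i' = i := hex.exact.lift_f i hiw
  have : Mono (s ≫ i') := by rw [hs]; infer_instance
  have hsm : Mono s := mono_of_mono s i'
  refine ⟨K, I, s, i', p, w, hex, hs, hsm, hK, hI, ?_⟩
  have hge := rk_le_of_mono s hK
  suffices rk K ≤ rk G by omega
  let η := genericPoint X
  let : Field (X.presheaf.stalk η) := inferInstanceAs (Field X.functionField)
  have := Groth.LocFree.finite_stalk hG η
  have := Groth.LocFree.finite_stalk hK η
  -- the kernel at the generic point is the image of `G`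
  have hker : LinearMap.range (stalkₗ i' η) ≤ LinearMap.range (stalkₗ i η) := by
    rintro _ ⟨a, rfl⟩
    have hS : (ShortComplex.mk i (cokernel.π i) (cokernel.condition i)).ShortExact :=
      { exact := ShortComplex.exact_cokernel i }
    obtain ⟨-, hexη, -⟩ := Groth.KTheory.LocFree.stalk_exact hS η
    refine (hexη _).1 ((Groth.RefRank.bidual_gen_bijective hQ).1 ?_)
    rw [map_zero]
    have e : (Groth.QCohMod.stalk η).map i' ≫ (Groth.QCohMod.stalk η).map (cokernel.π i) ≫
        (Groth.QCohMod.stalk η).map (RefHull.bidualMap (cokernel i)) = 0 := by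
      rw [← Functor.map_comp, ← Functor.map_comp]
      have : i' ≫ cokernel.π i ≫ RefHull.bidualMap (cokernel i) = 0 := by
        rw [show cokernel.π i ≫ RefHull.bidualMap (cokernel i) = g from rfl, ← hg,
          reassoc_of% w, zero_comp]
      rw [this, Functor.map_zero]
    exact congr($e a)
  have hinj : Function.Injective (stalkₗ i' η) :=
    (Groth.QCohMod.mono_iff_stalk i').1 hi' η
  have hinj₀ : Function.Injective (stalkₗ i η) :=
    (Groth.QCohMod.mono_iff_stalk i).1 inferInstance η
  have := Submodule.finrank_mono hker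
  rwa [LinearMap.finrank_range_of_inj hinj, LinearMap.finrank_range_of_inj hinj₀] at this

end Groth.VBCurves
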