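import Groth.Agent.VBCurves.Sub
import Groth.Agent.VectorBundles.RefHullStalk
import Groth.Agent.CurveBridge.RatPoints
import Groth.Agent.QCohMod.FTCriterion

/-!
# Functionals on submodules of free modules on a curve
-/

set_option linter.style.haveILetI false
set_option linter.unusedSectionVars false

universe u

open CategoryTheory CategoryTheory.Limits AlgebraicGeometry TopologicalSpace Opposite

namespace Groth.VBCurves.NegFilt

open Groth.QCohMod Groth.KTheory.LocFree Groth.VectorBundles.RefHullStalk Groth.CurveBridge

section Stalk

variable {X : Scheme.{u}}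

/-- The stalk of the map given by a section at the germ of one. -/
theorem stalk_secHom_one (M : X.Modules) (m : Γ(M, (⊤ : X.Opens))) (x : X) :
    stalkₗ (secHom M m) x (one x) = germ M x (Set.mem_univ x : x ∈ (⊤ : X.Opens)) m := by
  show (stalk x).map (secHom M m) _ = _
  rw [one]
  exact (stalk_map_germ (secHom M m) x (Set.mem_univ x : x ∈ (⊤ : X.Opens)) (oneSec ⊤)).trans
    (congrArg _ ((secHom_app_one M m ⊤).trans (res_self M _)))

/-- The value at the germ of one of an endomorphism by a global function. -/
theorem stalk_mul (s : Γ(X, ⊤)) (x : X) (a : X.presheaf.stalk x) :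
    stalkₗ (secHom (Coh.structureModule X) (show Γ(Coh.structureModule X, ⊤) from s)) x (a • one x) =
      (a * X.presheaf.germ ⊤ x trivial s) • one x := by
  rw [map_smul, stalk_secHom_one, germ_structureModule, smul_smul]

theorem hom_eq_zero_of_section {M : X.Modules} (g : Coh.structureModule X ⟶ M)
    (hg : g.app ⊤ (oneSec ⊤) = 0) : g = 0 := by
  refine (SheafOfModules.unitHomEquiv (R := X.ringCatSheaf) M).injective
    (Subtype.ext (funext fun U => ?_))
  have h1 := ((SheafOfModules.unitHomEquiv (R := X.ringCatSheaf) M) g).property
    (homOfLE (le_top : U.unop ≤ ⊤)).op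
  refine h1.symm.trans (Eq.trans (congrArg _ hg) ?_)
  exact (map_zero _ : (res M (le_top : U.unop ≤ ⊤)) 0 = 0)

theorem stalk_sum {M N : X.Modules} {ι : Type*} (t : Finset ι) (φ : ι → (M ⟶ N)) (x : X)
    (v : M.presheaf.stalk x) : stalkₗ (∑ i ∈ t, φ i) x v = ∑ i ∈ t, stalkₗ (φ i) x v := by
  classical
  induction t using Finset.induction with
  | empty =>
    rw [Finset.sum_empty, Finset.sum_empty]
    show (stalk x).map (0 : M ⟶ N) v = 0
    rw [Functor.map_zero]
    rfl
  | insert a t ha ih =>
    rw [Finset.sum_insert ha, Finset.sum_insert ha, ← ih]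
    show (stalk x).map (φ a + ∑ i ∈ t, φ i) v = _
    rw [Functor.map_add]
    rfl

theorem stalk_comp {A B D : X.Modules} (a : A ⟶ B) (b : B ⟶ D) (x : X) (v : A.presheaf.stalk x) :
    stalkₗ (a ≫ b) x v = stalkₗ b x (stalkₗ a x v) := by
  show (stalk x).map (a ≫ b) v = _
  rw [Functor.map_comp]
  rfl

/-- A family of functionals as a map of stalks into tuples. -/
noncomputable def coords {N : X.Modules} {m : ℕ} (f : Fin m → (N ⟶ Coh.structureModule X)) (x : X) :
    N.presheaf.stalk x →ₗ[X.presheaf.stalk x] (Fin m → X.presheaf.stalk x) :=
  LinearMap.pi fun i => (oneEquiv x).symm.toLinearMap ∘ₗ stalkₗ (f i) x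

theorem coords_spec {N : X.Modules} {m : ℕ} (f : Fin m → (N ⟶ Coh.structureModule X)) (x : X)
    (v : N.presheaf.stalk x) (i : Fin m) :
    stalkₗ (f i) x v = coords f x v i • one x := by
  rw [← oneEquiv_apply]
  exact ((oneEquiv x).apply_symm_apply _).symm

end Stalk

section Curve

variable {k : Type u} [Field k] [IsAlgClosed k] {C : Scheme.{u}}
  [C.Over (Spec (CommRingCat.of k))] [IsIntegral C] [IsProper (C ↘ Spec (CommRingCat.of k))]
  (h : Groth.CurveBridge.IsRegCurve C) (hc : IsVBCurve k C)

include h in
/-- The local ring at a closed point has a retraction onto the base field. -/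
theorem exists_retraction (x : C) (hx : IsClosed ({x} : Set C)) :
    ∃ ρ : C.presheaf.stalk x →+* k,
      (∀ c : k, ρ (Curv2.stalkMap k C x c) = c) ∧ ∀ a, ρ a ≠ 0 → IsUnit a := by
  have hb : Function.Bijective (Curv2.resMap k C x) :=
    (Groth.CurveBridge.bijective_resMap_iff (k := k) h ⟨x, hx⟩).mpr
      (Groth.FunFld1.deg_eq_one_of_isAlgClosed (Groth.CurveBridge.isFF k C h.dim) _)
  let e := RingEquiv.ofBijective (Curv2.resMap k C x) hb
  refine ⟨e.symm.toRingHom.comp (C.residue x).hom, fun c => e.symm_apply_apply c, fun a ha => ?_⟩
  by_contra hn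
  refine ha ?_
  have : (C.residue x).hom a = 0 :=
    (IsLocalRing.residue_eq_zero_iff a).mpr ((IsLocalRing.mem_maximalIdeal a).mpr hn)
  show e.symm ((C.residue x).hom a) = 0
  rw [this, map_zero]

include h hc in
/-- A bundle without sections inside a trivial one has a functional which vanishes somewhere, not
everywhere. -/
theorem exists_functional : ∀ (m : ℕ) {N : C.Modules} {r : ℕ}, FlatMod.IsFinLocFreeOfRank r N → 0 < r →
    (∀ g : Coh.structureModule C ⟶ N, g = 0) → ∀ f : Fin m → (N ⟶ Coh.structureModule C),
    (∀ x : C, Function.Injective (coords f x)) →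
    ∃ g : N ⟶ Coh.structureModule C, g ≠ 0 ∧ ¬ Epi g := by
  classical
  intro m
  induction m with
  | zero =>
    intro N r hN hr _ f hf
    refine absurd ?_ (not_isZero_of_rank hN hr)
    refine (Groth.QCohMod.isZero_iff_stalk N).2 fun x => @AddCommGrpCat.isZero_of_subsingleton _ ?_
    exact ⟨fun a b => hf x (funext fun i => i.elim0)⟩
  | succ m ih =>
    intro N r hN hr h0 f hf
    by_cases hall : ∀ x : C, IsClosed ({x} : Set C) → Function.Surjective (coords f x)
    · exfalso
      have hNf := Groth.LocFree.isFinLocFree_of_rank hN
      have hsurj : ∀ x : C, Function.Surjective (coords f x) := by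
        intro x
        by_cases hx : IsClosed ({x} : Set C)
        · exact hall x hx
        obtain ⟨c, hcl⟩ : ∃ c : C, IsClosed ({c} : Set C) := by
          haveI : JacobsonSpace C := LocallyOfFiniteType.jacobsonSpace (C ↘ Spec (CommRingCat.of k))
          obtain ⟨c, -, hc'⟩ := nonempty_inter_closedPoints (Z := (Set.univ : Set C))
            Set.univ_nonempty isOpen_univ.isLocallyClosed
          exact ⟨c, hc'⟩
        have hmr : m + 1 = r := by
          have := (LinearEquiv.ofBijective (coords f c) ⟨hf c, hall c hcl⟩).finrank_eq
          rw [Groth.LocFree.finrank_stalk hN c, Module.finrank_pi, Fintype.card_fin] at this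
          exact this.symm
        have hxη : x = genericPoint C := by
          by_contra hne
          exact hx ((Groth.CurveBridge.isClosed_singleton_iff C h.dim x).mpr hne)
        subst hxη
        let : Field (C.presheaf.stalk (genericPoint C)) := inferInstanceAs (Field C.functionField)
        haveI := Groth.LocFree.finite_stalk hNf (genericPoint C)
        exact (LinearMap.injective_iff_surjective_of_finrank_eq_finrank
          (by rw [Groth.LocFree.finrank_stalk hN, Module.finrank_pi, Fintype.card_fin, hmr])).mp (hf _)
      let F : Fin (m + 1) → C.Modules := fun _ => Coh.structureModule C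
      let φ : N ⟶ ∐ F := ∑ i, f i ≫ Sigma.ι F i
      have hφ : ∀ x v, stalkₗ φ x v = ∑ i, stalkₗ (Sigma.ι F i) x (stalkₗ (f i) x v) := by
        intro x v
        simp only [φ, stalk_sum, stalk_comp]
      let π : ∀ i, (∐ F) ⟶ Coh.structureModule C := fun i =>
        Sigma.desc fun j => if j = i then 𝟙 _ else 0
      have hπ : ∀ i j, Sigma.ι F j ≫ π i = if j = i then 𝟙 _ else 0 := fun i j => Sigma.ι_desc _ _
      have hid : 𝟙 (∐ F) = ∑ i, π i ≫ Sigma.ι F i := by
        refine Sigma.hom_ext _ _ fun j => ?_
        rw [Category.comp_id, Preadditive.comp_sum, Finset.sum_eq_single j]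
        · rw [← Category.assoc, hπ, if_pos rfl, Category.id_comp]
        · intro i _ hij
          rw [← Category.assoc, hπ, if_neg (Ne.symm hij), zero_comp]
        · intro hj; exact absurd (Finset.mem_univ j) hj
      have hepi : Epi φ := by
        refine (Groth.QCohMod.epi_iff_stalk φ).2 fun x w => ?_
        obtain ⟨v, hv⟩ := hsurj x fun i => (oneEquiv x).symm (stalkₗ (π i) x w)
        refine ⟨v, ?_⟩
        have hw : (stalk x).map (𝟙 (∐ F)) w = w := by rw [CategoryTheory.Functor.map_id]; rfl
        show stalkₗ φ x v = w
        have hw' : w = ∑ i, stalkₗ (Sigma.ι F i) x (stalkₗ (π i) x w) := by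
          conv_lhs => rw [← hw, hid]
          refine (stalk_sum Finset.univ (fun i => π i ≫ Sigma.ι F i) x w).trans ?_
          exact Finset.sum_congr rfl fun i _ => stalk_comp _ _ x w
        rw [hφ]
        refine Eq.trans (Finset.sum_congr rfl fun i _ => ?_) hw'.symm
        rw [coords_spec f x v i, congrFun hv i, ← oneEquiv_apply, LinearEquiv.apply_symm_apply]
      have hcomp : ∀ i, φ ≫ π i = f i := by
        intro i
        simp only [φ, Preadditive.sum_comp, Category.assoc]
        rw [Finset.sum_eq_single i]
        · rw [hπ, if_pos rfl, Category.comp_id]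
        · intro j _ hji
          rw [hπ, if_neg hji, comp_zero]
        · intro hj; exact absurd (Finset.mem_univ i) hj
      have hmono : Mono φ := by
        refine (Groth.QCohMod.mono_iff_stalk φ).2 fun x a b hab => hf x (funext fun i => ?_)
        show (oneEquiv x).symm ((stalk x).map (f i) a) = (oneEquiv x).symm ((stalk x).map (f i) b)
        rw [← hcomp i, Functor.map_comp]
        exact congrArg _ (congrArg ((stalk x).map (π i)) hab)
      haveI : IsIso φ := isIso_of_mono_of_epi φ
      have h1 := h0 (Sigma.ι F 0 ≫ inv φ)
      have h2 : Sigma.ι F 0 = 0 := by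
        rw [← cancel_mono (inv φ), h1, zero_comp]
      have h3 : 𝟙 (Coh.structureModule C) = 0 := by
        have := hπ 0 0
        rw [h2, zero_comp, if_pos rfl] at this
        exact this.symm
      have h4 : IsZero (Coh.structureModule C) := (IsZero.iff_id_eq_zero _).mpr h3
      exact not_isZero_of_rank (Groth.LocFree.isInvertible_iff_ofRank_one.mp
        (Groth.EulerDeg.isInvertible_structureModule C)) one_pos h4
    · push Not at hall
      obtain ⟨x, hx, hns⟩ := hall
      obtain ⟨ρ, hρ, hρu⟩ := exists_retraction (k := k) h x hx
      let ev : N.presheaf.stalk x → (Fin (m + 1) → k) := fun v i => ρ (coords f x v i)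
      let W : Submodule k (Fin (m + 1) → k) := Submodule.span k (Set.range ev)
      have hW : W ≠ ⊤ := by
        intro hW
        have himg : ∀ w ∈ W, ∃ v, ev v = w := by
          intro w hw
          induction hw using Submodule.span_induction with
          | mem w hw => exact hw
          | zero => exact ⟨0, funext fun i => by simp [ev]⟩
          | add a b _ _ ha hb =>
            obtain ⟨va, rfl⟩ := ha
            obtain ⟨vb, rfl⟩ := hb
            exact ⟨va + vb, funext fun i => by simp [ev]⟩
          | smul c a _ ha =>
            obtain ⟨va, rfl⟩ := ha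
            exact ⟨Curv2.stalkMap k C x c • va, funext fun i => by simp [ev, hρ]⟩
        choose v hv using fun j => himg (Pi.single j 1) (hW ▸ Submodule.mem_top)
        let A : Matrix (Fin (m + 1)) (Fin (m + 1)) (C.presheaf.stalk x) :=
          Matrix.of fun i j => coords f x (v j) i
        have hA : IsUnit A.det := by
          refine hρu _ ?_
          rw [RingHom.map_det]
          have : ρ.mapMatrix A = 1 := by
            ext i j
            show ρ (coords f x (v j) i) = _
            rw [show ρ (coords f x (v j) i) = ev (v j) i from rfl, hv j, Pi.single_apply,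
              Matrix.one_apply]
          rw [this, Matrix.det_one]
          exact one_ne_zero
        refine hns fun y => ⟨∑ j, (A⁻¹.mulVec y) j • v j, ?_⟩
        have : A.mulVec (A⁻¹.mulVec y) = y := by
          rw [Matrix.mulVec_mulVec, Matrix.mul_nonsing_inv _ hA, Matrix.one_mulVec]
        refine Eq.trans (funext fun i => ?_) this
        rw [map_sum, Finset.sum_apply, Matrix.mulVec, dotProduct]
        refine Finset.sum_congr rfl fun j _ => ?_
        rw [map_smul, Pi.smul_apply, smul_eq_mul]
        exact mul_comm _ _
      obtain ⟨lam, hlam0, hlamW⟩ := Submodule.exists_le_ker_of_lt_top W (lt_top_iff_ne_top.mpr hW)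
      let c : Fin (m + 1) → k := fun i => lam (Pi.single i 1)
      have hlam : ∀ w : Fin (m + 1) → k, lam w = ∑ i, w i * c i := fun w => by
        conv_lhs => rw [pi_eq_sum_univ' w]
        simp [c]
      let s : Fin (m + 1) → Γ(C, ⊤) := fun i => Coh.toGlobal (C ↘ Spec (CommRingCat.of k)) (c i)
      let g : N ⟶ Coh.structureModule C := ∑ i, f i ≫
        secHom (Coh.structureModule C) (show Γ(Coh.structureModule C, ⊤) from s i)
      have hg : ∀ (y : C) (v : N.presheaf.stalk y),
          stalkₗ g y v = (∑ i, coords f y v i * Curv2.stalkMap k C y (c i)) • one y := by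
        intro y v
        simp only [g, stalk_sum, stalk_comp]
        rw [Finset.sum_smul]
        refine Finset.sum_congr rfl fun i _ => ?_
        rw [coords_spec f y v i]
        exact stalk_mul (s i) y _
      by_cases hg0 : g = 0
      · obtain ⟨j, hj⟩ : ∃ j, c j ≠ 0 := by
          by_contra! hall0
          refine hlam0 (LinearMap.ext fun w => ?_)
          simp [hlam w, hall0]
        refine ih hN hr h0 (fun i => f (j.succAbove i)) fun y a b hab => hf y (funext fun i => ?_)
        have hrel : ∀ v : N.presheaf.stalk y,
            ∑ i, coords f y v i * Curv2.stalkMap k C y (c i) = 0 := fun v => by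
          refine (oneEquiv y).injective ?_
          rw [oneEquiv_apply, ← hg, map_zero, hg0]
          show (stalk y).map (0 : N ⟶ Coh.structureModule C) v = 0
          rw [Functor.map_zero]
          rfl
        rcases Fin.eq_self_or_eq_succAbove j i with hij | ⟨l, hl⟩
        · have h1 : coords f y a j * Curv2.stalkMap k C y (c j) =
              coords f y b j * Curv2.stalkMap k C y (c j) := by
            have ha := hrel a
            have hb := hrel b
            rw [Fin.sum_univ_succAbove _ j] at ha hb
            have : ∀ l, coords f y a (j.succAbove l) = coords f y b (j.succAbove l) :=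
              fun l => congrFun hab l
            simp only [this] at ha
            exact add_right_cancel (ha.trans hb.symm)
          rw [hij]
          exact ((Ne.isUnit hj).map (Curv2.stalkMap k C y)).mul_left_injective h1
        · rw [hl]
          exact congrFun hab l
      · refine ⟨g, hg0, fun hepi => ?_⟩
        obtain ⟨v, hv⟩ := (Groth.QCohMod.epi_iff_stalk g).1 hepi x (one x)
        have h1 : ∑ i, coords f x v i * Curv2.stalkMap k C x (c i) = 1 := by
          refine (oneEquiv x).injective ?_
          rw [oneEquiv_apply, oneEquiv_apply, one_smul]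
          exact (hg x v).symm.trans hv
        have h2 := congrArg ρ h1
        rw [map_sum, map_one] at h2
        simp only [map_mul, hρ] at h2
        have h3 : lam (ev v) = 0 :=
          LinearMap.mem_ker.mp (hlamW (Submodule.subset_span ⟨v, rfl⟩))
        rw [hlam] at h3
        exact one_ne_zero (h2.symm.trans h3)

end Curve

end Groth.VBCurves.NegFilt
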