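import Groth.Agent.VBCurves.HomEuler
import Groth.Agent.VBCurves.MaxSlope
import Groth.Agent.VBCurves.End
import Groth.Agent.VBCurves.Quot
import Groth.Agent.CohTwo.LocFreeDual

/-!
# Extensions on a curve and the splitting of destabilising sequences in genus one
-/

set_option autoImplicit false
set_option linter.unusedSectionVars false
set_option linter.style.haveILetI false

universe u

open CategoryTheory CategoryTheory.Limits AlgebraicGeometry TopologicalSpace
open CategoryTheory.Abelian (Ext)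
open Groth.CohTwo.SheafHomIso (tF)

namespace Groth.VBCurves.GenusOne

variable {k : Type u} [Field k] {X : Scheme.{u}} [X.Over (Spec (CommRingCat.of k))]
  [IsIntegral X] [IsProper (X ↘ Spec (CommRingCat.of k))]

/-- A finite locally free module is its double dual. -/
theorem nonempty_bidual_iso [IsLocallyNoetherian X] {Q : X.Modules}
    (hQ : FlatMod.IsFinLocFree Q) : Nonempty (Q ≅ RefHull.ddual Q) := by
  have : IsIso (RefHull.bidualMap Q) :=
    (Groth.RefRank.isIso_iff_bijective_stalk _).2 fun x => by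
      refine (Groth.RefRank.bijective_bidual_iff (Groth.KTheory.LocFree.isCoh hQ) x).2 ?_
      have := Groth.KTheory.LocFree.free_stalk hQ x
      have := Groth.LocFree.finite_stalk hQ x
      exact (inferInstance : Module.IsReflexive (X.presheaf.stalk x) (Q.presheaf.stalk x))
  exact ⟨asIso (RefHull.bidualMap Q)⟩

/-- A nonsplit extension class gives a map to the twist by the dualizing module. -/
theorem exists_hom_of_ext [HasExt.{u} X.Modules] (hc : IsVBCurve k X) {ω : X.Modules}
    (hω : IsDualizing k ω) {Q F : X.Modules} (hQ : FlatMod.IsFinLocFree Q)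
    (hF : FlatMod.IsFinLocFree F) (h : ¬ Subsingleton (Ext Q F 1)) :
    ∃ φ : F ⟶ (tw ω).obj Q, φ ≠ 0 := by
  have := Groth.Duality.SheafHom.hasSheafHom Q
  obtain ⟨e⟩ := Groth.Duality.SheafHom.nonempty_ext_linearEquiv k Q hQ 1 F
  let D := Groth.CohTwo.LocFreeDual.dual Q
  have hD : FlatMod.IsFinLocFree D := Groth.LocFree.isFinLocFree_homSh hQ (Groth.LocFree.isFinLocFree_unit X)
  let e' := e.trans (Groth.EulerDeg.hEquiv k
    ((Groth.CohTwo.LocFreeDual.dualTensorIso hQ).symm.app F) 1)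
  have h1 : ¬ Subsingleton (Coh.HH X (CohB1.tensorMod D F) 1) := fun hs =>
    h (e'.toEquiv.subsingleton_congr.2 hs)
  obtain ⟨f, hf⟩ := hω.exists_ne_zero hc
    (Groth.LocFree.isFinLocFree_tensorMod hD hF) h1
  have := Groth.Duality.SheafHom.hasSheafHom D
  let adj := Groth.CohTwo.LocFreeDual.dualAdj hD
  have : IsLocallyNoetherian X :=
    LocallyOfFiniteType.isLocallyNoetherian (X ↘ Spec (CommRingCat.of k))
  obtain ⟨b⟩ := nonempty_bidual_iso hQ
  let i : (tF (Groth.CohTwo.LocFreeDual.dual D)).obj ω ≅ (tw ω).obj Q :=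
    PicGrp.tensorModIso b.symm (Iso.refl ω)
  refine ⟨adj.homEquiv F ω f ≫ i.hom, fun h0 => hf ?_⟩
  have h2 : adj.homEquiv F ω f = 0 := by
    rw [← cancel_mono i.hom, h0, zero_comp]
  have : (tF (Groth.CohTwo.LocFreeDual.dual D)).Additive := adj.right_adjoint_additive
  have h3 : adj.homEquiv F ω (0 : (tF D).obj F ⟶ ω) = 0 := by
    rw [Adjunction.homEquiv_unit, Functor.map_zero, comp_zero]
  exact (adj.homEquiv F ω).injective (h2.trans h3.symm)

/-- In genus one the dualizing module is trivial. -/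
theorem omega_trivial (hc : IsVBCurve k X) {ω : X.Modules} (hω : IsDualizing k ω)
    (hg : Curv2.genus k X = 1) : Nonempty (ω ≅ Coh.structureModule X) := by
  have hω1 := Groth.LocFree.isInvertible_iff_ofRank_one.1 hω.inv
  have hO := Groth.LocFree.isInvertible_iff_ofRank_one.1
    (Groth.EulerDeg.isInvertible_structureModule X)
  have hd : Curv2.deg k X ω 1 = 0 := by rw [hω.deg, hg]; norm_num
  have heul : Curv2.euler k X ω = 0 := by
    have h := hd
    rw [Curv2.deg, HomEuler.euler_structure_of hc hω, hg] at h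
    push_cast at h
    linarith
  have : IsNoetherian X := Groth.EulerDeg.isNoetherian_of_proper k X
  have h0 : 0 < Module.finrank k (Coh.HH X ω 0) := by
    rw [Groth.EulerDeg.euler_eq_sub (k := k) fun n hn =>
      Groth.EulerDeg.subsingleton_HH_of_dim_le_one X hc.dim.le ω n hn, hω.h1_eq] at heul
    omega
  have : Nontrivial (Coh.HH X ω 0) := Module.nontrivial_of_finrank_pos h0
  obtain ⟨x, hx⟩ := exists_ne (0 : Coh.HH X ω 0)
  let s := Groth.PicAux.homOfSection (Groth.EulerDeg.h0Equiv k ω x)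
  have hs : s ≠ 0 := fun h0 => hx <| by
    apply (Groth.EulerDeg.h0Equiv k ω).injective
    rw [map_zero, ← Groth.PicAux.homOfSection_one (Groth.EulerDeg.h0Equiv k ω x)]
    change s.app ⊤ _ = 0
    rw [h0]
    rfl
  have hm : Mono s := mono_of_stable hc (Groth.LocFree.isFinLocFree_of_rank hO)
    (Groth.LocFree.isFinLocFree_of_rank hω1) (st_line hO)
    (St.ss hc (Groth.LocFree.isFinLocFree_of_rank hω1) (st_line hω1))
    (by rw [rk_eq hO, rk_eq hω1, ← dg_eq k hO, ← dg_eq k hω1, hd,
      Groth.EulerDeg.deg_structure (X := X) k])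
    (by rw [rk_eq hω1]; omega) s hs
  have := isIso_of_mono hc (Groth.LocFree.isFinLocFree_of_rank hO)
    (Groth.LocFree.isFinLocFree_of_rank hω1) s (by rw [rk_eq hO, rk_eq hω1])
    (by rw [← dg_eq k hO, ← dg_eq k hω1, hd, Groth.EulerDeg.deg_structure (X := X) k])
  exact ⟨(asIso s).symm⟩

/-- In genus one an extension splits when no nonzero map goes backwards. -/
theorem isSplitEpi_of_hom_eq_zero (hc : IsVBCurve k X) {ω : X.Modules} (hω : IsDualizing k ω)
    (hg : Curv2.genus k X = 1) {S : ShortComplex X.Modules} (hS : S.ShortExact)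
    (h₁ : FlatMod.IsFinLocFree S.X₁) (h₃ : FlatMod.IsFinLocFree S.X₃)
    (h : ∀ φ : S.X₁ ⟶ S.X₃, φ = 0) : IsSplitEpi S.g := by
  have : HasExt.{u} X.Modules := hasExt_of_enoughInjectives _
  have h0 : Subsingleton (Ext S.X₃ S.X₁ 1) := by
    by_contra hne
    obtain ⟨φ, hφ⟩ := exists_hom_of_ext hc hω h₃ h₁ hne
    obtain ⟨eω⟩ := omega_trivial hc hω hg
    let j : (tw ω).obj S.X₃ ≅ S.X₃ :=
      PicGrp.tensorModIso (Iso.refl S.X₃) eω ≪≫ SecTwist.unitorR S.X₃
    exact hφ (by rw [← cancel_mono j.hom, h (φ ≫ j.hom), zero_comp])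
  obtain ⟨x, hx⟩ := Ext.covariant_sequence_exact₃ (X := S.X₃) hS (Ext.mk₀ (𝟙 S.X₃))
    (n₁ := 1) rfl (Subsingleton.elim _ _)
  obtain ⟨s, rfl⟩ := (Ext.mk₀_bijective _ _).2 x
  rw [Ext.mk₀_comp_mk₀] at hx
  exact IsSplitEpi.mk' ⟨s, (Ext.mk₀_bijective _ _).1 hx⟩

/-- An indecomposable bundle on a curve of genus one is semistable. -/
theorem ss_of_indec (hc : IsVBCurve k X) {ω : X.Modules} (hω : IsDualizing k ω)
    (hg : Curv2.genus k X = 1) {E : X.Modules} (hE : FlatMod.IsFinLocFree E) (hind : Indec E) :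
    SS k E := by
  have hr : 0 < rk E := Nat.pos_of_ne_zero fun h0 => hind.1 (isZero_of_rk_eq_zero hE h0)
  obtain ⟨E₁, i₁, hi, hE₁, hpos, hB, hbig⟩ := exists_max hc hE hr
  have hQ := isFinLocFree_cokernel_of_max hc hE hE₁ i₁ hpos hB
  let S := ShortComplex.mk i₁ (cokernel.π i₁) (cokernel.condition i₁)
  have hS : S.ShortExact := { exact := ShortComplex.exact_cokernel i₁ }
  have hsplit : IsSplitEpi S.g := isSplitEpi_of_hom_eq_zero hc hω hg hS hE₁ hQ fun φ =>
    hom_eq_zero hc hE₁ hQ (ss_of_max i₁ hB)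
      (fun G j hj hG hG0 => quot_slope_lt hc hE₁ i₁ hB hbig G j hG hG0) φ
  let σ := ShortComplex.Splitting.ofExactOfSection S hS.exact (section_ S.g)
    (IsSplitEpi.id S.g) hi
  rcases hind.2 _ _ ⟨σ.isoBinaryBiproduct⟩ with hz | hz
  · exact absurd hz (not_isZero_of_rank (isFinLocFreeOfRank_rk hE₁) hpos)
  · have : Epi i₁ := hS.exact.epi_f (hz.eq_of_tgt _ _)
    have : IsIso i₁ := isIso_of_mono_of_epi i₁
    have := rk_eq_of_iso hE₁ (asIso i₁)
    have := dg_eq_of_iso (k := k) hE₁ (asIso i₁)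
    intro G j hj hG hG0
    have hh := hB G j hj hG hG0
    rwa [rk_eq_of_iso hE₁ (asIso i₁), dg_eq_of_iso (k := k) hE₁ (asIso i₁)] at hh

end Groth.VBCurves.GenusOne
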