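import Groth.Agent.VBCurves.HomEuler

/-!
# Nilpotent twisted endomorphisms in rank two
-/

set_option autoImplicit false
set_option linter.unusedSectionVars false
set_option linter.style.haveILetI false

universe u

open CategoryTheory CategoryTheory.Limits AlgebraicGeometry TopologicalSpace

namespace Groth.VBCurves.VeryStable

variable {k : Type u} [Field k] {X : Scheme.{u}} [X.Over (Spec (CommRingCat.of k))]
  [IsIntegral X] [IsProper (X ↘ Spec (CommRingCat.of k))]

/-- A map `E/L → L ⊗ K` gives a nilpotent `E → E ⊗ K`. -/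
theorem exists_nilpotent {K : X.Modules} (hK : PicF.IsInvertible K) {L E Q : X.Modules}
    (j : L ⟶ E) [Mono j] (q : E ⟶ Q) [Epi q] (w : j ≫ q = 0) (β : Q ⟶ (tw K).obj L) (hβ : β ≠ 0) :
    ∃ α : E ⟶ (tw K).obj E, α ≠ 0 ∧ α ≫ (tw K).map α = 0 := by
  have := Groth.PicAux.isEquivalence_tensorRightMod_of_isInvertible hK
  have : PreservesBinaryBiproducts (tw K) :=
    preservesBinaryBiproducts_of_preservesBinaryProducts (tw K)
  have := Functor.additive_of_preservesBinaryBiproducts (tw K)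
  refine ⟨q ≫ β ≫ (tw K).map j, fun h0 => hβ ?_, ?_⟩
  · rw [← cancel_mono ((tw K).map j), zero_comp, ← cancel_epi q, h0, comp_zero]
  · have h : (tw K).map j ≫ (tw K).map (q ≫ β ≫ (tw K).map j) = 0 := by
      rw [← Functor.map_comp, ← Category.assoc, w, zero_comp, Functor.map_zero]
    simp only [Category.assoc] at h ⊢
    rw [h, comp_zero, comp_zero]

/-- A nilpotent `E → E ⊗ K` gives a map `E/L → L ⊗ K`. -/
theorem exists_beta (hc : IsVBCurve k X) {K : X.Modules} (hK : PicF.IsInvertible K)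
    {E : X.Modules} (hE : FlatMod.IsFinLocFreeOfRank 2 E) (α : E ⟶ (tw K).obj E) (hα : α ≠ 0)
    (h : α ≫ (tw K).map α = 0) :
    ∃ (L : X.Modules) (j : L ⟶ E), PicF.IsInvertible L ∧ Mono j ∧ PicF.IsInvertible (cokernel j) ∧
      ∃ β : cokernel j ⟶ (tw K).obj L, β ≠ 0 := by
  have := Groth.PicAux.isEquivalence_tensorRightMod_of_isInvertible hK
  have : PreservesBinaryBiproducts (tw K) :=
    preservesBinaryBiproducts_of_preservesBinaryProducts (tw K)
  have := Functor.additive_of_preservesBinaryBiproducts (tw K)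
  have hE' := Groth.LocFree.isFinLocFree_of_rank hE
  obtain ⟨L, I, i, p, c, w, hS, hi, hp, hc', hfac, hpm, hL, hI, hr, -, hI0⟩ :=
    exists_image hc hE' (isFinLocFree_tw hK hE') α
  have := hI0 hα
  rw [rk_eq hE] at hr
  have hL1 : rk L = 1 := by
    rcases Nat.eq_zero_or_pos (rk L) with h0 | h0
    · exfalso
      have := hpm h0
      have : Mono α := by rw [← hfac]; infer_instance
      exact hα (zero_of_comp_mono ((tw K).map α) h)
    · omega
  have hLi := Groth.LocFree.isInvertible_iff_ofRank_one.2 (hL1 ▸ isFinLocFreeOfRank_rk hL)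
  have hIi := Groth.LocFree.isInvertible_iff_ofRank_one.2
    ((show rk I = 1 by omega) ▸ isFinLocFreeOfRank_rk hI)
  have hp0 : α ≫ (tw K).map p = 0 := by
    rw [← cancel_mono ((tw K).map c), zero_comp, Category.assoc, ← Functor.map_comp, hfac, h]
  have hT := Groth.PicAux.shortExact_tensorRightMod hK hS
  have := hT.mono_f
  let γ : E ⟶ (tw K).obj L := hT.exact.lift α hp0
  have hγ : γ ≫ (tw K).map i = α := hT.exact.lift_f α hp0
  have hiγ : i ≫ γ = 0 := by
    rw [← cancel_mono ((tw K).map i), zero_comp, Category.assoc, hγ, ← hfac, reassoc_of% w,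
      zero_comp]
  let β : I ⟶ (tw K).obj L := hS.exact.desc γ hiγ
  have hβ : p ≫ β = γ := hS.exact.g_desc γ hiγ
  let e : cokernel i ≅ I := (cokernelIsCokernel i).coconePointUniqueUpToIso hS.gIsCokernel
  refine ⟨L, i, hLi, hi, Groth.LocFree.isInvertible_iff_ofRank_one.2
    (Groth.LocFree.isFinLocFreeOfRank_of_iso e.symm
      (Groth.LocFree.isInvertible_iff_ofRank_one.1 hIi)), e.hom ≫ β, fun h0 => hα ?_⟩
  have : β = 0 := by rw [← cancel_epi e.hom, h0, comp_zero]
  rw [← hγ, ← hβ, this, comp_zero, zero_comp]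

/-- A composite `L → E → L ⊗ K` through a maximal line that vanishes gives a nilpotent. -/
theorem exists_nilpotent_of_comp (hc : IsVBCurve k X) {K : X.Modules} (hK : PicF.IsInvertible K)
    {E L : X.Modules} (hE : FlatMod.IsFinLocFreeOfRank 2 E) (hL : PicF.IsInvertible L)
    (hmax : ∀ (M : X.Modules) (i : M ⟶ E), PicF.IsInvertible M → Mono i →
      Curv2.deg k X M 1 ≤ Curv2.deg k X L 1)
    (s : L ⟶ E) (hs : s ≠ 0) (t : E ⟶ (tw K).obj L) (ht : t ≠ 0) (hst : s ≫ t = 0) :
    ∃ α : E ⟶ (tw K).obj E, α ≠ 0 ∧ α ≫ (tw K).map α = 0 := by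
  have hE' := Groth.LocFree.isFinLocFree_of_rank hE
  have hL1 := Groth.LocFree.isInvertible_iff_ofRank_one.1 hL
  have hL' := Groth.LocFree.isFinLocFree_of_rank hL1
  have : Mono s := by
    obtain ⟨A, I, i, p, c, w, -, -, hp, hc', hfac, hpm, hA, hI, hr, -, hI0⟩ :=
      exists_image hc hL' hE' s
    have := hI0 hs
    rw [rk_eq hL1] at hr
    have := hpm (by omega)
    rw [← hfac]; infer_instance
  obtain ⟨G, Q, σ, i, q, w, hS, hσ, hσm, hG, hQ, hrG⟩ := exists_saturation hc hE' hL' s
  rw [rk_eq hL1] at hrG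
  have hG1 : FlatMod.IsFinLocFreeOfRank 1 G := hrG ▸ isFinLocFreeOfRank_rk hG
  have : Mono i := hS.mono_f
  have hle := hmax G i (Groth.LocFree.isInvertible_iff_ofRank_one.2 hG1) this
  rw [dg_eq k hG1, dg_eq k hL1] at hle
  have hge := (dg_le_of_mono k hc.dim.le hL' hG σ (by rw [rk_eq hL1, hrG])).1
  have : IsIso σ := isIso_of_mono hc hL' hG σ (by rw [rk_eq hL1, hrG]) (le_antisymm hge hle)
  have hit : i ≫ t = 0 := by
    rw [← cancel_epi σ, comp_zero, reassoc_of% hσ, hst]
  have : Epi q := hS.epi_g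
  have := hS.epi_g
  let β : Q ⟶ (tw K).obj L := hS.exact.desc t hit
  have hβ : q ≫ β = t := hS.exact.g_desc t hit
  refine exists_nilpotent hK i q w (β ≫ (tw K).map σ) fun h0 => ht ?_
  have : β = 0 := by rw [← cancel_mono ((tw K).map σ), h0, zero_comp]
  rw [← hβ, this, comp_zero]

end Groth.VBCurves.VeryStable
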