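import Groth.Agent.VBCurves.Quot
import Groth.Agent.PicAux.Powers
import Groth.Agent.LocFree.Tensor
import Groth.Agent.EulerDeg.Tensor

/-!
# Semistability of twisted pairs on curves
-/

set_option autoImplicit false

universe u

open CategoryTheory CategoryTheory.Limits AlgebraicGeometry

namespace Groth.VBCurves

variable {X : Scheme.{u}}

/-- `- ⊗ L`. -/
noncomputable abbrev tw (L : X.Modules) : X.Modules ⥤ X.Modules := DCoh.tensorRightMod L

/-- `j` is invariant under `φ : E ⟶ E ⊗ L`. -/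
def Inv (L : X.Modules) {E : X.Modules} (φ : E ⟶ (tw L).obj E) {G : X.Modules}
    (j : G ⟶ E) : Prop :=
  ∃ χ : G ⟶ (tw L).obj G, χ ≫ (tw L).map j = j ≫ φ

variable {L : X.Modules} (hL : PicF.IsInvertible L)

theorem inv_id {E : X.Modules} (φ : E ⟶ (tw L).obj E) : Inv L φ (𝟙 E) :=
  ⟨φ, by rw [CategoryTheory.Functor.map_id, Category.id_comp, Category.comp_id]⟩

theorem Inv.comp {H G E : X.Modules} {φ : E ⟶ (tw L).obj E} {j : G ⟶ E}
    {χ : G ⟶ (tw L).obj G} (hχ : χ ≫ (tw L).map j = j ≫ φ) {m : H ⟶ G} (hm : Inv L χ m) :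
    Inv L φ (m ≫ j) := by
  obtain ⟨ξ, hξ⟩ := hm
  refine ⟨ξ, ?_⟩
  rw [Functor.map_comp, ← Category.assoc, hξ, Category.assoc, hχ, Category.assoc]

include hL in
theorem mono_tw {A B : X.Modules} (f : A ⟶ B) [Mono f] : Mono ((tw L).map f) := by
  have := Groth.PicAux.isEquivalence_tensorRightMod_of_isInvertible hL
  infer_instance

include hL in
/-- Image and kernel of a map of pairs are invariant. -/
theorem inv_of_fac {K G I Q : X.Modules} {i : K ⟶ G} {p : G ⟶ I} {c : I ⟶ Q} [Mono c]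
    (w : i ≫ p = 0) (hS : (ShortComplex.mk i p w).ShortExact)
    {χ : G ⟶ (tw L).obj G} {χQ : Q ⟶ (tw L).obj Q}
    (hcomm : χ ≫ (tw L).map (p ≫ c) = (p ≫ c) ≫ χQ) : Inv L χ i ∧ Inv L χQ c := by
  have := Groth.PicAux.isEquivalence_tensorRightMod_of_isInvertible hL
  have hTS : ((ShortComplex.mk i p w).map (tw L)).ShortExact :=
    Groth.PicAux.shortExact_tensorRightMod hL hS
  have hc := mono_tw hL c
  have : Mono ((ShortComplex.mk i p w).map (tw L)).f := hTS.mono_f
  have : Epi p := hS.epi_g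
  have h0 : (i ≫ χ) ≫ (tw L).map p = 0 := by
    rw [← cancel_mono ((tw L).map c), zero_comp, Category.assoc, Category.assoc,
      ← Functor.map_comp, hcomm, Category.assoc, reassoc_of% w, zero_comp]
  refine ⟨⟨hTS.exact.lift _ h0, hTS.exact.lift_f _ h0⟩, ?_⟩
  have : Epi (ShortComplex.mk i p w).g := hS.epi_g
  have h0' : i ≫ χ ≫ (tw L).map p = 0 := by rw [← Category.assoc]; exact h0
  refine ⟨hS.exact.desc _ h0', ?_⟩
  rw [← cancel_epi p, ← Category.assoc]
  erw [hS.exact.g_desc _ h0']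
  rw [Category.assoc, ← Functor.map_comp, hcomm, Category.assoc]

include hL in
/-- Preimages of invariant subobjects of a quotient pair are invariant. -/
theorem exists_preimage_inv {F E H : X.Modules} (i : F ⟶ E) [Mono i]
    {φ : E ⟶ (tw L).obj E} {φ' : cokernel i ⟶ (tw L).obj (cokernel i)}
    (hφ : cokernel.π i ≫ φ' = φ ≫ (tw L).map (cokernel.π i))
    (j : H ⟶ cokernel i) [Mono j] (hj : Inv L φ' j) :
    ∃ (G : X.Modules) (a : F ⟶ G) (b : G ⟶ H) (c : G ⟶ E) (w : a ≫ b = 0),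
      (ShortComplex.mk a b w).ShortExact ∧ Mono c ∧ Inv L φ c := by
  have := Groth.PicAux.isEquivalence_tensorRightMod_of_isInvertible hL
  obtain ⟨χ, hχ⟩ := hj
  have hp := IsPullback.of_hasPullback (cokernel.π i) j
  have hc : Mono (pullback.fst (cokernel.π i) j) := inferInstance
  have hb : Epi (pullback.snd (cokernel.π i) j) := inferInstance
  have hw : i ≫ cokernel.π i = (0 : F ⟶ H) ≫ j := by rw [cokernel.condition, zero_comp]
  obtain ⟨a, hac, hab⟩ : ∃ a, a ≫ pullback.fst (cokernel.π i) j = i ∧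
      a ≫ pullback.snd (cokernel.π i) j = 0 :=
    ⟨pullback.lift i 0 hw, pullback.lift_fst _ _ _, pullback.lift_snd _ _ _⟩
  have : Mono (a ≫ pullback.fst (cokernel.π i) j) := by rw [hac]; infer_instance
  have hTp := hp.map (tw L)
  have hlift : (pullback.fst (cokernel.π i) j ≫ φ) ≫ (tw L).map (cokernel.π i) =
      (pullback.snd (cokernel.π i) j ≫ χ) ≫ (tw L).map j := by
    rw [Category.assoc, ← hφ, Category.assoc, reassoc_of% hp.w]
    erw [hχ]
  exact ⟨_, a, _, _, hab,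
    { exact := exact_preimage (ShortComplex.exact_cokernel i) hp a hac hab
      mono_f := mono_of_mono a (pullback.fst (cokernel.π i) j)
      epi_g := hb }, hc, hTp.lift _ _ hlift, hTp.lift_fst _ _ _⟩

variable {k : Type u} [Field k] [X.Over (Spec (CommRingCat.of k))] [IsIntegral X]
  [IsProper (X ↘ Spec (CommRingCat.of k))]

variable (k) in
/-- All nonzero invariant subbundles have slope at most `d / r`. -/
def PBnd (L : X.Modules) {E : X.Modules} (φ : E ⟶ (tw L).obj E) (d : ℤ) (r : ℕ) : Prop :=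
  ∀ (G : X.Modules) (j : G ⟶ E), Mono j → FlatMod.IsFinLocFree G → 0 < rk G → Inv L φ j →
    dg k G * (r : ℤ) ≤ d * (rk G : ℤ)

theorem isFinLocFree_tw (hL : PicF.IsInvertible L) {E : X.Modules} (hE : FlatMod.IsFinLocFree E) :
    FlatMod.IsFinLocFree ((tw L).obj E) :=
  Groth.LocFree.isFinLocFree_of_rank (Groth.LocFree.isFinLocFreeOfRank_tensorMod
    (isFinLocFreeOfRank_rk hE) (Groth.LocFree.isInvertible_iff_ofRank_one.1 hL))

theorem tw_numerics (hc : IsVBCurve k X) (hL : PicF.IsInvertible L) {E : X.Modules}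
    (hE : FlatMod.IsFinLocFree E) :
    rk ((tw L).obj E) = rk E ∧
      dg k ((tw L).obj E) = dg k E + (rk E : ℤ) * Curv2.deg k X L 1 := by
  have h1 := isFinLocFreeOfRank_rk hE
  have h2 := Groth.LocFree.isInvertible_iff_ofRank_one.1 hL
  have h3 := Groth.LocFree.isFinLocFreeOfRank_tensorMod h1 h2
  refine ⟨(rk_eq h3).trans (mul_one _), ?_⟩
  have h := Groth.EulerDeg.deg_tensor k hc.dim.le h1 h2
  rw [dg_eq k h3, dg_eq k h1] at h
  exact h.trans (by push_cast; ring)

/-- A map out of a bundle vanishing on a subbundle of full rank is zero. -/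
theorem eq_zero_of_full_rank (hc : IsVBCurve k X) {G G' M : X.Modules}
    (hG' : FlatMod.IsFinLocFree G') (hM : FlatMod.IsFinLocFree M) (s : G ⟶ G') [Mono s]
    (hr : rk G = rk G') (f : G' ⟶ M) (hf : s ≫ f = 0) : f = 0 := by
  obtain ⟨K, I, i, p, c, w, hS, -, -, hc', hfac, -, hK, hI, hrk, -, hpos⟩ :=
    exists_image hc hG' hM f
  by_contra hne
  have := hpos hne
  have hsp : s ≫ p = 0 := by rw [← cancel_mono c, Category.assoc, hfac, hf, zero_comp]
  have := hS.mono_f
  let a : G ⟶ K := hS.exact.lift s hsp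
  have : Mono (a ≫ i) := by
    rw [show a ≫ i = s from hS.exact.lift_f s hsp]; infer_instance
  have := mono_of_mono a i
  have := rk_le_of_mono a hK
  omega

include hL in
/-- Invariant subbundles lie in invariant saturated ones of the same rank and no smaller degree. -/
theorem exists_saturation_inv (hc : IsVBCurve k X) {E G : X.Modules}
    (hE : FlatMod.IsFinLocFree E) (hG : FlatMod.IsFinLocFree G) {φ : E ⟶ (tw L).obj E}
    (j : G ⟶ E) [Mono j] (hj : Inv L φ j) :
    ∃ (G' Q : X.Modules) (s : G ⟶ G') (i' : G' ⟶ E) (q : E ⟶ Q) (w : i' ≫ q = 0),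
      (ShortComplex.mk i' q w).ShortExact ∧ s ≫ i' = j ∧ Mono i' ∧
      FlatMod.IsFinLocFree G' ∧ FlatMod.IsFinLocFree Q ∧ rk G' = rk G ∧
      dg k G ≤ dg k G' ∧ (dg k G = dg k G' → IsIso s) ∧ Inv L φ i' := by
  obtain ⟨χ, hχ⟩ := hj
  obtain ⟨G', Q, s, i', q, w, hS, hs, hsm, hG', hQ, hrk⟩ := exists_saturation hc hE hG j
  have hi' : Mono i' := hS.mono_f
  have hd := dg_le_of_mono k hc.dim.le hG hG' s hrk.symm
  refine ⟨G', Q, s, i', q, w, hS, hs, hi', hG', hQ, hrk, hd.1, hd.2.1, ?_⟩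
  have := Groth.PicAux.isEquivalence_tensorRightMod_of_isInvertible hL
  have hTS : ((ShortComplex.mk i' q w).map (tw L)).ShortExact :=
    Groth.PicAux.shortExact_tensorRightMod hL hS
  have : Mono ((ShortComplex.mk i' q w).map (tw L)).f := hTS.mono_f
  have hTw : (tw L).map i' ≫ (tw L).map q = 0 := by
    rw [← Functor.map_comp, w, Functor.map_zero]
  have h0 : (i' ≫ φ) ≫ (tw L).map q = 0 := by
    refine eq_zero_of_full_rank hc hG' (isFinLocFree_tw hL hQ) s hrk.symm _ ?_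
    rw [Category.assoc, reassoc_of% hs, ← Category.assoc]
    erw [← hχ]
    rw [Category.assoc, ← hs, Functor.map_comp, Category.assoc, hTw, comp_zero, comp_zero]
  exact ⟨hTS.exact.lift _ h0, hTS.exact.lift_f _ h0⟩

include hL in
/-- An invariant subbundle attaining the bound is saturated. -/
theorem isFinLocFree_cokernel_of_inv (hc : IsVBCurve k X) {E G : X.Modules}
    (hE : FlatMod.IsFinLocFree E) (hG : FlatMod.IsFinLocFree G) (hpos : 0 < rk G)
    {φ : E ⟶ (tw L).obj E} (j : G ⟶ E) [Mono j] (hj : Inv L φ j) {d : ℤ} {r : ℕ}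
    (hr : 0 < r) (hd : dg k G * (r : ℤ) = d * (rk G : ℤ)) (hB : PBnd k L φ d r) :
    FlatMod.IsFinLocFree (cokernel j) := by
  obtain ⟨G', Q, s, i', q, w, hS, hs, hi', hG', hQ, hrk, hle, hiso, hinv⟩ :=
    exists_saturation_inv hL hc hE hG j hj
  have h := hB G' i' hi' hG' (by omega) hinv
  rw [hrk, ← hd] at h
  have : IsIso s := hiso (le_antisymm hle (le_of_mul_le_mul_right h (by exact_mod_cast hr)))
  let e₁ : cokernel i' ≅ Q :=
    IsColimit.coconePointUniqueUpToIso (cokernelIsCokernel i') hS.gIsCokernel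
  let e₂ : cokernel j ≅ cokernel i' := cokernelIsoOfEq hs.symm ≪≫ cokernelEpiComp s i'
  exact Groth.KTheory.LocFree.isFinLocFree_of_iso (e₂ ≪≫ e₁).symm hQ

omit [IsIntegral X] [IsProper (X ↘ Spec (CommRingCat.of k))] in
include hL in
/-- The induced field on the quotient by an invariant subbundle. -/
theorem exists_quot_field {E G : X.Modules} {φ : E ⟶ (tw L).obj E} (j : G ⟶ E) [Mono j]
    (hj : Inv L φ j) :
    ∃ φ' : cokernel j ⟶ (tw L).obj (cokernel j),
      cokernel.π j ≫ φ' = φ ≫ (tw L).map (cokernel.π j) := by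
  obtain ⟨χ, hχ⟩ := hj
  have := Groth.PicAux.isEquivalence_tensorRightMod_of_isInvertible hL
  have h0 : j ≫ φ ≫ (tw L).map (cokernel.π j) = 0 := by
    rw [← Category.assoc]
    erw [← hχ]
    rw [Category.assoc, ← Functor.map_comp, cokernel.condition, Functor.map_zero, comp_zero]
  exact ⟨cokernel.desc j _ h0, cokernel.π_desc _ _ _⟩

include hL in
/-- Slope bounds of pairs pass to the quotient by an invariant subbundle attaining them. -/
theorem PBnd.quot {E F : X.Modules} (i : F ⟶ E) [Mono i] (hF : FlatMod.IsFinLocFree F)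
    {φ : E ⟶ (tw L).obj E} {φ' : cokernel i ⟶ (tw L).obj (cokernel i)}
    (hφ : cokernel.π i ≫ φ' = φ ≫ (tw L).map (cokernel.π i)) {d : ℤ} {r : ℕ}
    (hd : dg k F * (r : ℤ) = d * (rk F : ℤ)) (hB : PBnd k L φ d r) : PBnd k L φ' d r := by
  intro H j hj hH hpos hinv
  obtain ⟨G, a, b, c, w, hS, hc', hGinv⟩ := exists_preimage_inv hL i hφ j hinv
  have hG : FlatMod.IsFinLocFree G := Groth.KTheory.LocFree.isFinLocFree_of_shortExact hS hF hH
  have hr := rk_add hS hF hH
  have hdg := dg_add k hS hF hH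
  dsimp only at hr hdg
  have h1 := hB G c hc' hG (by omega) hGinv
  rw [hdg, hr, add_mul] at h1
  push_cast at h1
  rw [mul_add, hd] at h1
  linarith

omit [IsProper (X ↘ Spec (CommRingCat.of k))] in
/-- Slope bounds of pairs pass to invariant subbundles. -/
theorem PBnd.sub {E G : X.Modules} {φ : E ⟶ (tw L).obj E}
    {χ : G ⟶ (tw L).obj G} (j : G ⟶ E) [Mono j] (hχ : χ ≫ (tw L).map j = j ≫ φ) {d : ℤ}
    {r : ℕ} (hB : PBnd k L φ d r) : PBnd k L χ d r :=
  fun H m _ hH hpos hinv => hB H (m ≫ j) inferInstance hH hpos (hinv.comp hχ)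

omit [IsProper (X ↘ Spec (CommRingCat.of k))] in
theorem PBnd.congr {E : X.Modules} {φ : E ⟶ (tw L).obj E} {d d' : ℤ} {r r' : ℕ}
    (hr : 0 < r) (h : d * (r' : ℤ) = d' * (r : ℤ)) (hB : PBnd k L φ d r) : PBnd k L φ d' r' := by
  intro G j hj hG hpos hinv
  have h1 := mul_le_mul_of_nonneg_right (hB G j hj hG hpos hinv) (Int.natCast_nonneg r')
  refine le_of_mul_le_mul_right ?_ (show (0 : ℤ) < r by exact_mod_cast hr)
  calc dg k G * (r' : ℤ) * (r : ℤ) = dg k G * (r : ℤ) * (r' : ℤ) := by ring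
    _ ≤ d * (rk G : ℤ) * (r' : ℤ) := h1
    _ = d' * (rk G : ℤ) * (r : ℤ) := by linear_combination (rk G : ℤ) * h

include hL in
/-- Semistability of a pair may be tested on subbundles invariant under a commuting endomorphism. -/
theorem PBnd.of_endo (hc : IsVBCurve k X) {E : X.Modules} (hE : FlatMod.IsFinLocFree E)
    (hpos : 0 < rk E) {φ : E ⟶ (tw L).obj E} (ψ : E ⟶ E)
    (hψ : ψ ≫ φ = φ ≫ (tw L).map ψ)
    (h : ∀ (G : X.Modules) (j : G ⟶ E) (ψ' : G ⟶ G), Mono j → FlatMod.IsFinLocFree G →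
      0 < rk G → Inv L φ j → ψ' ≫ j = j ≫ ψ → dg k G * (rk E : ℤ) ≤ dg k E * (rk G : ℤ)) :
    PBnd k L φ (dg k E) (rk E) := by
  obtain ⟨E₁, i₁, hi, hE₁, hp₁, hinv₁, hmax, hbig⟩ :=
    exists_max_of hc hE hpos (fun _ j => Inv L φ j) (inv_id φ)
  have := hi
  have hB₁ : PBnd k L φ (dg k E₁) (rk E₁) := hmax
  have hQ := isFinLocFree_cokernel_of_inv hL hc hE hE₁ hp₁ i₁ hinv₁ hp₁ rfl hB₁
  obtain ⟨φ', hφ'⟩ := exists_quot_field hL i₁ hinv₁
  have hBQ := PBnd.quot hL i₁ hE₁ hφ' rfl hB₁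
  obtain ⟨χ, hχ⟩ := hinv₁
  have hh : i₁ ≫ ψ ≫ cokernel.π i₁ = 0 := by
    by_contra hne
    obtain ⟨K, I, i, p, c, w, hS, -, -, hc', hfac, -, hK, hI, hrk, hdg, hIpos⟩ :=
      exists_image hc hE₁ hQ (i₁ ≫ ψ ≫ cokernel.π i₁)
    have hI0 := hIpos hne
    have hcomm : χ ≫ (tw L).map (p ≫ c) = (p ≫ c) ≫ φ' := by
      rw [hfac, Functor.map_comp, ← Category.assoc]
      erw [hχ]
      rw [Category.assoc, Category.assoc, Category.assoc, hφ', Functor.map_comp,
        reassoc_of% hψ]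
    obtain ⟨hKinv, hIinv⟩ := inv_of_fac hL w hS hcomm
    -- the preimage of the image is bigger of at least the same slope
    obtain ⟨G, a, b, e, w', hSG, he, hGinv⟩ := exists_preimage_inv hL i₁ hφ' c hIinv
    have hG : FlatMod.IsFinLocFree G :=
      Groth.KTheory.LocFree.isFinLocFree_of_shortExact hSG hE₁ hI
    have hrG := rk_add hSG hE₁ hI
    have hdG := dg_add k hSG hE₁ hI
    dsimp only at hrG hdG
    have h1 := hmax G e he hG (by omega) hGinv
    have h1' : dg k G * (rk E₁ : ℤ) ≠ dg k E₁ * (rk G : ℤ) := fun heq => by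
      have := hbig G e he hG (by omega) hGinv heq
      omega
    have h2 : dg k K * (rk E₁ : ℤ) ≤ dg k E₁ * (rk K : ℤ) := by
      rcases Nat.eq_zero_or_pos (rk K) with h0 | h0
      · simp [dg_of_rk_zero k hK h0, h0]
      · have : Mono i := hS.mono_f
        exact hmax K (i ≫ i₁) inferInstance hK h0 (hKinv.comp hχ)
    have h3 := lt_of_le_of_ne h1 h1'
    have hr' : (rk E₁ : ℤ) = rk K + rk I := by exact_mod_cast hrk
    have hrG' : (rk G : ℤ) = rk E₁ + rk I := by exact_mod_cast hrG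
    rw [hdG, hrG', add_mul, mul_add] at h3
    have h4 : dg k E₁ * (rk E₁ : ℤ) < dg k E₁ * (rk E₁ : ℤ) :=
      calc dg k E₁ * (rk E₁ : ℤ) = dg k K * (rk E₁ : ℤ) + dg k I * (rk E₁ : ℤ) := by
            rw [← add_mul, ← hdg]
        _ < dg k E₁ * (rk K : ℤ) + dg k E₁ * (rk I : ℤ) := by linarith
        _ = dg k E₁ * (rk E₁ : ℤ) := by rw [← mul_add, ← hr']
    exact lt_irrefl _ h4
  have hex : (ShortComplex.mk i₁ (cokernel.π i₁) (cokernel.condition i₁)).Exact :=
    ShortComplex.exact_cokernel i₁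
  have hh' : (i₁ ≫ ψ) ≫ cokernel.π i₁ = 0 := by rw [Category.assoc, hh]
  have h5 := h E₁ i₁ (hex.lift _ hh') hi hE₁ hp₁ ⟨χ, hχ⟩ (hex.lift_f _ hh')
  intro G j hj hG hG0 hGi
  have h6 := hmax G j hj hG hG0 hGi
  refine le_of_mul_le_mul_right ?_ (show (0 : ℤ) < rk E₁ by exact_mod_cast hp₁)
  nlinarith [mul_le_mul_of_nonneg_right h6 (Int.natCast_nonneg (rk E)),
    mul_le_mul_of_nonneg_right h5 (Int.natCast_nonneg (rk G))]

/-- With a twist of degree zero, semistable pairs are semistable. -/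
theorem PBnd.bnd (hc : IsVBCurve k X) (hL : PicF.IsInvertible L) (hL0 : Curv2.deg k X L 1 = 0)
    {E : X.Modules} (hE : FlatMod.IsFinLocFree E) (hpos : 0 < rk E)
    {φ : E ⟶ (tw L).obj E} (h : PBnd k L φ (dg k E) (rk E)) : SS k E := by
  obtain ⟨E₁, i₁, hi, hE₁, hp₁, hmax, hbig⟩ := exists_max hc hE hpos
  have := hi
  have hQ := isFinLocFree_cokernel_of_max hc hE hE₁ i₁ hp₁ hmax
  obtain ⟨M, hM, hLM⟩ := Groth.PicAux.exists_isInverseOf hL
  have hM0 : Curv2.deg k X M 1 = 0 := by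
    obtain ⟨e⟩ := hLM
    have := Groth.EulerDeg.deg_tensor_invertible k hc.dim.le hL hM
    rw [Groth.EulerDeg.deg_congr k e, Groth.EulerDeg.deg_structure k] at this
    omega
  have hsub : ∀ (H : X.Modules) (m : H ⟶ (tw L).obj (cokernel i₁)), Mono m →
      FlatMod.IsFinLocFree H → 0 < rk H → dg k H * (rk E₁ : ℤ) < dg k E₁ * (rk H : ℤ) := by
    intro H m hm hH hH0
    obtain ⟨hr', hd'⟩ := tw_numerics hc hM hH
    rw [hM0, mul_zero, add_zero] at hd'
    let e := (Groth.PicAux.twistEquiv hLM).unitIso.app (cokernel i₁)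
    let m' : (tw M).obj H ⟶ cokernel i₁ := (tw M).map m ≫ e.inv
    have : IsIso e.inv := e.isIso_inv
    have : Mono m' := mono_comp' (mono_tw hM m) (IsIso.mono_of_iso e.inv)
    have h' := quot_slope_lt hc hE₁ i₁ hmax hbig _ m' (isFinLocFree_tw hM hH) (by omega)
    rwa [hr', hd'] at h'
  have hh : i₁ ≫ φ ≫ (tw L).map (cokernel.π i₁) = 0 :=
    hom_eq_zero hc hE₁ (isFinLocFree_tw hL hQ) (ss_of_max i₁ hmax) hsub _
  have hS : (ShortComplex.mk i₁ (cokernel.π i₁) (cokernel.condition i₁)).ShortExact :=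
    { exact := ShortComplex.exact_cokernel i₁ }
  have := Groth.PicAux.isEquivalence_tensorRightMod_of_isInvertible hL
  have hTS : ((ShortComplex.mk i₁ (cokernel.π i₁) (cokernel.condition i₁)).map (tw L)).ShortExact :=
    Groth.PicAux.shortExact_tensorRightMod hL hS
  have : Mono ((ShortComplex.mk i₁ (cokernel.π i₁) (cokernel.condition i₁)).map (tw L)).f :=
    hTS.mono_f
  have hh' : (i₁ ≫ φ) ≫ (tw L).map (cokernel.π i₁) = 0 := by rw [Category.assoc]; exact hh
  have h5 := h E₁ i₁ hi hE₁ hp₁ ⟨hTS.exact.lift _ hh', hTS.exact.lift_f _ hh'⟩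
  intro G j hj hG hG0
  have h6 := hmax G j hj hG hG0
  refine le_of_mul_le_mul_right ?_ (show (0 : ℤ) < rk E₁ by exact_mod_cast hp₁)
  nlinarith [mul_le_mul_of_nonneg_right h6 (Int.natCast_nonneg (rk E)),
    mul_le_mul_of_nonneg_right h5 (Int.natCast_nonneg (rk G))]

end Groth.VBCurves
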