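import Groth.Agent.VBCurves.WeilFinite
import Groth.Agent.VBCurves.Quot

/-!
# Operations on Weil finite bundles
-/

set_option autoImplicit false
set_option linter.unusedSectionVars false
set_option linter.style.haveILetI false

universe u

open CategoryTheory CategoryTheory.Limits AlgebraicGeometry
open Groth.CohTwo.SheafHomIso (tF)

namespace Groth.VBCurves.Weil

variable {X : Scheme.{u}}

/-- Tensor products of sums are sums of tensor products. -/
theorem Sums.tensor {P Q R : X.Modules → Prop} {A B : X.Modules} (hA : Sums P A) (hB : Sums Q B)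
    (hPQ : ∀ a b, P a → Q b → Sums R (CohB1.tensorMod a b))
    (hR : ∀ {M N : X.Modules}, (M ≅ N) → R M → R N) : Sums R (CohB1.tensorMod A B) :=
  hA.tensor_right B fun a ha =>
    Sums.iso hR (Groth.PicAux.exists_braiding B a).choose
      (hB.tensor_right a fun b hb =>
        Sums.iso hR (Groth.PicAux.exists_braiding a b).choose (hPQ a b ha hb))

variable {k : Type u} [Field k] [X.Over (Spec (CommRingCat.of k))]
  [IsIntegral X] [IsProper (X ↘ Spec (CommRingCat.of k))]

theorem exists_pairs {E₁ E₂ : X.Modules} {m₁ m₂ : ℕ} {S₁ : Fin m₁ → X.Modules}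
    {S₂ : Fin m₂ → X.Modules}
    (h₁ : ∀ n, Sums (Mem S₁) (CohB1.tensorPow E₁ n))
    (h₂ : ∀ n, Sums (Mem S₂) (CohB1.tensorPow E₂ n)) (a b : ℕ) :
    Sums (Mem fun l : Fin (m₁ * m₂) =>
      CohB1.tensorMod (S₁ (finProdFinEquiv.symm l).1) (S₂ (finProdFinEquiv.symm l).2))
      (CohB1.tensorMod (CohB1.tensorPow E₁ a) (CohB1.tensorPow E₂ b)) :=
  (h₁ a).tensor (h₂ b) (fun x y ⟨i, ⟨e⟩⟩ ⟨j, ⟨e'⟩⟩ =>
    .of ⟨finProdFinEquiv (i, j),
      ⟨PicGrp.tensorModIso e e' ≪≫ eqToIso (by simp only [Equiv.symm_apply_apply])⟩⟩)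
    (fun e h => h.iso e)

/-- The tensor product of two bundles of finite type. -/
theorem FinType.tensor (hc : IsVBCurve k X) {E₁ E₂ : X.Modules} (h₁ : FinType E₁)
    (h₂ : FinType E₂) : FinType (CohB1.tensorMod E₁ E₂) := by
  obtain ⟨m₁, S₁, hS₁, hn₁⟩ := h₁
  obtain ⟨m₂, S₂, hS₂, hn₂⟩ := h₂
  refine finType_of_family hc (fun l : Fin (m₁ * m₂) =>
      CohB1.tensorMod (S₁ (finProdFinEquiv.symm l).1) (S₂ (finProdFinEquiv.symm l).2))
    (fun l => Groth.LocFree.isFinLocFree_tensorMod (hS₁ _).2 (hS₂ _).2) fun n => ?_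
  obtain ⟨e⟩ := Groth.PicAux.tensorPow_tensorMod E₁ E₂ n
  exact Sums.iso (fun e h => h.iso e) e.symm (exists_pairs hn₁ hn₂ n n)

/-- The direct sum of two bundles of finite type. -/
theorem FinType.biprod (hc : IsVBCurve k X) {E₁ E₂ : X.Modules} (h₁ : FinType E₁)
    (h₂ : FinType E₂) : FinType (E₁ ⊞ E₂) := by
  obtain ⟨m₁, S₁, hS₁, hn₁⟩ := h₁
  obtain ⟨m₂, S₂, hS₂, hn₂⟩ := h₂
  refine finType_of_family hc (fun l : Fin (m₁ * m₂) =>
      CohB1.tensorMod (S₁ (finProdFinEquiv.symm l).1) (S₂ (finProdFinEquiv.symm l).2))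
    (fun l => Groth.LocFree.isFinLocFree_tensorMod (hS₁ _).2 (hS₂ _).2) ?_
  let P : X.Modules → Prop := fun N =>
    ∃ a b, Nonempty (N ≅ CohB1.tensorMod (CohB1.tensorPow E₁ a) (CohB1.tensorPow E₂ b))
  have hP : ∀ {M N : X.Modules}, (M ≅ N) → P M → P N :=
    fun e ⟨a, b, ⟨φ⟩⟩ => ⟨a, b, ⟨e.symm ≪≫ φ⟩⟩
  suffices h : ∀ n, Sums P (CohB1.tensorPow (E₁ ⊞ E₂) n) from fun n =>
    (h n).bind fun N ⟨a, b, ⟨e⟩⟩ => Sums.iso (fun e h => h.iso e) e.symm (exists_pairs hn₁ hn₂ a b)
  intro n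
  induction n with
  | zero => exact .of ⟨0, 0, ⟨(SecTwist.unitorR _).symm⟩⟩
  | succ n ih =>
    refine ih.tensor_right (E₁ ⊞ E₂) fun N ⟨a, b, ⟨e⟩⟩ => ?_
    have := TensorDual.additive_tensorRightMod N
    have := preservesBinaryBiproducts_of_preservesBiproducts (DCoh.tensorRightMod N)
    have h1 : P (CohB1.tensorMod E₁ N) := ⟨a + 1, b,
      ⟨(Groth.PicAux.exists_braiding E₁ N).choose ≪≫ PicGrp.tensorModIso e (Iso.refl E₁) ≪≫
        (Groth.PicAux.exists_associator (CohB1.tensorPow E₁ a) (CohB1.tensorPow E₂ b) E₁).choose ≪≫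
        PicGrp.tensorModIso (Iso.refl _)
          (Groth.PicAux.exists_braiding (CohB1.tensorPow E₂ b) E₁).choose ≪≫
        (Groth.PicAux.exists_associator (CohB1.tensorPow E₁ a) E₁
          (CohB1.tensorPow E₂ b)).choose.symm⟩⟩
    have h2 : P (CohB1.tensorMod E₂ N) := ⟨a, b + 1,
      ⟨(Groth.PicAux.exists_braiding E₂ N).choose ≪≫ PicGrp.tensorModIso e (Iso.refl E₂) ≪≫
        (Groth.PicAux.exists_associator (CohB1.tensorPow E₁ a) (CohB1.tensorPow E₂ b) E₂).choose⟩⟩
    exact Sums.iso hP (Groth.PicAux.exists_braiding (E₁ ⊞ E₂) N).choose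
      (.biprod ((DCoh.tensorRightMod N).mapBiprod E₁ E₂) (.of h1) (.of h2))

theorem exists_retract_pow {E F : X.Modules} (i : F ⟶ E) (p : E ⟶ F) (h : i ≫ p = 𝟙 F) :
    ∀ n, ∃ (a : CohB1.tensorPow F n ⟶ CohB1.tensorPow E n)
      (b : CohB1.tensorPow E n ⟶ CohB1.tensorPow F n), a ≫ b = 𝟙 _
  | 0 => ⟨𝟙 _, 𝟙 _, Category.id_comp _⟩
  | n + 1 => by
    obtain ⟨a, b, hab⟩ := exists_retract_pow i p h n
    refine ⟨(DCoh.tensorRightMod F).map a ≫ (tF (CohB1.tensorPow E n)).map i,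
      (tF (CohB1.tensorPow E n)).map p ≫ (DCoh.tensorRightMod F).map b, ?_⟩
    have h1 : (tF (CohB1.tensorPow E n)).map i ≫ (tF (CohB1.tensorPow E n)).map p =
        𝟙 ((tF (CohB1.tensorPow E n)).obj F) := by
      rw [← Functor.map_comp, h, CategoryTheory.Functor.map_id]
    refine (Category.assoc _ _ _).trans ?_
    refine (congrArg ((DCoh.tensorRightMod F).map a ≫ ·)
      ((Category.assoc _ _ _).symm.trans ((congrArg (· ≫ (DCoh.tensorRightMod F).map b) h1).trans
        (Category.id_comp _)))).trans ?_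
    rw [← Functor.map_comp, hab, CategoryTheory.Functor.map_id]
    rfl

/-- A summand of a bundle of finite type. -/
theorem FinType.of_biprod (hc : IsVBCurve k X) {E₁ E₂ : X.Modules}
    (hE₁ : FlatMod.IsFinLocFree E₁) (hE₂ : FlatMod.IsFinLocFree E₂) (h : FinType (E₁ ⊞ E₂)) :
    FinType E₁ := by
  obtain ⟨m, S, hS, hn⟩ := h
  have hE := Groth.KTheory.LocFree.isFinLocFree_of_shortExact
    (ShortComplex.Splitting.ofHasBinaryBiproduct E₁ E₂).shortExact hE₁ hE₂
  refine ⟨m, S, hS, fun n => ?_⟩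
  obtain ⟨a, b, hab⟩ := exists_retract_pow (biprod.inl : E₁ ⟶ E₁ ⊞ E₂) biprod.fst
    biprod.inl_fst n
  have hM := isFinLocFree_tensorPow hE n
  let σ := ShortComplex.Splitting.ofExactOfRetraction
    (ShortComplex.mk a (cokernel.π a) (cokernel.condition a)) (ShortComplex.exact_cokernel a) b hab
    (inferInstanceAs (Epi (cokernel.π a)))
  have hB := isFinLocFree_summand hc (σ.isoBinaryBiproduct ≪≫ biprod.braiding _ _) hM
  exact Sums.summand (k := k) (fun j => (hS j).1) (Groth.KTheory.LocFree.isCoh hM)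
    (Groth.KTheory.LocFree.isCoh (isFinLocFree_tensorPow hE₁ n))
    (Groth.KTheory.LocFree.isCoh hB) σ.isoBinaryBiproduct (hn n)

omit [IsIntegral X] in
theorem nonempty_D_pow {E : X.Modules} (hE : FlatMod.IsFinLocFree E) :
    ∀ n, Nonempty (TensorDual.D (CohB1.tensorPow E n) ≅ CohB1.tensorPow (TensorDual.D E) n)
  | 0 => TensorDual.nonempty_D_structure
  | n + 1 => by
    obtain ⟨e⟩ := nonempty_D_pow hE n
    obtain ⟨t⟩ := TensorDual.nonempty_D_tensor (CohB1.tensorPow E n) hE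
    exact ⟨t ≪≫ (Groth.PicAux.exists_braiding _ _).choose ≪≫
      PicGrp.tensorModIso e (Iso.refl _)⟩

/-- The dual of a bundle of finite type. -/
theorem FinType.dual (hc : IsVBCurve k X) {E : X.Modules} (hE : FlatMod.IsFinLocFree E)
    (h : FinType E) : FinType (TensorDual.D E) := by
  obtain ⟨m, S, hS, hn⟩ := h
  refine finType_of_family hc (fun j => TensorDual.D (S j))
    (fun j => TensorDual.isFinLocFree_D (hS j).2) fun n => ?_
  obtain ⟨e⟩ := nonempty_D_pow hE n
  exact Sums.iso (fun e h => h.iso e) e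
    ((hn n).dual fun N ⟨j, ⟨φ⟩⟩ => .of ⟨j, ⟨(TensorDual.dIso φ).symm⟩⟩)

omit [IsIntegral X] in
theorem nonempty_pow_iso {E F : X.Modules} (e : E ≅ F) (n : ℕ) :
    Nonempty (CohB1.tensorPow E n ≅ CohB1.tensorPow F n) :=
  Groth.PicAux.nonempty_tensorPow_iso e n

theorem FinType.of_iso {E F : X.Modules} (e : E ≅ F) (h : FinType E) : FinType F := by
  obtain ⟨m, S, hS, hn⟩ := h
  exact ⟨m, S, hS, fun n =>
    Sums.iso (fun e h => h.iso e) (Groth.PicAux.nonempty_tensorPow_iso e n).some (hn n)⟩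

theorem pow_numerics (hc : IsVBCurve k X) {E : X.Modules} {r : ℕ}
    (hE : FlatMod.IsFinLocFreeOfRank r E) : ∀ n,
    FlatMod.IsFinLocFreeOfRank (r ^ n) (CohB1.tensorPow E n) ∧
      (r : ℤ) * dg k (CohB1.tensorPow E n) = (n : ℤ) * (r : ℤ) ^ n * dg k E
  | 0 => by
    have h1 := Groth.LocFree.isInvertible_iff_ofRank_one.1
      (Groth.EulerDeg.isInvertible_structureModule X)
    refine ⟨by rw [pow_zero]; exact h1, ?_⟩
    have h0 : dg k (CohB1.tensorPow E 0) = 0 :=
      (dg_eq k h1).symm.trans (Groth.EulerDeg.deg_structure (X := X) k)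
    rw [h0]
    simp
  | n + 1 => by
    obtain ⟨h1, h2⟩ := pow_numerics hc hE n
    have h3 : FlatMod.IsFinLocFreeOfRank (r ^ (n + 1)) (CohB1.tensorPow E (n + 1)) := by
      rw [pow_succ]; exact Groth.LocFree.isFinLocFreeOfRank_tensorMod h1 hE
    refine ⟨h3, ?_⟩
    have h4 : dg k (CohB1.tensorPow E (n + 1)) =
        ((r ^ n : ℕ) : ℤ) * dg k E + (r : ℤ) * dg k (CohB1.tensorPow E n) := by
      rw [← dg_eq k h3, ← dg_eq k h1, ← dg_eq k hE, pow_succ]
      exact Groth.EulerDeg.deg_tensor k hc.dim.le h1 hE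
    rw [h4]
    push_cast
    linear_combination (r : ℤ) * h2

theorem exists_mono_pow [IsLocallyNoetherian X] {E F : X.Modules} (hE : FlatMod.IsFinLocFree E)
    (hF : FlatMod.IsFinLocFree F) (i : F ⟶ E) [Mono i] :
    ∀ n, ∃ a : CohB1.tensorPow F n ⟶ CohB1.tensorPow E n, Mono a
  | 0 => ⟨𝟙 (Coh.structureModule X), (inferInstance : Mono (𝟙 (Coh.structureModule X)))⟩
  | n + 1 => by
    obtain ⟨a, ha⟩ := exists_mono_pow hE hF i n
    have h1 := TensorDual.mono_tF (isFinLocFree_tensorPow hE n) i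
    have h2 : Mono ((DCoh.tensorRightMod F).map a) := by
      have := TensorDual.mono_tF hF a
      rw [← NatIso.naturality_2 (Groth.Duality.SheafHom.rightIsoLeft F) a]
      infer_instance
    exact ⟨(DCoh.tensorRightMod F).map a ≫ (tF (CohB1.tensorPow E n)).map i,
      mono_comp' h2 h1⟩

/-- Bundles of finite type are semistable of degree zero. -/
theorem deg_zero_of_finType (hc : IsVBCurve k X) {E : X.Modules} (hE : FlatMod.IsFinLocFree E)
    (h : FinType E) :
    dg k E = 0 ∧ ∀ (F : X.Modules) (i : F ⟶ E), Mono i → FlatMod.IsFinLocFree F → dg k F ≤ 0 := by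
  classical
  have : IsLocallyNoetherian X :=
    LocallyOfFiniteType.isLocallyNoetherian (X ↘ Spec (CommRingCat.of k))
  obtain ⟨m, S, hS, hn⟩ := h
  let b : Fin m → ℤ := fun j => (Module.finrank k (Coh.HH X (S j) 0) : ℤ) +
    (rk (S j) : ℤ) * |Curv2.euler k X (Coh.structureModule X)|
  let C : ℤ := ∑ j, (|b j| + |dg k (S j)|)
  have hC0 : 0 ≤ C := Finset.sum_nonneg fun j _ => by positivity
  have hj : ∀ j, 0 < rk (S j) := fun j => Nat.pos_of_ne_zero fun h0 =>
    (hS j).1.1 (isZero_of_rk_eq_zero (hS j).2 h0)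
  have hCj : ∀ j, |b j| ≤ C ∧ |dg k (S j)| ≤ C := fun j => by
    have := Finset.single_le_sum (f := fun j => |b j| + |dg k (S j)|)
      (fun i _ => by positivity) (Finset.mem_univ j)
    constructor <;> linarith [abs_nonneg (b j), abs_nonneg (dg k (S j))]
  have hzero : ∀ {M : X.Modules}, IsZero M → rk M = 0 ∧ dg k M = 0 := fun {M} hz => by
    have hzf : IsZero (FlatMod.freeMod X 0) :=
      (IsZero.iff_id_eq_zero _).2 (Sigma.hom_ext _ _ fun i => i.elim0)
    have h1 := Groth.LocFree.isFinLocFreeOfRank_of_iso (hzf.iso hz)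
      (Groth.LocFree.isFinLocFreeOfRank_freeMod X 0)
    exact ⟨rk_eq h1, dg_of_rk_zero k (Groth.LocFree.isFinLocFree_of_rank h1) (rk_eq h1)⟩
  have hB : ∀ {M : X.Modules}, Sums (Mem S) M →
      Bnd k M C 1 ∧ -(C * (rk M : ℤ)) ≤ dg k M := by
    intro M hM
    induction hM with
    | zero hz =>
      refine ⟨fun G i hi hG hpos => absurd (IsZero.of_mono i hz) fun hz' => ?_, ?_⟩
      · exact not_isZero_of_rank (isFinLocFreeOfRank_rk hG) hpos hz'
      · obtain ⟨h1, h2⟩ := hzero hz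
        rw [h1, h2]; simp
    | of hM =>
      obtain ⟨j, ⟨e⟩⟩ := hM
      obtain ⟨h1, h2⟩ := hCj j
      have hrk : (1 : ℤ) ≤ rk (S j) := by exact_mod_cast hj j
      refine ⟨Bnd.of_iso (fun G i hi hG hpos => ?_) e, ?_⟩
      · have h3 : dg k G ≤ b j := dg_le_bound hc (hS j).2 i
        have h4 : C ≤ C * (rk G : ℤ) := le_mul_of_one_le_right hC0 (by exact_mod_cast hpos)
        push_cast
        linarith [le_abs_self (b j)]
      · rw [rk_eq_of_iso (Groth.KTheory.LocFree.isFinLocFree_of_iso e.symm (hS j).2) e,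
          dg_eq_of_iso (k := k) (Groth.KTheory.LocFree.isFinLocFree_of_iso e.symm (hS j).2) e]
        have h4 : C ≤ C * (rk (S j) : ℤ) := le_mul_of_one_le_right hC0 hrk
        linarith [neg_abs_le (dg k (S j))]
    | @biprod M A B e hA hB' ihA ihB =>
      have hA' := isFinLocFree_of_sums (fun j => (hS j).2) hA
      have hB'' := isFinLocFree_of_sums (fun j => (hS j).2) hB'
      have hsS := (ShortComplex.Splitting.ofHasBinaryBiproduct A B).shortExact
      have hr := rk_add hsS hA' hB''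
      have hd := dg_add k hsS hA' hB''
      dsimp only at hr hd
      have hM' := Groth.KTheory.LocFree.isFinLocFree_of_iso e.symm
        (Groth.KTheory.LocFree.isFinLocFree_of_shortExact hsS hA' hB'')
      refine ⟨Bnd.of_iso (Bnd.ext hc _ _ _ hsS hA' hB'' ihA.1 ihB.1) e, ?_⟩
      rw [rk_eq_of_iso hM' e, dg_eq_of_iso (k := k) hM' e, hr, hd]
      push_cast
      linarith [ihA.2, ihB.2]
  -- linear growth contradicts boundedness
  have key : ∀ (x : ℤ) (r : ℕ), 0 < r →
      (∀ n : ℕ, (n : ℤ) * x ≤ C * (r : ℤ)) → x ≤ 0 := fun x r hr hx => by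
    by_contra hlt
    push Not at hlt
    have h1 := hx (C * r + 1).toNat
    rw [Int.toNat_of_nonneg (by positivity)] at h1
    have h2 : C * (r : ℤ) + 1 ≤ (C * r + 1) * x := le_mul_of_one_le_right (by positivity) hlt
    linarith
  have hsub : ∀ (F : X.Modules) (i : F ⟶ E), Mono i → FlatMod.IsFinLocFree F → dg k F ≤ 0 := by
    intro F i hi hF
    rcases Nat.eq_zero_or_pos (rk F) with h0 | h0
    · rw [dg_of_rk_zero k hF h0]
    refine key _ (rk F) h0 fun n => ?_
    obtain ⟨hP, hdP⟩ := pow_numerics hc (isFinLocFreeOfRank_rk hF) n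
    obtain ⟨a, ha⟩ := exists_mono_pow hE hF i n
    have h1 := (hB (hn n)).1 _ a ha (Groth.LocFree.isFinLocFree_of_rank hP)
      (by rw [rk_eq hP]; positivity)
    rw [rk_eq hP] at h1
    push_cast at h1
    have hp : (0 : ℤ) < (rk F : ℤ) ^ n := by positivity
    refine le_of_mul_le_mul_right ?_ hp
    have h2 := mul_le_mul_of_nonneg_left h1 (Int.natCast_nonneg (rk F))
    linarith
  refine ⟨le_antisymm (hsub E (𝟙 E) inferInstance hE) ?_, hsub⟩
  rcases Nat.eq_zero_or_pos (rk E) with h0 | h0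
  · rw [dg_of_rk_zero k hE h0]
  rw [← neg_nonpos]
  refine key _ (rk E) h0 fun n => ?_
  obtain ⟨hP, hdP⟩ := pow_numerics hc (isFinLocFreeOfRank_rk hE) n
  have h1 := (hB (hn n)).2
  rw [rk_eq hP] at h1
  push_cast at h1
  have hp : (0 : ℤ) < (rk E : ℤ) ^ n := by positivity
  refine le_of_mul_le_mul_right ?_ hp
  have h2 := mul_le_mul_of_nonneg_left h1 (Int.natCast_nonneg (rk E))
  linarith

/-- An invertible module of finite type is torsion, and conversely. -/
theorem isWeil_line_iff (hc : IsVBCurve k X) {L : X.Modules} (hL : PicF.IsInvertible L) :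
    IsWeil L ↔ ∃ m : ℕ, 0 < m ∧ Nonempty (CohB1.tensorPow L m ≅ Coh.structureModule X) := by
  classical
  have hL' := Groth.LocFree.isFinLocFree_of_rank (Groth.LocFree.isInvertible_iff_ofRank_one.1 hL)
  have hind : ∀ n, KS.Ind (CohB1.tensorPow L n) := fun n => by
    have h1 := Groth.LocFree.isInvertible_iff_ofRank_one.1
      (Groth.PicAux.isInvertible_tensorPow hL n)
    refine ⟨not_isZero_of_rank h1 one_pos, fun A B ⟨e⟩ => ?_⟩
    have hM := Groth.LocFree.isFinLocFree_of_rank h1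
    have hA := isFinLocFree_summand hc e hM
    have hB := isFinLocFree_summand hc (e ≪≫ biprod.braiding _ _) hM
    have hr := rk_add (ShortComplex.Splitting.ofHasBinaryBiproduct A B).shortExact hA hB
    dsimp only at hr
    rw [← rk_eq_of_iso hM e, rk_eq h1] at hr
    rcases Nat.eq_zero_or_pos (rk A) with h0 | h0
    · exact Or.inl (isZero_of_rk_eq_zero hA h0)
    · exact Or.inr (isZero_of_rk_eq_zero hB (by omega))
  constructor
  · intro h
    obtain ⟨m, S, hS, hn⟩ := finType_of_isWeil hc hL' h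
    have hmem : ∀ n, ∃ j, Nonempty (CohB1.tensorPow L n ≅ S j) := fun n => by
      obtain ⟨c, hc', hs⟩ := count_support (fun j => (hS j).1) (hn n)
      obtain ⟨c', hc'', hpos, -⟩ := hasCount_ind (hind n)
      obtain rfl := HasCount.unique k
        (Groth.KTheory.LocFree.isCoh (isFinLocFree_tensorPow hL' n)) hc' hc''
      obtain ⟨j, hj⟩ := hs _ (Nat.pos_iff_ne_zero.1 hpos)
      exact ⟨j, key_eq_iff.1 hj⟩
    choose f hf using hmem
    obtain ⟨a, b, hne, hab⟩ :=
      Finite.exists_ne_map_eq_of_infinite (f : ℕ → Fin m)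
    wlog hlt : a < b generalizing a b
    · exact this b a (Ne.symm hne) hab.symm (by omega)
    obtain ⟨d, rfl⟩ : ∃ d, b = a + d := ⟨b - a, by omega⟩
    refine ⟨d, by omega, ?_⟩
    obtain ⟨e₁⟩ := hf a
    obtain ⟨e₂⟩ := hf (a + d)
    obtain ⟨L', -, hinv⟩ := Groth.PicAux.exists_isInverseOf hL
    obtain ⟨i⟩ := Groth.PicAux.isInverseOf_symm (Groth.PicAux.isInverseOf_tensorPow hinv a)
    obtain ⟨t⟩ := Groth.PicAux.tensorPow_add L a d
    let A := CohB1.tensorPow L a
    let A' := CohB1.tensorPow L' a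
    let D' := CohB1.tensorPow L d
    let φ : CohB1.tensorMod A D' ≅ A := t.symm ≪≫ e₂ ≪≫ eqToIso (by rw [hab]) ≪≫ e₁.symm
    exact ⟨(Groth.PicAux.exists_leftUnitor D').choose.symm ≪≫
      PicGrp.tensorModIso i.symm (Iso.refl D') ≪≫
      (Groth.PicAux.exists_associator A' A D').choose ≪≫
      PicGrp.tensorModIso (Iso.refl A') φ ≪≫ i⟩
  · rintro ⟨d, hd, ⟨e⟩⟩
    refine isWeil_of_finType hL' (finType_of_family hc (fun i : Fin d => CohB1.tensorPow L ↑i)
      (fun i => isFinLocFree_tensorPow hL' _) fun n => ?_)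
    induction n using Nat.strong_induction_on with
    | _ n ih =>
      rcases Nat.lt_or_ge n d with h1 | h1
      · exact .of ⟨⟨n, h1⟩, ⟨Iso.refl _⟩⟩
      · obtain ⟨q, rfl⟩ : ∃ q, n = d + q := ⟨n - d, by omega⟩
        obtain ⟨t⟩ := Groth.PicAux.tensorPow_add L d q
        exact Sums.iso (fun e h => h.iso e)
          ((Groth.PicAux.exists_leftUnitor _).choose.symm ≪≫
            PicGrp.tensorModIso e.symm (Iso.refl _) ≪≫ t.symm) (ih q (by omega))

end Groth.VBCurves.Weil
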