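import Groth.Agent.VBCurves.GenusOneEval
import Groth.Agent.VBCurves.Quot
import Groth.Agent.CurveBridge.FromDivisor
import Groth.Agent.CurveBridge.RatPoints
import Groth.Agent.VarietyBC.BC

/-!
# Subbundles of tensor products of semistable bundles in genus one
-/

set_option autoImplicit false
set_option linter.unusedSectionVars false
set_option linter.style.haveILetI false

universe u

open CategoryTheory CategoryTheory.Limits AlgebraicGeometry TopologicalSpace
open Groth.CohTwo.SheafHomIso (tF)
open scoped Groth.CurveBridge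

namespace Groth.VBCurves.GenusOneTensor

variable {k : Type u} [Field k] {X : Scheme.{u}} [X.Over (Spec (CommRingCat.of k))]
  [IsIntegral X] [IsProper (X ↘ Spec (CommRingCat.of k))]

/-- A rational point gives line bundles of every degree. -/
theorem exists_line (h : Groth.CurveBridge.IsRegCurve X)
    (hK : FunFld.IsFunctionField k X.functionField) (O : Spec (CommRingCat.of k) ⟶ X)
    (hO : O ≫ (X ↘ Spec (CommRingCat.of k)) = 𝟙 _) (e : ℤ) :
    ∃ L : X.Modules, PicF.IsInvertible L ∧ Curv2.deg k X L 1 = e := by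
  let a := Scheme.SpecToEquivOfField k X O
  have hfac : Spec.map a.2 ≫ X.fromSpecResidueField a.1 = O :=
    (Scheme.SpecToEquivOfField k X).symm_apply_apply O
  have hcomp : CommRingCat.ofHom (Curv2.resMap k X a.1) ≫ a.2 = 𝟙 _ := by
    apply Spec.map_injective
    rw [Spec.map_comp, Spec.map_id, ← Groth.VarietyBC.fromSpecResidueField_str (k := k),
      ← Category.assoc, hfac, hO]
  have hbij : Function.Bijective (Curv2.resMap k X a.1) :=
    ⟨(Curv2.resMap k X a.1).injective, fun y => ⟨a.2 y, (a.2.hom).injective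
      (congr($hcomp (a.2 y)))⟩⟩
  have : IsClosedImmersion (O ≫ (X ↘ Spec (CommRingCat.of k))) := by rw [hO]; infer_instance
  have : IsClosedImmersion O := IsClosedImmersion.of_comp O (X ↘ Spec (CommRingCat.of k))
  have hcl : IsClosed ({a.1} : Set X) := by
    have h1 : ({a.1} : Set X) = Set.range O := by
      have hne : Subsingleton (Spec (CommRingCat.of k)) :=
        inferInstanceAs (Subsingleton (PrimeSpectrum k))
      ext y
      constructor
      · rintro rfl
        exact ⟨IsLocalRing.closedPoint k, rfl⟩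
      · rintro ⟨p, rfl⟩
        rw [Subsingleton.elim p (IsLocalRing.closedPoint k)]
        rfl
    rw [h1]
    exact O.isClosedEmbedding.isClosed_range
  have hP : (Groth.CurveBridge.placeAt (k := k) h ⟨a.1, hcl⟩).deg = 1 :=
    (Groth.CurveBridge.bijective_resMap_iff h ⟨a.1, hcl⟩).1 hbij
  obtain ⟨L, hL, -, hd, -⟩ := Groth.CurveBridge.exists_invertible_numerics (k := k) h hK
    (Finsupp.single (Groth.CurveBridge.placeAt (k := k) h ⟨a.1, hcl⟩) e)
  exact ⟨L, hL, by rw [hd]; simp [FunFld.Divisor.deg, hP]⟩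

/-- Subbundles of copies of a line. -/
theorem bnd_copies (hc : IsVBCurve k X) {L : X.Modules} (hL : FlatMod.IsFinLocFreeOfRank 1 L) :
    ∀ n : ℕ, Bnd k (∐ fun _ : Fin n => L) (dg k L) 1
  | 0 => fun G i hi hG hpos => absurd
      (IsZero.of_mono i (KS.isZero_coprod_zero _))
      (not_isZero_of_rank (isFinLocFreeOfRank_rk hG) hpos)
  | n + 1 => by
    have hL' := Groth.LocFree.isFinLocFree_of_rank hL
    have h1 : Bnd k L (dg k L) 1 := by
      have := St.ss hc hL' (st_line (k := k) hL)
      rwa [SS, rk_eq hL] at this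
    exact Bnd.of_iso (Bnd.ext hc _ _ _
      (ShortComplex.Splitting.ofHasBinaryBiproduct _ _).shortExact hL'
      (Weil.isFinLocFree_coprod _ fun _ => hL') h1 (bnd_copies hc hL n))
      (KS.splitAt 0 fun _ : Fin (n + 1) => L).symm

/-- The bound `μ(G) ≤ μ(F) + μ(F') + 4`. -/
theorem slope_le (h : Groth.CurveBridge.IsRegCurve X)
    (hK : FunFld.IsFunctionField k X.functionField) (O : Spec (CommRingCat.of k) ⟶ X)
    (hO : O ≫ (X ↘ Spec (CommRingCat.of k)) = 𝟙 _) (hc : IsVBCurve k X) {ω : X.Modules}
    (hω : IsDualizing k ω) (hg : Curv2.genus k X = 1) {F F' G : X.Modules}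
    (hF : FlatMod.IsFinLocFree F) (hF' : FlatMod.IsFinLocFree F') (hr : 0 < rk F) (hs : 0 < rk F')
    (sF : SS k F) (sF' : SS k F') (hG : FlatMod.IsFinLocFree G) (hG0 : 0 < rk G)
    (i : G ⟶ CohB1.tensorMod F F') [Mono i] :
    dg k G * (rk F : ℤ) * (rk F' : ℤ) ≤
      (rk G : ℤ) * (4 * (rk F : ℤ) * (rk F' : ℤ) + dg k F * (rk F' : ℤ) + dg k F' * (rk F : ℤ)) := by
  have : IsNoetherian X := Groth.EulerDeg.isNoetherian_of_proper k X
  have emb : ∀ {E : X.Modules}, FlatMod.IsFinLocFree E → 0 < rk E → SS k E →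
      ∃ (L : X.Modules) (M : ℕ) (j : E ⟶ ∐ fun _ : Fin M => L),
        FlatMod.IsFinLocFreeOfRank 1 L ∧ dg k L * (rk E : ℤ) ≤ dg k E + 2 * rk E ∧ Mono j := by
    intro E hE hE0 sE
    obtain ⟨L, hL, hd⟩ := exists_line h hK O hO (dg k E / (rk E : ℤ) + 2)
    have hL1 := Groth.LocFree.isInvertible_iff_ofRank_one.1 hL
    rw [dg_eq k hL1] at hd
    have hr' : (0 : ℤ) < rk E := by exact_mod_cast hE0
    have h1 := Int.emod_add_mul_ediv (dg k E) (rk E : ℤ)
    have h2 := Int.emod_nonneg (dg k E) hr'.ne'
    have h3 := Int.emod_lt_of_pos (dg k E) hr'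
    obtain ⟨M, -, j, hj⟩ := GenusOneEval.exists_mono hc hω hg hL hE hE0 sE (by
      rw [hd, mul_add]; linarith)
    exact ⟨L, M, j, hL1, by rw [hd, add_mul]; linarith, hj⟩
  obtain ⟨L, M, j, hL, hdL, hj⟩ := emb hF hr sF
  obtain ⟨L', M', j', hL', hdL', hj'⟩ := emb hF' hs sF'
  let T := ∐ fun _ : Fin M => L
  let T' := ∐ fun _ : Fin M' => L'
  have hT' : FlatMod.IsFinLocFree T' :=
    Weil.isFinLocFree_coprod _ fun _ => Groth.LocFree.isFinLocFree_of_rank hL'
  have h1 : Mono ((tF F).map j') := TensorDual.mono_tF hF j'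
  have h2 : Mono ((DCoh.tensorRightMod T').map j) := by
    have := TensorDual.mono_tF hT' j
    rw [← NatIso.naturality_2 (Groth.Duality.SheafHom.rightIsoLeft T') j]
    infer_instance
  have hmono : Mono (i ≫ (tF F).map j' ≫ (DCoh.tensorRightMod T').map j) :=
    mono_comp' inferInstance (mono_comp' h1 h2)
  -- copies of `L ⊗ L'`
  let N := CohB1.tensorMod L L'
  have hN : FlatMod.IsFinLocFreeOfRank 1 N := Groth.LocFree.isFinLocFreeOfRank_tensorMod hL hL'
  have hsum : ∀ m : ℕ, Bnd k (CohB1.tensorMod (∐ fun _ : Fin m => L) T') (dg k N) 1 := by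
    intro m
    induction m with
    | zero =>
      intro G i hi hG hpos
      have := TensorDual.additive_tensorRightMod T'
      exact absurd (IsZero.of_mono i ((DCoh.tensorRightMod T').map_isZero (KS.isZero_coprod_zero _)))
        (not_isZero_of_rank (isFinLocFreeOfRank_rk hG) hpos)
    | succ m ih =>
      have := TensorDual.additive_tensorRightMod T'
      have := preservesBinaryBiproducts_of_preservesBiproducts (DCoh.tensorRightMod T')
      have hLf := Groth.LocFree.isFinLocFree_of_rank hL
      have hb : Bnd k (CohB1.tensorMod L T') (dg k N) 1 := by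
        suffices hq : ∀ q : ℕ, Bnd k (CohB1.tensorMod L (∐ fun _ : Fin q => L')) (dg k N) 1 from
          hq M'
        intro q
        induction q with
        | zero =>
          intro G i hi hG hpos
          exact absurd (IsZero.of_mono i ((tF L).map_isZero (KS.isZero_coprod_zero _)))
            (not_isZero_of_rank (isFinLocFreeOfRank_rk hG) hpos)
        | succ q ihq =>
          have hb1 : Bnd k N (dg k N) 1 := by
            have := St.ss hc (Groth.LocFree.isFinLocFree_of_rank hN) (st_line (k := k) hN)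
            rwa [SS, rk_eq hN] at this
          have := preservesBinaryBiproducts_of_preservesBiproducts (tF L)
          exact Bnd.of_iso (Bnd.ext hc _ _ _
            (ShortComplex.Splitting.ofHasBinaryBiproduct _ _).shortExact
            (Groth.LocFree.isFinLocFree_of_rank hN)
            (Groth.LocFree.isFinLocFree_tensorMod hLf (Weil.isFinLocFree_coprod _ fun _ =>
              Groth.LocFree.isFinLocFree_of_rank hL')) hb1 ihq)
            (((tF L).mapIso (KS.splitAt 0 fun _ : Fin (q + 1) => L').symm) ≪≫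
              (tF L).mapBiprod _ _)
      exact Bnd.of_iso (Bnd.ext hc _ _ _
        (ShortComplex.Splitting.ofHasBinaryBiproduct _ _).shortExact
        (Groth.LocFree.isFinLocFree_tensorMod hLf hT')
        (Groth.LocFree.isFinLocFree_tensorMod (Weil.isFinLocFree_coprod _ fun _ => hLf) hT') hb ih)
        (((DCoh.tensorRightMod T').mapIso (KS.splitAt 0 fun _ : Fin (m + 1) => L).symm) ≪≫
          (DCoh.tensorRightMod T').mapBiprod _ _)
  have hb := hsum M G _ hmono hG hG0
  have hdN : dg k N = dg k L + dg k L' := by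
    rw [← dg_eq k hN, ← dg_eq k hL, ← dg_eq k hL']
    exact Groth.EulerDeg.deg_tensor_invertible k hc.dim.le
      (Groth.LocFree.isInvertible_iff_ofRank_one.2 hL)
      (Groth.LocFree.isInvertible_iff_ofRank_one.2 hL')
  rw [hdN] at hb
  push_cast at hb
  rw [mul_one] at hb
  have h3 := mul_le_mul_of_nonneg_right hb
    (mul_nonneg (Int.natCast_nonneg (rk F)) (Int.natCast_nonneg (rk F')))
  have h4 := mul_le_mul_of_nonneg_left hdL
    (mul_nonneg (Int.natCast_nonneg (rk G)) (Int.natCast_nonneg (rk F')))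
  have h5 := mul_le_mul_of_nonneg_left hdL'
    (mul_nonneg (Int.natCast_nonneg (rk G)) (Int.natCast_nonneg (rk F)))
  linarith

end Groth.VBCurves.GenusOneTensor
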