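import Groth.Agent.VBCurves.AutCount

/-!
# Automorphisms of small bundles on a curve of genus one
-/

set_option autoImplicit false
set_option linter.unusedSectionVars false
set_option linter.style.haveILetI false

universe u

open CategoryTheory CategoryTheory.Limits AlgebraicGeometry TopologicalSpace
open scoped Groth.CurveBridge

namespace Groth.VBCurves.GenusOneAut

variable {k : Type u} [Field k] {X : Scheme.{u}} [X.Over (Spec (CommRingCat.of k))]
  [IsIntegral X] [IsProper (X ↘ Spec (CommRingCat.of k))]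

/-- Endomorphisms of an invertible module are scalars. -/
theorem bijective_end_line (hc : IsVBCurve k X) {ω : X.Modules} (hω : IsDualizing k ω)
    {L : X.Modules} (hL : PicF.IsInvertible L) : Function.Bijective fun c : k => c • 𝟙 L := by
  have hL1 := Groth.LocFree.isInvertible_iff_ofRank_one.1 hL
  have hO := Groth.LocFree.isInvertible_iff_ofRank_one.1
    (Groth.EulerDeg.isInvertible_structureModule X)
  have := Groth.PicAux.isEquivalence_tensorRightMod_of_isInvertible hL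
  have : PreservesBinaryBiproducts (tw L) :=
    preservesBinaryBiproducts_of_preservesBinaryProducts (tw L)
  have := Functor.additive_of_preservesBinaryBiproducts (tw L)
  have h0 : Module.finrank k (Coh.HH X (Coh.structureModule X) 0) = 1 := by
    have h := Secant.riemann_roch hc hω (Coh.structureModule X)
    rw [Groth.EulerDeg.deg_structure (X := X) k, ← Curv2.genus] at h
    omega
  have h1 : Module.finrank k (L ⟶ L) = 1 := by
    rw [← h0, ← Secant.finrank_hom_structure]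
    exact (((HomEuler.twHom (k := k) L (Coh.structureModule X) (Coh.structureModule X))).trans
      (Linear.homCongr k (Groth.PicAux.exists_leftUnitor L).choose
        (Groth.PicAux.exists_leftUnitor L).choose)).finrank_eq.symm
  have hne : 𝟙 L ≠ 0 := fun h =>
    not_isZero_of_rank hL1 one_pos ((IsZero.iff_id_eq_zero L).2 h)
  exact ⟨smul_left_injective k hne, (finrank_eq_one_iff_of_nonzero' _ hne).1 h1⟩

/-- Maps between non-isomorphic lines of degree zero vanish. -/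
theorem hom_eq_zero_of_ne (hc : IsVBCurve k X) {L M : X.Modules} (hL : PicF.IsInvertible L)
    (hM : PicF.IsInvertible M) (hdL : Curv2.deg k X L 1 = 0) (hdM : Curv2.deg k X M 1 = 0)
    (hne : ¬ Nonempty (L ≅ M)) (f : L ⟶ M) : f = 0 := by
  by_contra hf
  have hL1 := Groth.LocFree.isInvertible_iff_ofRank_one.1 hL
  have hM1 := Groth.LocFree.isInvertible_iff_ofRank_one.1 hM
  have hL' := Groth.LocFree.isFinLocFree_of_rank hL1
  have hM' := Groth.LocFree.isFinLocFree_of_rank hM1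
  have : Mono f := mono_of_stable hc hL' hM' (st_line hL1) (St.ss hc hM' (st_line hM1))
    (by rw [rk_eq hL1, rk_eq hM1, ← dg_eq k hL1, ← dg_eq k hM1, hdL, hdM])
    (by rw [rk_eq hM1]; norm_num) f hf
  have := isIso_of_mono hc hL' hM' f (by rw [rk_eq hL1, rk_eq hM1])
    (by rw [← dg_eq k hL1, ← dg_eq k hM1, hdL, hdM])
  exact hne ⟨asIso f⟩

theorem card_hom_of_zero {A B : X.Modules} (h : ∀ f : A ⟶ B, f = 0) : Nat.card (A ⟶ B) = 1 :=
  have : Subsingleton (A ⟶ B) := subsingleton_of_forall_eq 0 h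
  Nat.card_of_subsingleton 0

/-- Automorphisms of a line plus an orthogonal summand. -/
theorem card_aut_orthogonal {A B : X.Modules} (h₁ : ∀ f : A ⟶ B, f = 0) (h₂ : ∀ f : B ⟶ A, f = 0) :
    Nat.card (Aut (A ⊞ B)) = Nat.card (Aut A) * Nat.card (Aut B) := by
  rw [AutCount.card_aut_biprod fun b c => by rw [h₁ b, zero_comp], card_hom_of_zero h₁,
    card_hom_of_zero h₂, mul_one, mul_one]

theorem zero_into {A B C : X.Modules} (hB : ∀ f : A ⟶ B, f = 0) (hC : ∀ f : A ⟶ C, f = 0)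
    (f : A ⟶ B ⊞ C) : f = 0 :=
  biprod.hom_ext _ _ ((hB _).trans zero_comp.symm) ((hC _).trans zero_comp.symm)

theorem zero_from {A B C : X.Modules} (hB : ∀ f : B ⟶ A, f = 0) (hC : ∀ f : C ⟶ A, f = 0)
    (f : B ⊞ C ⟶ A) : f = 0 :=
  biprod.hom_ext' _ _ ((hB _).trans comp_zero.symm) ((hC _).trans comp_zero.symm)

theorem arith_two {q : ℕ} (hq : 1 ≤ q) :
    (q - 1) * ((q ^ 2 - 1) * (q ^ 2 - q)) = (q - 1) ^ 3 * (q + 1) * q := by
  obtain ⟨m, rfl⟩ : ∃ m, q = m + 1 := ⟨q - 1, by omega⟩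
  have e1 : (m + 1) ^ 2 - 1 = m * (m + 2) := Nat.sub_eq_of_eq_add (by ring)
  have e2 : (m + 1) ^ 2 - (m + 1) = m * (m + 1) := Nat.sub_eq_of_eq_add (by ring)
  rw [e1, e2, Nat.add_sub_cancel]
  ring

variable [Finite k]

/-- Automorphisms of three lines of degree zero. -/
theorem card_aut_three_lines (hc : IsVBCurve k X) {ω : X.Modules} (hω : IsDualizing k ω)
    {O L₁ L₂ : X.Modules} (hO : PicF.IsInvertible O) (hL₁ : PicF.IsInvertible L₁)
    (hL₂ : PicF.IsInvertible L₂) (hd : Curv2.deg k X O 1 = 0) (hd₁ : Curv2.deg k X L₁ 1 = 0)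
    (hd₂ : Curv2.deg k X L₂ 1 = 0) :
    (Nonempty (L₁ ≅ O) → Nonempty (L₂ ≅ O) → Nat.card (Aut (O ⊞ L₁ ⊞ L₂)) =
      (Nat.card k ^ 3 - 1) * (Nat.card k ^ 3 - Nat.card k) * (Nat.card k ^ 3 - Nat.card k ^ 2)) ∧
    (Nonempty (L₁ ≅ L₂) → ¬ Nonempty (L₁ ≅ O) →
      Nat.card (Aut (O ⊞ L₁ ⊞ L₂)) = (Nat.card k - 1) ^ 3 * (Nat.card k + 1) * Nat.card k) ∧
    (¬ Nonempty (L₁ ≅ L₂) → Nonempty (L₂ ≅ O) →
      Nat.card (Aut (O ⊞ L₁ ⊞ L₂)) = (Nat.card k - 1) ^ 3 * (Nat.card k + 1) * Nat.card k) ∧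
    (¬ Nonempty (L₁ ≅ O) → ¬ Nonempty (L₂ ≅ O) → ¬ Nonempty (L₁ ≅ L₂) →
      Nat.card (Aut (O ⊞ L₁ ⊞ L₂)) = (Nat.card k - 1) ^ 3) := by
  have bO := bijective_end_line hc hω hO
  have b₁ := bijective_end_line hc hω hL₁
  have b₂ := bijective_end_line hc hω hL₂
  have hq : 1 ≤ Nat.card k := Nat.card_pos
  have z : ∀ {A B : X.Modules}, PicF.IsInvertible A → PicF.IsInvertible B →
      Curv2.deg k X A 1 = 0 → Curv2.deg k X B 1 = 0 → ¬ Nonempty (A ≅ B) →
      (∀ f : A ⟶ B, f = 0) ∧ ∀ f : B ⟶ A, f = 0 := fun hA hB dA dB hne =>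
    ⟨hom_eq_zero_of_ne hc hA hB dA dB hne,
      hom_eq_zero_of_ne hc hB hA dB dA fun ⟨e⟩ => hne ⟨e.symm⟩⟩
  refine ⟨fun ⟨e₁⟩ ⟨e₂⟩ => ?_, fun ⟨e⟩ hne => ?_, fun hne ⟨e⟩ => ?_, fun h₁ h₂ h₁₂ => ?_⟩
  · rw [AutCount.card_aut_congr (biprod.mapIso (Iso.refl O) (biprod.mapIso e₁ e₂)),
      AutCount.card_aut_three bO]
  · obtain ⟨zl, zr⟩ := z hO hL₁ hd hd₁ fun ⟨a⟩ => hne ⟨a.symm⟩
    rw [AutCount.card_aut_congr (biprod.mapIso (Iso.refl O) (biprod.mapIso (Iso.refl L₁) e.symm)),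
      card_aut_orthogonal
        (zero_into zl zl)
        (zero_from zr zr),
      AutCount.card_aut_one bO, AutCount.card_aut_two b₁, arith_two hq]
  · obtain ⟨zl, zr⟩ := z hL₁ hO hd₁ hd fun ⟨a⟩ => hne ⟨a ≪≫ e.symm⟩
    let σ : O ⊞ L₁ ⊞ O ≅ L₁ ⊞ O ⊞ O :=
      { hom := biprod.lift (biprod.snd ≫ biprod.fst) (biprod.lift biprod.fst (biprod.snd ≫ biprod.snd))
        inv := biprod.lift (biprod.snd ≫ biprod.fst) (biprod.lift biprod.fst (biprod.snd ≫ biprod.snd))
        hom_inv_id := biprod.hom_ext _ _ (by simp) (biprod.hom_ext _ _ (by simp) (by simp))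
        inv_hom_id := biprod.hom_ext _ _ (by simp) (biprod.hom_ext _ _ (by simp) (by simp)) }
    rw [AutCount.card_aut_congr (biprod.mapIso (Iso.refl O) (biprod.mapIso (Iso.refl L₁) e) ≪≫ σ),
      card_aut_orthogonal
        (zero_into zl zl)
        (zero_from zr zr),
      AutCount.card_aut_one b₁, AutCount.card_aut_two bO, arith_two hq]
  · obtain ⟨zl₁, zr₁⟩ := z hO hL₁ hd hd₁ fun ⟨a⟩ => h₁ ⟨a.symm⟩
    obtain ⟨zl₂, zr₂⟩ := z hO hL₂ hd hd₂ fun ⟨a⟩ => h₂ ⟨a.symm⟩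
    obtain ⟨zl, zr⟩ := z hL₁ hL₂ hd₁ hd₂ h₁₂
    rw [card_aut_orthogonal
        (zero_into zl₁ zl₂)
        (zero_from zr₁ zr₂),
      card_aut_orthogonal zl zr, AutCount.card_aut_one bO, AutCount.card_aut_one b₁,
      AutCount.card_aut_one b₂]
    ring

/-- Automorphisms of `O ⊕ F`, `F` the non-split self-extension of `O`. -/
theorem card_aut_sum_selfExt (hc : IsVBCurve k X) {ω : X.Modules} (hω : IsDualizing k ω)
    {O F : X.Modules} (hO : PicF.IsInvertible O) (i : O ⟶ F) (p : F ⟶ O) (w : i ≫ p = 0)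
    (hS : (ShortComplex.mk i p w).ShortExact) (hns : ¬ IsSplitEpi p) :
    Nat.card (Aut (O ⊞ F)) = (Nat.card k - 1) ^ 2 * Nat.card k ^ 3 := by
  have b := bijective_end_line hc hω hO
  have hne : 𝟙 O ≠ 0 := fun h => not_isZero_of_rank
    (Groth.LocFree.isInvertible_iff_ofRank_one.1 hO) one_pos ((IsZero.iff_id_eq_zero O).2 h)
  obtain ⟨hi, hp, -⟩ := AutCount.selfExt_homs i p w hS hns b
  have h : ∀ (f : O ⟶ F) (g : F ⟶ O), f ≫ g = 0 := fun f g => by
    obtain ⟨x, rfl⟩ := hi.2 f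
    obtain ⟨y, rfl⟩ := hp.2 g
    simp [w]
  rw [AutCount.card_aut_biprod h, AutCount.card_aut_one b,
    AutCount.card_aut_selfExt hne i p w hS hns b, ← Nat.card_eq_of_bijective _ hi,
    ← Nat.card_eq_of_bijective _ hp]
  ring

/-- Automorphisms of `O ⊕ G`, `G` a non-split self-extension of `L ≇ O`. -/
theorem card_aut_sum_selfExt_ne (hc : IsVBCurve k X) {ω : X.Modules} (hω : IsDualizing k ω)
    {O L G : X.Modules} (hO : PicF.IsInvertible O) (hL : PicF.IsInvertible L)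
    (hd : Curv2.deg k X O 1 = 0) (hdL : Curv2.deg k X L 1 = 0) (hne : ¬ Nonempty (L ≅ O))
    (i : L ⟶ G) (p : G ⟶ L) (w : i ≫ p = 0)
    (hS : (ShortComplex.mk i p w).ShortExact) (hns : ¬ IsSplitEpi p) :
    Nat.card (Aut (O ⊞ G)) = (Nat.card k - 1) ^ 2 * Nat.card k := by
  have b := bijective_end_line hc hω hL
  have hne' : 𝟙 L ≠ 0 := fun h => not_isZero_of_rank
    (Groth.LocFree.isInvertible_iff_ofRank_one.1 hL) one_pos ((IsZero.iff_id_eq_zero L).2 h)
  have zl := hom_eq_zero_of_ne hc hO hL hd hdL fun ⟨a⟩ => hne ⟨a.symm⟩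
  have zr := hom_eq_zero_of_ne hc hL hO hdL hd hne
  have : Mono i := hS.mono_f
  have : Epi p := hS.epi_g
  have h₁ : ∀ f : O ⟶ G, f = 0 := fun f => by
    have := hS.exact.lift_f f (zl _)
    rw [zl (hS.exact.lift f (zl _))] at this
    simpa using this.symm
  have h₂ : ∀ f : G ⟶ O, f = 0 := fun f => by
    have := hS.exact.g_desc f (zr _)
    rw [zr (hS.exact.desc f (zr _))] at this
    simpa using this.symm
  rw [card_aut_orthogonal h₁ h₂, AutCount.card_aut_one (bijective_end_line hc hω hO),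
    AutCount.card_aut_selfExt hne' i p w hS hns b]
  ring

/-- Twisting a non-split self-extension of `O` by a line. -/
theorem exists_twist {T : ShortComplex X.Modules} (hT : T.ShortExact)
    (e₁ : T.X₁ ≅ Coh.structureModule X) (e₃ : T.X₃ ≅ Coh.structureModule X)
    (hns : ¬ IsSplitEpi T.g) {L : X.Modules} (hL : PicF.IsInvertible L) :
    ∃ (i : L ⟶ CohB1.tensorMod L T.X₂) (p : CohB1.tensorMod L T.X₂ ⟶ L) (w : i ≫ p = 0),
      (ShortComplex.mk i p w).ShortExact ∧ ¬ IsSplitEpi p := by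
  have := Groth.PicAux.isEquivalence_tensorRightMod_of_isInvertible hL
  obtain ⟨β, -⟩ := Groth.PicAux.exists_braiding T.X₂ L
  have hS := Groth.PicAux.shortExact_tensorRightMod hL hT
  let a₁ : (tw L).obj T.X₁ ≅ L :=
    (tw L).mapIso e₁ ≪≫ (Groth.PicAux.exists_leftUnitor L).choose
  let a₃ : (tw L).obj T.X₃ ≅ L :=
    (tw L).mapIso e₃ ≪≫ (Groth.PicAux.exists_leftUnitor L).choose
  let b : (tw L).obj T.X₂ ≅ CohB1.tensorMod L T.X₂ := β
  let i := a₁.inv ≫ (tw L).map T.f ≫ b.hom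
  let p := b.inv ≫ (tw L).map T.g ≫ a₃.hom
  have w : i ≫ p = 0 := by
    simp only [i, p, Category.assoc, Iso.hom_inv_id_assoc]
    have h0 : (tw L).map T.f ≫ (tw L).map T.g = 0 := (T.map (tw L)).zero
    rw [reassoc_of% h0, zero_comp, comp_zero]
  refine ⟨i, p, w, ShortComplex.shortExact_of_iso (ShortComplex.isoMk
    (S₁ := T.map (tw L)) (S₂ := ShortComplex.mk i p w) a₁ b a₃ (Iso.hom_inv_id_assoc a₁ _) (Iso.hom_inv_id_assoc b _)) hS,
    fun hs => hns ?_⟩
  have : IsSplitEpi ((tw L).map T.g) :=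
    IsSplitEpi.mk' ⟨a₃.hom ≫ section_ p ≫ b.inv, by
      rw [← cancel_mono a₃.hom]
      simp only [Category.assoc, Category.id_comp]
      rw [show b.inv ≫ (tw L).map T.g ≫ a₃.hom = p from rfl, IsSplitEpi.id p, Category.comp_id]⟩
  exact IsSplitEpi.mk' ⟨(tw L).preimage (section_ ((tw L).map T.g)), (tw L).map_injective (by
    rw [Functor.map_comp, Functor.map_preimage, IsSplitEpi.id, CategoryTheory.Functor.map_id])⟩

end Groth.VBCurves.GenusOneAut
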