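import Groth.Agent.VBCurves.Sub
import Groth.Agent.EulerDeg.CartierDegree
import Groth.Agent.EulerDeg.Tensor
import Groth.Agent.Curves1.RR.Numerics
import Groth.Agent.CurveBridge.Main
import Groth.Agent.DegMono.Torsion

/-!
# Twists by ideals of finite colength on regular curves
-/

universe u

open CategoryTheory CategoryTheory.Limits AlgebraicGeometry

namespace Groth.VBCurves.ColengthTwist

variable {k : Type u} [Field k] {X : Scheme.{u}} [X.Over (Spec (CommRingCat.of k))]
  [IsIntegral X] [IsProper (X ↘ Spec (CommRingCat.of k))]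

theorem isInvertible_idealMod (hc : IsVBCurve k X)
    (h0 : Module.finrank k (Coh.HH X (Coh.structureModule X) 0) = 1) (I : X.IdealSheafData)
    (hI : Module.finrank k (Coh.HH X (ClSub.quotMod I) 0) ≠ 1) :
    PicF.IsInvertible (ClSub.idealMod I) := by
  have := Groth.EulerDeg.isNoetherian_of_proper k X
  have hO := Groth.EulerDeg.isInvertible_structureModule X
  have hO1 := Groth.LocFree.isInvertible_iff_ofRank_one.1 hO
  have hm : Mono (ClSub.idealModι I) := inferInstanceAs (Mono (kernel.ι _))
  have hF := isFinLocFree_of_mono hc.pid (ClSub.idealModι I)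
    (Groth.QCohMod.isCoh_kernel (ClSub.toSubscheme I) (Groth.EulerDeg.isCoh_of_isInvertible hO))
    (Groth.LocFree.isFinLocFree_of_rank hO1)
  have hle := rk_le_of_mono (ClSub.idealModι I) (Groth.LocFree.isFinLocFree_of_rank hO1)
  rw [rk_eq hO1] at hle
  refine Groth.LocFree.isInvertible_iff_ofRank_one.2 ?_
  rcases Nat.le_one_iff_eq_zero_or_eq_one.1 hle with h | h
  · exfalso
    have hz := isZero_of_rk_eq_zero hF h
    have : Mono (ClSub.toSubscheme I) := Preadditive.mono_of_kernel_zero (hz.eq_of_src _ _)
    have := Groth.DegMono.epi_toSubscheme I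
    have : IsIso (ClSub.toSubscheme I) := isIso_of_mono_of_epi _
    refine hI ?_
    rw [← h0]
    exact (Groth.EulerDeg.finrank_congr (k := k) (asIso (ClSub.toSubscheme I)) 0).symm
  · exact h ▸ isFinLocFreeOfRank_rk hF

omit [IsIntegral X] in
/-- An invertible ideal has degree minus its colength. -/
theorem deg_idealMod (hc : IsVBCurve k X) {I : X.IdealSheafData}
    (hI : PicF.IsInvertible (ClSub.idealMod I)) :
    Curv2.deg k X (ClSub.idealMod I) 1 =
      -(Module.finrank k (Coh.HH X (ClSub.quotMod I) 0) : ℤ) := by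
  obtain ⟨M, hM, e⟩ := Groth.PicAux.exists_isInverseOf hI
  have hMI : ClSub.IsInverseOf M (ClSub.idealMod I) :=
    ⟨(Groth.PicAux.tensorMod_comm hM hI).some ≪≫ e.some⟩
  have h1 := Groth.EulerDeg.deg_inverse_idealMod (k := k) hc.dim.le
    (Groth.PicAux.isEffCartierIdeal_of_isInvertible hI) hM hMI
  have h2 := Groth.EulerDeg.deg_tensor_invertible k hc.dim.le hI hM
  rw [Groth.EulerDeg.deg_congr (k := k) e.some] at h2
  have h3 : Curv2.deg k X (Coh.structureModule X) 1 = 0 := by simp [Curv2.deg]
  omega

end Groth.VBCurves.ColengthTwist
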