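import Groth.Agent.VBCurves.Secant
import Groth.Agent.VBCurves.GenusOneSplit
import Mathlib.LinearAlgebra.Matrix.GeneralLinearGroup.Card

/-!
# Counting automorphisms of bundles
-/

set_option autoImplicit false
set_option linter.unusedSectionVars false
set_option linter.style.haveILetI false

universe v u

open CategoryTheory CategoryTheory.Limits

namespace Groth.VBCurves.AutCount

section Abstract

variable {C : Type u} [Category.{v} C] [Preadditive C]

theorem sq_zero_isIso_sub {B : C} (n : B ⟶ B) (hn : n ≫ n = 0) : IsIso (𝟙 B - n) :=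
  ⟨𝟙 B + n, by simp [Preadditive.sub_comp, Preadditive.comp_add, hn],
    by simp [Preadditive.comp_sub, Preadditive.add_comp, hn]⟩

variable [HasBinaryBiproducts C]

theorem diag_iso {A B : C} (h : ∀ (b : A ⟶ B) (c : B ⟶ A), b ≫ c = 0) (φ : A ⊞ B ⟶ A ⊞ B)
    [IsIso φ] : IsIso (biprod.inl ≫ φ ≫ biprod.fst) ∧ IsIso (biprod.inr ≫ φ ≫ biprod.snd) := by
  let ψ := inv φ
  have key : ∀ (f g : A ⊞ B ⟶ A ⊞ B), f ≫ g = 𝟙 _ →
      (biprod.inl ≫ f ≫ biprod.fst) ≫ (biprod.inl ≫ g ≫ biprod.fst) = 𝟙 A ∧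
      ∃ n : B ⟶ B, n ≫ n = 0 ∧
        (biprod.inr ≫ f ≫ biprod.snd) ≫ (biprod.inr ≫ g ≫ biprod.snd) = 𝟙 B - n := by
    intro f g hfg
    have e := congrArg (fun t => biprod.inl ≫ t ≫ biprod.fst) hfg
    have e' := congrArg (fun t => biprod.inr ≫ t ≫ biprod.snd) hfg
    rw [← Biprod.ofComponents_eq f, ← Biprod.ofComponents_eq g, Biprod.ofComponents_comp] at e e'
    simp only [Category.id_comp, biprod.inl_fst, biprod.inr_snd, Biprod.ofComponents_fst,
      Biprod.ofComponents_snd, Preadditive.comp_add, biprod.inl_fst_assoc, biprod.inl_snd_assoc,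
      biprod.inr_fst_assoc, biprod.inr_snd_assoc, zero_comp, comp_zero, add_zero, zero_add] at e e'
    refine ⟨?_, (biprod.inr ≫ f ≫ biprod.fst) ≫ (biprod.inl ≫ g ≫ biprod.snd), ?_, ?_⟩
    · rw [h, add_zero] at e
      exact e
    · rw [Category.assoc, ← Category.assoc (biprod.inl ≫ g ≫ biprod.snd), h, zero_comp, comp_zero]
    · rw [eq_sub_iff_add_eq, ← e']
      exact add_comm _ _
  obtain ⟨a1, n, hn, d1⟩ := key φ ψ (IsIso.hom_inv_id φ)
  obtain ⟨a2, n', hn', d2⟩ := key ψ φ (IsIso.inv_hom_id φ)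
  refine ⟨⟨_, a1, a2⟩, ?_⟩
  have := sq_zero_isIso_sub n hn
  have := sq_zero_isIso_sub n' hn'
  let d := biprod.inr ≫ φ ≫ biprod.snd
  let d' := biprod.inr ≫ ψ ≫ biprod.snd
  have h1 : d ≫ (d' ≫ inv (𝟙 B - n)) = 𝟙 B := by
    rw [← Category.assoc, d1, IsIso.hom_inv_id]
  have h2 : (inv (𝟙 B - n') ≫ d') ≫ d = 𝟙 B := by
    rw [Category.assoc, d2, IsIso.inv_hom_id]
  refine ⟨d' ≫ inv (𝟙 B - n), h1, ?_⟩
  have e : inv (𝟙 B - n') ≫ d' = d' ≫ inv (𝟙 B - n) := by
    calc inv (𝟙 B - n') ≫ d' = (inv (𝟙 B - n') ≫ d') ≫ d ≫ (d' ≫ inv (𝟙 B - n)) := by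
          rw [h1, Category.comp_id]
      _ = ((inv (𝟙 B - n') ≫ d') ≫ d) ≫ (d' ≫ inv (𝟙 B - n)) := by simp only [Category.assoc]
      _ = _ := by rw [h2, Category.id_comp]
  rw [← e]
  exact h2

theorem isIso_ofComponents {A B : C} (h : ∀ (b : A ⟶ B) (c : B ⟶ A), b ≫ c = 0) (a : A ⟶ A)
    (b : A ⟶ B) (c : B ⟶ A) (d : B ⟶ B) [IsIso a] [IsIso d] :
    IsIso (Biprod.ofComponents a b c d) := by
  let n : B ⟶ B := c ≫ inv a ≫ b
  have hn : (inv d ≫ n) ≫ (inv d ≫ n) = 0 := by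
    simp only [n, Category.assoc]
    have := h (b ≫ inv d) c
    rw [Category.assoc] at this
    simp [reassoc_of% this]
  have := sq_zero_isIso_sub _ hn
  have : IsIso (d - n) := by
    have e : d - n = d ≫ (𝟙 B - inv d ≫ n) := by simp [Preadditive.comp_sub]
    rw [e]; infer_instance
  have e : Biprod.ofComponents a b c d =
      (Biprod.unipotentLower (C := C) (c ≫ inv a)).hom ≫ Biprod.ofComponents a 0 0 (d - n) ≫
        (Biprod.unipotentUpper (C := C) (inv a ≫ b)).hom := by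
    simp [Biprod.unipotentLower, Biprod.unipotentUpper, n, Biprod.ofComponents_comp]
  have : IsIso (Biprod.ofComponents a 0 0 (d - n)) :=
    ⟨Biprod.ofComponents (inv a) 0 0 (inv (d - n)), by
      rw [Biprod.ofComponents_comp]
      simp only [zero_comp, comp_zero, add_zero, zero_add, IsIso.hom_inv_id]
      simp [Biprod.ofComponents], by
      rw [Biprod.ofComponents_comp]
      simp only [zero_comp, comp_zero, add_zero, zero_add, IsIso.inv_hom_id]
      simp [Biprod.ofComponents]⟩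
  rw [e]; infer_instance

/-- Automorphisms of a sum whose cross composites vanish on one side. -/
noncomputable def autBiprod {A B : C} (h : ∀ (b : A ⟶ B) (c : B ⟶ A), b ≫ c = 0) :
    Aut (A ⊞ B) ≃ Aut A × Aut B × (A ⟶ B) × (B ⟶ A) where
  toFun φ :=
    haveI := (@diag_iso C _ _ _ A B h φ.hom (Iso.isIso_hom φ)).1
    haveI := (@diag_iso C _ _ _ A B h φ.hom (Iso.isIso_hom φ)).2
    (asIso (biprod.inl ≫ φ.hom ≫ biprod.fst), asIso (biprod.inr ≫ φ.hom ≫ biprod.snd),
      biprod.inl ≫ φ.hom ≫ biprod.snd, biprod.inr ≫ φ.hom ≫ biprod.fst)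
  invFun t :=
    haveI : IsIso t.1.hom := Iso.isIso_hom t.1
    haveI : IsIso t.2.1.hom := Iso.isIso_hom t.2.1
    haveI := isIso_ofComponents h t.1.hom t.2.2.1 t.2.2.2 t.2.1.hom
    asIso (Biprod.ofComponents t.1.hom t.2.2.1 t.2.2.2 t.2.1.hom)
  left_inv φ := Iso.ext (by simp)
  right_inv t := by
    obtain ⟨a, d, b, c⟩ := t
    refine Prod.ext (Iso.ext (by simp)) (Prod.ext (Iso.ext (by simp)) (Prod.ext (by simp) (by simp)))

theorem card_aut_biprod {A B : C} (h : ∀ (b : A ⟶ B) (c : B ⟶ A), b ≫ c = 0) :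
    Nat.card (Aut (A ⊞ B)) =
      Nat.card (Aut A) * Nat.card (Aut B) * Nat.card (A ⟶ B) * Nat.card (B ⟶ A) := by
  rw [Nat.card_congr (autBiprod h), Nat.card_prod, Nat.card_prod, Nat.card_prod]
  ring

theorem card_aut_congr {X Y : C} (e : X ≅ Y) : Nat.card (Aut X) = Nat.card (Aut Y) :=
  Nat.card_congr e.conjAut.toEquiv

section Matrix

variable {K : Type*} [Field K] [Linear K C] {ι : Type} [Fintype ι] [DecidableEq ι]

/-- Endomorphisms of a sum of copies of an object with scalar endomorphisms form a matrix ring. -/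
theorem nonempty_matrix_equiv {L X : C} (hL : Function.Bijective fun c : K => c • 𝟙 L)
    (s : ι → (L ⟶ X)) (r : ι → (X ⟶ L)) (hsr : ∀ i j, s i ≫ r j = if i = j then 𝟙 L else 0)
    (hsum : ∑ i, r i ≫ s i = 𝟙 X) : Nonempty (End X ≃* Matrix ι ι K) := by
  let q : (L ⟶ L) → K := Function.surjInv hL.2
  have hq : ∀ f, q f • 𝟙 L = f := Function.surjInv_eq hL.2
  have inj : ∀ {a b : K}, a • 𝟙 L = b • 𝟙 L → a = b := fun h => hL.1 h
  refine ⟨{
    toFun := fun φ => Matrix.of fun i j => q (s j ≫ φ ≫ r i)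
    invFun := fun M => ∑ i, ∑ j, M i j • (r j ≫ s i)
    left_inv := fun φ => ?_
    right_inv := fun M => ?_
    map_mul' := fun φ ψ => ?_ }⟩
  · have : ∀ i j, q (s j ≫ φ ≫ r i) • (r j ≫ s i) = r j ≫ (s j ≫ φ ≫ r i) ≫ s i := fun i j => by
      conv_rhs => rw [← hq (s j ≫ φ ≫ r i)]
      simp
    change ∑ i, ∑ j, q (s j ≫ φ ≫ r i) • (r j ≫ s i) = φ
    simp only [this]
    calc ∑ i, ∑ j, r j ≫ (s j ≫ φ ≫ r i) ≫ s i
        = ∑ i, (∑ j, r j ≫ s j) ≫ φ ≫ r i ≫ s i := by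
          simp only [Preadditive.sum_comp, Category.assoc]
      _ = φ ≫ ∑ i, r i ≫ s i := by
          rw [Preadditive.comp_sum]
          simp only [hsum, Category.id_comp]
      _ = φ := by rw [hsum, Category.comp_id]
  · ext i j
    apply inj
    change q (s j ≫ (∑ a, ∑ b, M a b • (r b ≫ s a)) ≫ r i) • 𝟙 L = _
    rw [hq]
    simp [Preadditive.comp_sum, Preadditive.sum_comp, Linear.comp_smul, Linear.smul_comp,
      hsr, reassoc_of% hsr, ite_comp, comp_ite, Finset.sum_ite_eq, Finset.sum_ite_eq']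
  · ext i j
    apply inj
    change q (s j ≫ (ψ ≫ φ) ≫ r i) • 𝟙 L =
      (∑ l, q (s l ≫ φ ≫ r i) * q (s j ≫ ψ ≫ r l)) • 𝟙 L
    rw [hq, Finset.sum_smul]
    have e : ψ ≫ φ = ∑ l, (ψ ≫ r l) ≫ s l ≫ φ := by
      conv_lhs => rw [← Category.id_comp φ, ← hsum]
      simp [Preadditive.sum_comp, Preadditive.comp_sum]
    rw [e]
    simp only [Preadditive.comp_sum, Preadditive.sum_comp, Category.assoc]
    refine Finset.sum_congr rfl fun l _ => ?_
    calc s j ≫ ψ ≫ r l ≫ s l ≫ φ ≫ r i = (s j ≫ ψ ≫ r l) ≫ (s l ≫ φ ≫ r i) := by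
          simp only [Category.assoc]
      _ = (q (s j ≫ ψ ≫ r l) • 𝟙 L) ≫ (q (s l ≫ φ ≫ r i) • 𝟙 L) := by rw [hq, hq]
      _ = _ := by simp [smul_smul, mul_comm]

theorem card_aut_copies [Finite K] {L X : C} (hL : Function.Bijective fun c : K => c • 𝟙 L)
    (n : ℕ) (s : Fin n → (L ⟶ X)) (r : Fin n → (X ⟶ L))
    (hsr : ∀ i j, s i ≫ r j = if i = j then 𝟙 L else 0) (hsum : ∑ i, r i ≫ s i = 𝟙 X) :
    Nat.card (Aut X) = ∏ i : Fin n, (Nat.card K ^ n - Nat.card K ^ (i : ℕ)) := by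
  classical
  have := Fintype.ofFinite K
  obtain ⟨e⟩ := nonempty_matrix_equiv hL s r hsr hsum
  rw [← Nat.card_congr (Aut.unitsEndEquivAut X).toEquiv, Nat.card_congr (Units.mapEquiv e).toEquiv,
    Nat.card_eq_fintype_card (α := K)]
  exact Matrix.card_GL_field n

theorem card_aut_one [Finite K] {L : C} (hL : Function.Bijective fun c : K => c • 𝟙 L) :
    Nat.card (Aut L) = Nat.card K - 1 := by
  rw [card_aut_copies hL 1 (fun _ => 𝟙 L) (fun _ => 𝟙 L)
    (fun i j => by simp [Subsingleton.elim i j]) (by simp)]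
  simp

theorem card_aut_two [Finite K] {L : C} (hL : Function.Bijective fun c : K => c • 𝟙 L) :
    Nat.card (Aut (L ⊞ L)) = (Nat.card K ^ 2 - 1) * (Nat.card K ^ 2 - Nat.card K) := by
  rw [card_aut_copies hL 2 ![biprod.inl, biprod.inr] ![biprod.fst, biprod.snd]
    (fun i j => by fin_cases i <;> fin_cases j <;> simp) (by simp [Fin.sum_univ_two, biprod.total])]
  simp [Fin.prod_univ_two]

theorem card_aut_three [Finite K] {L : C} (hL : Function.Bijective fun c : K => c • 𝟙 L) :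
    Nat.card (Aut (L ⊞ L ⊞ L)) = (Nat.card K ^ 3 - 1) * (Nat.card K ^ 3 - Nat.card K) *
      (Nat.card K ^ 3 - Nat.card K ^ 2) := by
  rw [card_aut_copies hL 3 ![biprod.inl, biprod.inl ≫ biprod.inr, biprod.inr ≫ biprod.inr]
    ![biprod.fst, biprod.snd ≫ biprod.fst, biprod.snd ≫ biprod.snd]
    (fun i j => by fin_cases i <;> fin_cases j <;> simp)
    (by
      simp only [Fin.sum_univ_three, Matrix.cons_val_zero, Matrix.cons_val_one,
        Matrix.cons_val_two, Matrix.tail_cons, Matrix.head_cons, Category.assoc]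
      rw [add_assoc, ← Preadditive.comp_add]
      ext <;> simp)]
  simp [Fin.prod_univ_three]

end Matrix

end Abstract

section SelfExt

variable {C : Type u} [Category.{v} C] [Abelian C] {K : Type*} [Field K] [Linear K C]

/-- Maps around a non-split self-extension of an object with scalar endomorphisms. -/
theorem selfExt_homs {A F : C} (i : A ⟶ F) (p : F ⟶ A) (w : i ≫ p = 0)
    (hS : (ShortComplex.mk i p w).ShortExact) (hns : ¬ IsSplitEpi p)
    (hA : Function.Bijective fun c : K => c • 𝟙 A) :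
    Function.Bijective (fun c : K => c • i) ∧ Function.Bijective (fun c : K => c • p) ∧
      ∀ φ : F ⟶ F, ∃ c d : K, φ = c • 𝟙 F + d • (p ≫ i) := by
  have : Mono i := hS.mono_f
  have : Epi p := hS.epi_g
  have from_i : ∀ s : A ⟶ F, ∃ c : K, c • i = s := fun s => by
    obtain ⟨c, hc⟩ := hA.2 (s ≫ p)
    dsimp only at hc
    have h0 : c = 0 := by
      by_contra hne
      exact hns (IsSplitEpi.mk' ⟨c⁻¹ • s, by
        rw [Linear.smul_comp, ← hc, smul_smul, inv_mul_cancel₀ hne, one_smul]⟩)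
    rw [h0, zero_smul] at hc
    obtain ⟨d, hd⟩ := hA.2 (hS.exact.lift s hc.symm)
    refine ⟨d, ?_⟩
    dsimp only at hd
    have := hS.exact.lift_f s hc.symm
    rw [← hd] at this
    simpa using this
  have from_p : ∀ f : F ⟶ A, ∃ c : K, c • p = f := fun f => by
    obtain ⟨c, hc⟩ := hA.2 (i ≫ f)
    dsimp only at hc
    have h0 : c = 0 := by
      by_contra hne
      have hr : i ≫ (c⁻¹ • f) = 𝟙 A := by
        rw [Linear.comp_smul, ← hc, smul_smul, inv_mul_cancel₀ hne, one_smul]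
      let σ := ShortComplex.Splitting.ofExactOfRetraction (ShortComplex.mk i p w) hS.exact _ hr
        hS.epi_g
      exact hns (IsSplitEpi.mk' ⟨σ.s, σ.s_g⟩)
    rw [h0, zero_smul] at hc
    obtain ⟨d, hd⟩ := hA.2 (hS.exact.desc f hc.symm)
    refine ⟨d, ?_⟩
    dsimp only at hd
    have := hS.exact.g_desc f hc.symm
    rw [← hd] at this
    simpa using this
  refine ⟨⟨fun a b hab => hA.1 ((cancel_mono i).1 (by simpa using hab)), from_i⟩,
    ⟨fun a b hab => hA.1 ((cancel_epi p).1 (by simpa using hab)), from_p⟩, fun φ => ?_⟩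
  obtain ⟨c, hc⟩ := from_i (i ≫ φ)
  have h0 : i ≫ (φ - c • 𝟙 F) = 0 := by simp [hc]
  obtain ⟨d, hd⟩ := from_i (hS.exact.desc (φ - c • 𝟙 F) h0)
  refine ⟨c, d, ?_⟩
  have := hS.exact.g_desc (φ - c • 𝟙 F) h0
  rw [← hd] at this
  rw [← sub_eq_iff_eq_add']
  simpa using this.symm

theorem card_aut_selfExt [Finite K] {A F : C} (hA0 : 𝟙 A ≠ 0) (i : A ⟶ F) (p : F ⟶ A)
    (w : i ≫ p = 0) (hS : (ShortComplex.mk i p w).ShortExact) (hns : ¬ IsSplitEpi p)
    (hA : Function.Bijective fun c : K => c • 𝟙 A) :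
    Nat.card (Aut F) = (Nat.card K - 1) * Nat.card K := by
  obtain ⟨hi, hp, hend⟩ := selfExt_homs i p w hS hns hA
  have : Mono i := hS.mono_f
  let N : F ⟶ F := p ≫ i
  have hNN : N ≫ N = 0 := by simp [N, reassoc_of% w]
  have hN0 : N ≠ 0 := fun h => by
    have : p = 0 := by rw [← cancel_mono i, zero_comp]; exact h
    exact one_ne_zero (hp.1 (a₁ := 1) (a₂ := 0) (by simp [this]))
  have hmul : ∀ a b a' b' : K, (a • 𝟙 F + b • N) ≫ (a' • 𝟙 F + b' • N) =
      (a * a') • 𝟙 F + (a * b' + b * a') • N := fun a b a' b' => by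
    simp [Preadditive.add_comp, Preadditive.comp_add, smul_smul, hNN, add_smul, smul_add]
    module
  have coords : ∀ a b a' b' : K, a • 𝟙 F + b • N = a' • 𝟙 F + b' • N → a = a' ∧ b = b' := by
    intro a b a' b' h
    have h1 : i ≫ (a • 𝟙 F + b • N) = i ≫ (a' • 𝟙 F + b' • N) := by rw [h]
    simp [N, reassoc_of% w] at h1
    have ha : a = a' := hi.1 h1
    subst ha
    exact ⟨rfl, smul_left_injective K hN0 (add_left_cancel h)⟩
  let f : Kˣ × K → Aut F := fun t =>
    { hom := (t.1 : K) • 𝟙 F + t.2 • N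
      inv := ((t.1⁻¹ : Kˣ) : K) • 𝟙 F + (-(((t.1⁻¹ : Kˣ) : K) * t.2 * ((t.1⁻¹ : Kˣ) : K))) • N
      hom_inv_id := by
        rw [hmul, Units.mul_inv, one_smul, ← mul_one (t.2 * _)]
        have e : (t.1 : K) * -(((t.1⁻¹ : Kˣ) : K) * t.2 * ((t.1⁻¹ : Kˣ) : K)) +
            t.2 * ((t.1⁻¹ : Kˣ) : K) * 1 = 0 := by
          have := t.1.ne_zero; rw [Units.val_inv_eq_inv_val]; field_simp; ring
        rw [e, zero_smul, add_zero]
      inv_hom_id := by
        rw [hmul, Units.inv_mul, one_smul]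
        have e : ((t.1⁻¹ : Kˣ) : K) * t.2 +
            -(((t.1⁻¹ : Kˣ) : K) * t.2 * ((t.1⁻¹ : Kˣ) : K)) * (t.1 : K) = 0 := by
          have := t.1.ne_zero; rw [Units.val_inv_eq_inv_val]; field_simp; ring
        rw [e, zero_smul, add_zero] }
  have hf : Function.Bijective f := by
    refine ⟨fun s t h => ?_, fun φ => ?_⟩
    · obtain ⟨h1, h2⟩ := coords _ _ _ _ (congrArg Iso.hom h)
      exact Prod.ext (Units.ext h1) h2
    · obtain ⟨c, d, hcd⟩ := hend φ.hom
      obtain ⟨c', d', hcd'⟩ := hend φ.inv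
      have h1 := φ.hom_inv_id
      rw [hcd, hcd', hmul] at h1
      obtain ⟨hc, -⟩ := coords _ _ 1 0 (h1.trans (by simp))
      exact ⟨(Units.mk0 c (left_ne_zero_of_mul_eq_one hc), d), Iso.ext hcd.symm⟩
  rw [← Nat.card_eq_of_bijective f hf, Nat.card_prod, Nat.card_units]

end SelfExt

end Groth.VBCurves.AutCount
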