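import Groth.Agent.VBCurves.GenusOne
import Groth.Agent.VBCurves.GenusOneSplit
import Groth.Agent.VBCurves.P1Split

/-!
# Line subbundles of bundles on a curve of genus one
-/

set_option autoImplicit false
set_option linter.unusedSectionVars false
set_option linter.style.haveILetI false

universe u

open CategoryTheory CategoryTheory.Limits AlgebraicGeometry TopologicalSpace
open CategoryTheory.Abelian (Ext)
open Groth.KTheory.LocFree (stalkₗ)
open scoped Groth.CurveBridge

namespace Groth.VBCurves.GenusOne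

variable {k : Type u} [Field k] {X : Scheme.{u}} [X.Over (Spec (CommRingCat.of k))]
  [IsIntegral X] [IsProper (X ↘ Spec (CommRingCat.of k))]

theorem stalk_sum {ι : Type*} (s : Finset ι) {A B : X.Modules} (f : ι → (A ⟶ B)) (x : X)
    (v : A.presheaf.stalk x) : stalkₗ (∑ i ∈ s, f i) x v = ∑ i ∈ s, stalkₗ (f i) x v := by
  classical
  induction s using Finset.induction_on with
  | empty =>
    rw [Finset.sum_empty, Finset.sum_empty]
    exact congr($((Groth.QCohMod.stalk x).map_zero A B) v)
  | insert a s ha ih =>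
    rw [Finset.sum_insert ha, Finset.sum_insert ha, ← ih]
    exact congr($((Groth.QCohMod.stalk x).map_add (f := f a) (g := ∑ i ∈ s, f i)) v)

/-- Free modules have degree zero. -/
theorem dg_free : ∀ n : ℕ, dg k (FlatMod.freeMod X n) = 0
  | 0 => dg_of_rk_zero k (Groth.LocFree.isFinLocFree_freeMod X 0)
      (rk_eq (Groth.LocFree.isFinLocFreeOfRank_freeMod X 0))
  | n + 1 => by
    have hO := Groth.LocFree.isInvertible_iff_ofRank_one.1
      (Groth.EulerDeg.isInvertible_structureModule X)
    have hO' := Groth.LocFree.isFinLocFree_of_rank hO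
    have hn := Groth.LocFree.isFinLocFree_freeMod X n
    have hS := (ShortComplex.Splitting.ofHasBinaryBiproduct (Coh.structureModule X)
      (FlatMod.freeMod X n)).shortExact
    have hd := dg_add k hS hO' hn
    dsimp only at hd
    rw [dg_free n, add_zero, ← dg_eq k hO, Groth.EulerDeg.deg_structure (X := X) k] at hd
    rw [← hd]
    exact (dg_eq_of_iso (k := k) (Groth.KTheory.LocFree.isFinLocFree_of_shortExact hS hO' hn)
      (P1Split.consIso fun _ : Fin (n + 1) => Coh.structureModule X)).symm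

/-- As many independent sections as the rank, and nonzero degree: a line of positive degree. -/
theorem exists_pos_line [IsAlgClosed k] (hc : IsVBCurve k X) {B : X.Modules} {N : ℕ}
    (hB : FlatMod.IsFinLocFreeOfRank N B) (hd : Curv2.deg k X B N ≠ 0)
    (s : Fin N → (Coh.structureModule X ⟶ B)) (hs : LinearIndependent k s) :
    ∃ (G : X.Modules) (i : G ⟶ B), Mono i ∧ FlatMod.IsFinLocFreeOfRank 1 G ∧
      0 < Curv2.deg k X G 1 := by
  classical
  have : IsNoetherian X := Groth.EulerDeg.isNoetherian_of_proper k X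
  have : NoetherianSpace X := inferInstance
  let O := Coh.structureModule X
  have hO := Groth.LocFree.isInvertible_iff_ofRank_one.1
    (Groth.EulerDeg.isInvertible_structureModule X)
  have hO' := Groth.LocFree.isFinLocFree_of_rank hO
  have hB' := Groth.LocFree.isFinLocFree_of_rank hB
  have hBc := Groth.KTheory.LocFree.isCoh hB'
  have := hBc.1
  let W : X.Modules := ∐ fun _ : Fin N => O
  let φ : W ⟶ B := Sigma.desc s
  have hW1 : FlatMod.IsFinLocFreeOfRank N W := Groth.LocFree.isFinLocFreeOfRank_freeMod X N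
  have hW : FlatMod.IsFinLocFree W := Groth.LocFree.isFinLocFree_of_rank hW1
  have hnot : ¬ Epi φ := fun _ => hd <| by
    have := isIso_of_epi hc hW hB' φ (by rw [rk_eq hW1, rk_eq hB])
    have h1 := dg_eq_of_iso (k := k) hW (asIso φ)
    rw [← dg_eq k hB, ← dg_eq k hW1] at h1
    rw [← h1, dg_eq k hW1]
    exact dg_free N
  have := (Groth.KTheory.LocFree.isCoh hW).1
  have hQc := Groth.QCohMod.isCoh_cokernel φ hBc
  have hne : (CohB1.support (cokernel φ)).Nonempty := by
    rw [Set.nonempty_iff_ne_empty]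
    intro h0
    exact hnot (Abelian.epi_of_cokernel_π_eq_zero φ
      (((Groth.QCohMod.isZero_iff_support_eq_empty _).2 h0).eq_of_tgt _ 0))
  obtain ⟨x, hxS, hx⟩ := (Groth.CohC3.isClosed_support_of_isCoh _ hQc).exists_closed_singleton hne
  let A := X.presheaf.stalk x
  let m := IsLocalRing.maximalIdeal A
  let one : O.presheaf.stalk x := Groth.RefRank.oneEquiv x 1
  have := Groth.KTheory.LocFree.free_stalk hB' x
  have := Groth.LocFree.finite_stalk hB' x
  let b := Module.finBasisOfFinrankEq A (B.presheaf.stalk x) (Groth.LocFree.finrank_stalk hB x)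
  let M : Matrix (Fin N) (Fin N) A := Matrix.of fun i j => b.repr (stalkₗ (s j) x one) i
  have hM : ¬ IsUnit M.det := fun hu => by
    have : Nontrivial ((cokernel φ).presheaf.stalk x) := not_subsingleton_iff_nontrivial.1 hxS
    obtain ⟨q, hq⟩ := exists_ne (0 : (cokernel φ).presheaf.stalk x)
    obtain ⟨v, rfl⟩ := (Groth.QCohMod.epi_iff_stalk (cokernel.π φ)).1 inferInstance x q
    obtain ⟨c, hc'⟩ := (Matrix.mulVec_surjective_iff_isUnit.2
      ((Matrix.isUnit_iff_isUnit_det M).2 hu)) (fun i => b.repr v i)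
    have hv : v = ∑ j, c j • stalkₗ (s j) x one := by
      refine b.ext_elem fun i => ?_
      rw [← congrFun hc' i, map_sum, Finsupp.finsetSum_apply]
      simp only [map_smul, Finsupp.smul_apply, smul_eq_mul, Matrix.mulVec, dotProduct, M,
        Matrix.of_apply]
      exact Finset.sum_congr rfl fun j _ => mul_comm _ _
    refine hq ?_
    change stalkₗ (cokernel.π φ) x v = 0
    rw [hv, map_sum]
    refine Finset.sum_eq_zero fun j _ => ?_
    rw [map_smul]
    have h0 : s j ≫ cokernel.π φ = 0 := by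
      rw [← Sigma.ι_desc s j, Category.assoc, cokernel.condition, comp_zero]
    have h1 : stalkₗ (0 : O ⟶ cokernel φ) x one = 0 :=
      congr($((Groth.QCohMod.stalk x).map_zero O (cokernel φ)) one)
    rw [← stalk_comp, h0, h1, smul_zero]
  let _ : Algebra k (X.residueField x) := Curv2.resAlgebra k X x
  have := Groth.Curves1.CurveMor.finite_residueField_of_isClosed (k := k) hx
  have hsurj : Function.Surjective (algebraMap k (X.residueField x)) :=
    (IsAlgClosed.algebraMap_bijective_of_isIntegral (k := k) (K := X.residueField x)).2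
  let ρ : A →+* X.residueField x := (X.residue x).hom
  have hdet : (M.map ρ).det = 0 := by
    have h1 : ρ M.det = (M.map ρ).det := RingHom.map_det ρ M
    rw [← h1]
    exact IsLocalRing.residue_eq_zero_iff _ |>.2 ((IsLocalRing.mem_maximalIdeal _).2 hM)
  obtain ⟨v, hv0, hv⟩ := Matrix.exists_mulVec_eq_zero_iff.2 hdet
  choose c hc' using fun j => hsurj (v j)
  let t : O ⟶ B := ∑ j, c j • s j
  have ht : t ≠ 0 := fun h0 => hv0 <| funext fun j => by
    rw [← hc' j, Fintype.linearIndependent_iff.1 hs c h0 j, map_zero]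
    rfl
  have htm : stalkₗ t x one ∈ m • (⊤ : Submodule A (B.presheaf.stalk x)) := by
    have e : stalkₗ t x one = ∑ j, Curv2.stalkMap k X x (c j) • stalkₗ (s j) x one := by
      rw [stalk_sum]
      refine Finset.sum_congr rfl fun j _ => ?_
      rw [KLin.smul_def]
      exact ((stalk_comp _ _ x one).trans (congrArg (stalkₗ (s j) x) (stalk_scal k O (c j) x one))).trans
        (map_smul _ _ _)
    rw [← b.sum_repr (stalkₗ t x one)]
    refine Submodule.sum_mem _ fun i _ => Submodule.smul_mem_smul ?_ Submodule.mem_top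
    refine (IsLocalRing.residue_eq_zero_iff _).1 ?_
    rw [e, map_sum, Finsupp.finsetSum_apply]
    simp only [map_smul, Finsupp.smul_apply, smul_eq_mul]
    change ρ _ = 0
    rw [map_sum]
    refine Eq.trans (Finset.sum_congr rfl fun j _ => ?_) (congrFun hv i)
    change _ = ρ (M i j) * v j
    rw [map_mul, mul_comm, ← hc' j, mul_comm]
    exact mul_comm _ _
  obtain ⟨K, I, i, p, j', w, -, -, hp, hj', hfac, -, -, hI, hr, -, hI0⟩ :=
    exists_image hc hO' hB' t
  have := hI0 ht
  rw [rk_eq hO] at hr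
  obtain ⟨G, Q, σ, i', q, w', hS, hσ, hσm, hG, hQ, hrG⟩ := exists_saturation hc hB' hI j'
  have hi' : Mono i' := hS.mono_f
  have hG1 : rk G = 1 := by omega
  have hI1 : rk I = 1 := by omega
  have hpm : Mono p := mono_of_stable hc hO' hI (st_line hO)
    (St.ss hc hI (st_line (hI1 ▸ isFinLocFreeOfRank_rk hI))) ?_ (by omega) p
    (fun h0 => ht (by rw [← hfac, h0, zero_comp]))
  swap
  · have : IsIso p := isIso_of_epi hc hO' hI p (by rw [rk_eq hO, hI1])
    rw [dg_eq_of_iso (k := k) hO' (asIso p), rk_eq hO, hI1]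
  have : Mono (p ≫ σ) := mono_comp p σ
  have hG1' : FlatMod.IsFinLocFreeOfRank 1 G := hG1 ▸ isFinLocFreeOfRank_rk hG
  refine ⟨G, i', hi', hG1', ?_⟩
  obtain ⟨hle, hiff⟩ := dg_le_of_mono k hc.dim.le hO' hG (p ≫ σ) (by rw [rk_eq hO, hG1])
  have h0 : dg k O = 0 := by
    rw [← dg_eq k hO]; exact Groth.EulerDeg.deg_structure (X := X) k
  rw [h0] at hle hiff
  rw [dg_eq k hG1']
  rcases hle.lt_or_eq with hlt | heq
  · exact hlt
  exfalso
  have hiso := hiff.1 heq
  -- a saturated line is split at every stalk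
  have := Groth.KTheory.LocFree.free_stalk hQ x
  have hSx := hS.map_of_exact (Groth.QCohMod.stalk x)
  have hinj : Function.Injective (stalkₗ i' x) := (Groth.QCohMod.mono_iff_stalk i').1 hi' x
  have hqsurj : Function.Surjective (stalkₗ q x) :=
    (Groth.QCohMod.epi_iff_stalk q).1 hS.epi_g x
  have hex : Function.Exact (stalkₗ i' x) (stalkₗ q x) := fun y => by
    refine ⟨fun hy => ?_, ?_⟩
    · have h := hSx.exact
      rw [ShortComplex.ab_exact_iff] at h
      exact h y hy
    · rintro ⟨z, rfl⟩
      rw [← stalk_comp, w']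
      exact congr($((Groth.QCohMod.stalk x).map_zero G Q) z)
  obtain ⟨l, hl⟩ := Module.projective_lifting_property (stalkₗ q x) LinearMap.id hqsurj
  have htf := hex.split_tfae hinj hqsurj
  have h01 : (∃ l, stalkₗ q x ∘ₗ l = LinearMap.id) ↔ ∃ l, l ∘ₗ stalkₗ i' x = LinearMap.id :=
    htf.out 0 1
  obtain ⟨r, hr'⟩ := h01.1 ⟨l, hl⟩
  let T : O.presheaf.stalk x ≃ₗ[A] G.presheaf.stalk x :=
    LinearEquiv.ofBijective (stalkₗ (p ≫ σ) x)
      (ConcreteCategory.bijective_of_isIso ((Groth.QCohMod.stalk x).map (p ≫ σ)))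
  let L : B.presheaf.stalk x →ₗ[A] A :=
    (Groth.RefRank.oneEquiv x).symm.toLinearMap ∘ₗ T.symm.toLinearMap ∘ₗ r
  have hL : L (stalkₗ t x one) = 1 := by
    have e1 : stalkₗ t x one = stalkₗ i' x (T one) := by
      rw [← hfac, ← hσ, ← Category.assoc, stalk_comp]
      rfl
    have e2 : r (stalkₗ i' x (T one)) = T one := LinearMap.congr_fun hr' (T one)
    simp only [L, LinearMap.comp_apply, LinearEquiv.coe_coe, e1, e2, T.symm_apply_apply]
    exact (Groth.RefRank.oneEquiv x).symm_apply_apply 1
  have hmem : L (stalkₗ t x one) ∈ m := by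
    refine Submodule.smul_induction_on htm (fun a ha y _ => ?_) (fun y z hy hz => ?_)
    · rw [map_smul, smul_eq_mul]; exact Ideal.mul_mem_right _ _ ha
    · rw [map_add]; exact add_mem hy hz
  rw [hL] at hmem
  exact (IsLocalRing.maximalIdeal.isMaximal A).ne_top ((Ideal.eq_top_iff_one _).2 hmem)

variable [IsAlgClosed k]

/-- A bundle of degree zero on a curve of genus one receives a map from a line of degree zero. -/
theorem exists_line_hom (h : Groth.CurveBridge.IsRegCurve X)
    (hK : FunFld.IsFunctionField k X.functionField) (hc : IsVBCurve k X) {ω : X.Modules}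
    (hω : IsDualizing k ω) (hg : Curv2.genus k X = 1) {H : X.Modules}
    (hH : FlatMod.IsFinLocFree H) (hpos : 0 < rk H) (hd : dg k H = 0) :
    ∃ (P : X.Modules), FlatMod.IsFinLocFreeOfRank 1 P ∧ Curv2.deg k X P 1 = 0 ∧
      ∃ f : P ⟶ H, f ≠ 0 := by
  classical
  have : HasExt.{u} X.Modules := hasExt_of_enoughInjectives _
  obtain ⟨M, hM1, hdM⟩ := exists_line (k := k) h hK 1
  have hM := Groth.LocFree.isInvertible_iff_ofRank_one.2 hM1
  let B := (tw M).obj H
  have hB := isFinLocFree_tw hM hH
  obtain ⟨hrB, hdB⟩ := tw_numerics (k := k) hc hM hH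
  rw [hd, hdM, zero_add, mul_one] at hdB
  have hB1 : FlatMod.IsFinLocFreeOfRank (rk H) B := hrB ▸ isFinLocFreeOfRank_rk hB
  have hO := Groth.LocFree.isInvertible_iff_ofRank_one.1
    (Groth.EulerDeg.isInvertible_structureModule X)
  have hO' := Groth.LocFree.isFinLocFree_of_rank hO
  have he := HomEuler.hom_sub_ext hc hω hO' (rk H) B hB hrB
  rw [rk_eq hO, ← dg_eq k hO, Groth.EulerDeg.deg_structure (X := X) k, hdB, hg] at he
  push_cast at he
  have := HomEuler.finite_hom' (k := k) hc hO' (Groth.KTheory.LocFree.isCoh hB)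
  have hn : rk H ≤ Module.finrank k (Coh.structureModule X ⟶ B) := by omega
  let bb := Module.finBasis k (Coh.structureModule X ⟶ B)
  have hlin : LinearIndependent k (fun i : Fin (rk H) => bb (Fin.castLE hn i)) :=
    bb.linearIndependent.comp _ (Fin.castLE_injective hn)
  obtain ⟨G, i, hi, hG, hdG⟩ := exists_pos_line hc hB1
    (by rw [dg_eq k hB1, hdB]; exact_mod_cast hpos.ne') _ hlin
  have hG' := Groth.LocFree.isFinLocFree_of_rank hG
  -- a map from a line of degree one
  obtain ⟨M', hM', hdM', g, hg0⟩ : ∃ M' : X.Modules, FlatMod.IsFinLocFreeOfRank 1 M' ∧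
      Curv2.deg k X M' 1 = 1 ∧ ∃ g : M' ⟶ B, g ≠ 0 := by
    have hne : ∀ {M' : X.Modules} (g : M' ⟶ G), g ≠ 0 → g ≫ i ≠ 0 := fun g hg h0 =>
      hg (by rw [← cancel_mono i, h0, zero_comp])
    rcases (show 1 ≤ Curv2.deg k X G 1 by omega).lt_or_eq with hlt | heq
    · have he' := HomEuler.hom_sub_ext hc hω (Groth.LocFree.isFinLocFree_of_rank hM1) 1 G hG'
        (rk_eq hG)
      rw [rk_eq hM1, ← dg_eq k hM1, ← dg_eq k hG, hdM, hg] at he'
      push_cast at he'
      have : Nontrivial (M ⟶ G) :=
        Module.nontrivial_of_finrank_pos (R := k) (by omega)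
      obtain ⟨g, hg'⟩ := exists_ne (0 : M ⟶ G)
      exact ⟨M, hM1, hdM, g ≫ i, hne g hg'⟩
    · exact ⟨G, hG, heq.symm, i, fun h0 => by
        have hi0 : IsZero G := (IsZero.iff_id_eq_zero G).2 (by rw [← cancel_mono i, h0]; simp)
        exact not_isZero_of_rank hG one_pos hi0⟩
  obtain ⟨M₂, hM₂, hinv⟩ := Groth.PicAux.exists_isInverseOf hM
  have := Groth.PicAux.isEquivalence_tensorRightMod_of_isInvertible hM₂
  have : PreservesBinaryBiproducts (tw M₂) :=
    preservesBinaryBiproducts_of_preservesBinaryProducts (tw M₂)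
  have := Functor.additive_of_preservesBinaryBiproducts (tw M₂)
  obtain ⟨e⟩ := id hinv
  let back : (tw M₂).obj B ≅ H :=
    (Groth.PicAux.exists_associator H M M₂).choose ≪≫ PicGrp.tensorModIso (Iso.refl H) e ≪≫
      SecTwist.unitorR H
  refine ⟨(tw M₂).obj M', Groth.LocFree.isFinLocFreeOfRank_tensorMod hM'
    (Groth.LocFree.isInvertible_iff_ofRank_one.1 hM₂), ?_, (tw M₂).map g ≫ back.hom, fun h0 => ?_⟩
  · refine (Groth.EulerDeg.deg_tensor_invertible k hc.dim.le
      (Groth.LocFree.isInvertible_iff_ofRank_one.2 hM') hM₂).trans ?_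
    rw [hdM', HomEuler.deg_inverse hc hM hM₂ hinv, hdM]
    norm_num
  · refine hg0 ((tw M₂).map_injective ?_)
    rw [Functor.map_zero, ← cancel_mono back.hom, h0, zero_comp]

end Groth.VBCurves.GenusOne
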