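import Groth.Agent.VBCurves.KrullSchmidt
import Groth.Agent.VBCurves.Sub
import Mathlib.Algebra.Polynomial.Degree.Support
import Mathlib.LinearAlgebra.Dimension.StrongRankCondition

/-!
# Multiplicities of indecomposable summands
-/

set_option autoImplicit false
set_option linter.unusedSectionVars false

universe u

open CategoryTheory CategoryTheory.Limits AlgebraicGeometry

namespace Groth.VBCurves.Weil

variable {X : Scheme.{u}}

/-- Finite direct sums of modules with a property. -/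
inductive Sums (P : X.Modules → Prop) : X.Modules → Prop
  | zero {M : X.Modules} : IsZero M → Sums P M
  | of {M : X.Modules} : P M → Sums P M
  | biprod {M A B : X.Modules} : (M ≅ A ⊞ B) → Sums P A → Sums P B → Sums P M

theorem Sums.iso {P : X.Modules → Prop} (hP : ∀ {M N : X.Modules}, (M ≅ N) → P M → P N)
    {M N : X.Modules} (e : M ≅ N) (h : Sums P M) : Sums P N := by
  cases h with
  | zero h => exact .zero (h.of_iso e.symm)
  | of h => exact .of (hP e h)
  | biprod e' hA hB => exact .biprod (e.symm ≪≫ e') hA hB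

theorem Sums.bind {P Q : X.Modules → Prop} {M : X.Modules} (h : Sums P M)
    (hPQ : ∀ N, P N → Sums Q N) : Sums Q M := by
  induction h with
  | zero h => exact .zero h
  | of h => exact hPQ _ h
  | biprod e _ _ ihA ihB => exact .biprod e ihA ihB

theorem Sums.mono {P Q : X.Modules → Prop} {M : X.Modules} (h : Sums P M)
    (hPQ : ∀ N, P N → Q N) : Sums Q M := h.bind fun N hN => .of (hPQ N hN)

theorem Sums.coprod {P : X.Modules → Prop} : ∀ {n : ℕ} (F : Fin n → X.Modules),
    (∀ i, Sums P (F i)) → Sums P (∐ F)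
  | 0, F, _ => .zero (KS.isZero_coprod_zero F)
  | _ + 1, F, h => .biprod (KS.splitAt 0 F).symm (h 0) (Sums.coprod _ fun _ => h _)

/-- The isomorphism class. -/
def key (M : X.Modules) : Quotient (isIsomorphicSetoid X.Modules) :=
  Quotient.mk (isIsomorphicSetoid X.Modules) M

theorem key_eq_iff {M N : X.Modules} : key M = key N ↔ Nonempty (M ≅ N) := Quotient.eq

/-- The number of members of a family in a given class. -/
noncomputable def mult {n : ℕ} (F : Fin n → X.Modules)
    (U : Quotient (isIsomorphicSetoid X.Modules)) : ℕ := Nat.card {i // key (F i) = U}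

/-- `M` has the multiplicities `c`. -/
def HasCount (M : X.Modules) (c : Quotient (isIsomorphicSetoid X.Modules) → ℕ) : Prop :=
  ∃ (n : ℕ) (F : Fin n → X.Modules), (∀ i, KS.Ind (F i)) ∧ Nonempty (M ≅ ∐ F) ∧
    ∀ U, mult F U = c U

theorem HasCount.iso {M N : X.Modules} {c} (h : HasCount M c) (e : M ≅ N) : HasCount N c := by
  obtain ⟨n, F, hF, ⟨φ⟩, hc⟩ := h
  exact ⟨n, F, hF, ⟨e.symm ≪≫ φ⟩, hc⟩

theorem hasCount_zero {M : X.Modules} (h : IsZero M) : HasCount M 0 :=
  ⟨0, Fin.elim0, fun i => i.elim0, ⟨h.iso (KS.isZero_coprod_zero _)⟩, fun U => by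
    simp [mult, Nat.card_of_isEmpty]⟩

theorem hasCount_ind {M : X.Modules} (h : KS.Ind M) :
    ∃ c, HasCount M c ∧ 0 < c (key M) ∧ ∀ U, c U ≠ 0 → U = key M := by
  have hz : IsZero (∐ fun i : Fin 0 => (fun _ : Fin 1 => M) ((0 : Fin 1).succAbove i)) :=
    KS.isZero_coprod_zero _
  let e : M ≅ M ⊞ (∐ fun i : Fin 0 => (fun _ : Fin 1 => M) ((0 : Fin 1).succAbove i)) :=
    ⟨biprod.inl, biprod.fst, biprod.inl_fst, biprod.hom_ext' _ _ (by simp) (hz.eq_of_src _ _)⟩
  refine ⟨mult (fun _ : Fin 1 => M), ⟨1, fun _ => M, fun _ => h,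
    ⟨e ≪≫ KS.splitAt 0 (fun _ : Fin 1 => M)⟩, fun _ => rfl⟩, ?_, fun U hU => ?_⟩
  · exact Nat.card_pos_iff.2 ⟨⟨⟨0, rfl⟩⟩, inferInstance⟩
  · obtain ⟨⟨⟨i, hi⟩⟩, -⟩ := Nat.card_pos_iff.1 (Nat.pos_of_ne_zero hU)
    exact hi.symm

theorem HasCount.add {A B M : X.Modules} {a b} (hA : HasCount A a) (hB : HasCount B b)
    (e : M ≅ A ⊞ B) : HasCount M (a + b) := by
  obtain ⟨n, F, hF, ⟨φ⟩, ha⟩ := hA
  obtain ⟨m, G, hG, ⟨ψ⟩, hb⟩ := hB
  refine ⟨n + m, Fin.append F G, fun i => ?_, ⟨e ≪≫ biprod.mapIso φ ψ ≪≫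
    { hom := biprod.desc
        (Sigma.desc fun i => eqToHom (Fin.append_left F G i).symm ≫ Sigma.ι _ (Fin.castAdd m i))
        (Sigma.desc fun i => eqToHom (Fin.append_right F G i).symm ≫ Sigma.ι _ (Fin.natAdd n i))
      inv := Sigma.desc fun i => Fin.addCases
        (motive := fun i => Fin.append F G i ⟶ (∐ F) ⊞ (∐ G))
        (fun l => eqToHom (Fin.append_left F G l) ≫ Sigma.ι F l ≫ biprod.inl)
        (fun l => eqToHom (Fin.append_right F G l) ≫ Sigma.ι G l ≫ biprod.inr) i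
      hom_inv_id := by
        refine biprod.hom_ext' _ _ (Sigma.hom_ext _ _ fun l => ?_) (Sigma.hom_ext _ _ fun l => ?_)
          <;> simp
      inv_hom_id := by
        refine Sigma.hom_ext _ _ fun i => ?_
        induction i using Fin.addCases <;> simp }⟩, fun U => ?_⟩
  · induction i using Fin.addCases with
    | left l => rw [Fin.append_left]; exact hF l
    | right l => rw [Fin.append_right]; exact hG l
  · rw [Pi.add_apply, ← ha, ← hb, mult, mult, mult, ← Nat.card_sum]
    exact Nat.card_congr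
      (((finSumFinEquiv (m := n) (n := m)).symm.subtypeEquiv
        (q := fun s => key (Sum.elim F G s) = U) fun i => by
          induction i using Fin.addCases <;> simp).trans Equiv.subtypeSum)

/-- Equal multiplicities give isomorphic modules. -/
theorem HasCount.nonempty_iso {M N : X.Modules} {c} (hM : HasCount M c) (hN : HasCount N c) :
    Nonempty (M ≅ N) := by
  classical
  obtain ⟨n, F, -, ⟨φ⟩, hF⟩ := hM
  obtain ⟨m, G, -, ⟨ψ⟩, hG⟩ := hN
  have hf : ∀ U, Nonempty ({i // key (F i) = U} ≃ {j // key (G j) = U}) := fun U =>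
    ⟨Finite.equivFinOfCardEq ((hF U).trans (hG U).symm) |>.trans
      (Finite.equivFinOfCardEq rfl).symm⟩
  let e : Fin n ≃ Fin m := Equiv.ofFiberEquiv (f := fun i => key (F i)) (g := fun j => key (G j))
    fun U => (hf U).some
  have he : ∀ i, Nonempty (F i ≅ G (e i)) := fun i =>
    key_eq_iff.1 (Equiv.ofFiberEquiv_map (f := fun i => key (F i)) (g := fun j => key (G j))
      (fun U => (hf U).some) i).symm
  exact ⟨φ ≪≫ Sigma.whiskerEquiv e (fun i => (he i).some.symm) ≪≫ ψ.symm⟩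

variable (k : Type u) [Field k] [X.Over (Spec (CommRingCat.of k))]
  [IsProper (X ↘ Spec (CommRingCat.of k))]

theorem finite_end_summand {M : X.Modules} (hM : Coh.IsCoh M) {n : ℕ} {F : Fin n → X.Modules}
    (e : M ≅ ∐ F) (i : Fin n) : Module.Finite k (End (F i)) := by
  classical
  have := KS.finite_hom k hM hM
  let π : (∐ F) ⟶ F i := Sigma.desc fun j => if h : j = i then eqToHom (congrArg F h) else 0
  have hπ : Sigma.ι F i ≫ π = 𝟙 _ := by simp [π]
  let φ : (M ⟶ M) →ₗ[k] End (F i) :=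
    (Linear.leftComp k (F i) (Sigma.ι F i ≫ e.inv)).comp (Linear.rightComp k M (e.hom ≫ π))
  refine Module.Finite.of_surjective φ fun a =>
    ⟨e.hom ≫ π ≫ (a : F i ⟶ F i) ≫ Sigma.ι F i ≫ e.inv, ?_⟩
  change (Sigma.ι F i ≫ e.inv) ≫ (e.hom ≫ π ≫ (a : F i ⟶ F i) ≫ Sigma.ι F i ≫ e.inv) ≫
    e.hom ≫ π = a
  simp [reassoc_of% hπ, hπ]

include k in
theorem HasCount.unique {M : X.Modules} (hM : Coh.IsCoh M) {a b} (ha : HasCount M a)
    (hb : HasCount M b) : a = b := by
  obtain ⟨n, F, hF, ⟨φ⟩, hca⟩ := ha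
  obtain ⟨m, G, hG, ⟨ψ⟩, hcb⟩ := hb
  obtain ⟨e, he⟩ := KS.unique_decomp (k := k) n m F G
    (fun i => finite_end_summand k hM φ i) hF hG ⟨φ.symm ≪≫ ψ⟩
  funext U
  rw [← hca, ← hcb]
  exact Nat.card_congr (e.subtypeEquiv fun i => by rw [key_eq_iff.2 (he i)])

include k in
theorem exists_hasCount {M : X.Modules} (hM : Coh.IsCoh M) : ∃ c, HasCount M c := by
  have : Module.Finite k (End M) := KS.finite_hom k hM hM
  obtain ⟨n, F, hF, e⟩ := KS.exists_decomp (k := k) _ M le_rfl
  exact ⟨_, n, F, hF, e, fun _ => rfl⟩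

end Groth.VBCurves.Weil
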